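import Cfsg.Agent.Lib.FischerLarge43.Cand

/-!
# Candidates: part 1
-/

set_option autoImplicit false
set_option maxRecDepth 100000

namespace Cfsg.Agent.Lib.FischerLarge43

theorem block8 : blockOK 8 568938585417005302282991237784797271706435897533746037048990252100780884225 = true := by decide +kernel

theorem block9 : blockOK 9 454086651420010178615624049603046098889505062164322495122195760211875398401 = true := by decide +kernel

theorem block10 : blockOK 10 454086678379956845766263844270061185568853368880528454180946889810007884545 = true := by decide +kernel

theorem block11 : blockOK 11 459394067400745480125928529588301371092803907977800413327542372278720332033 = true := by decide +kernel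

theorem block12 : blockOK 12 906399473044154259055109432259003443330119247904122535023444670252000018689 = true := by decide +kernel

theorem block13 : blockOK 13 455860373271188692635456724040840995756080024308690496362034769847189045505 = true := by decide +kernel

theorem block14 : blockOK 14 457627220335967083242141758389794104257812081135597637162736148087669063937 = true := by decide +kernel

theorem block15 : blockOK 15 906399473044154259055109432259003443330119247884624979404699930922338812161 = true := by decide +kernel

theorem part1 : ∀ i, 8 ≤ i → i < 16 → ∃ W, blockOK i W = true := by
  intro i h1 h2
  interval_cases i
  exacts [⟨_, block8⟩, ⟨_, block9⟩, ⟨_, block10⟩, ⟨_, block11⟩, ⟨_, block12⟩, ⟨_, block13⟩, ⟨_, block14⟩, ⟨_, block15⟩]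

end Cfsg.Agent.Lib.FischerLarge43
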