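import Cfsg.Agent.Lib.FischerLarge43.Cand

/-!
# Candidates: part 2
-/

set_option autoImplicit false
set_option maxRecDepth 100000

namespace Cfsg.Agent.Lib.FischerLarge43

theorem block16 : blockOK 16 459394067400745492680132001821804190639504532580968111103355688686113063169 = true := by decide +kernel

theorem block17 : blockOK 17 454086651420010178615624049603046098889821792272693119552195888258239169281 = true := by decide +kernel

theorem block18 : blockOK 18 454086678379956845766263844270061185568853368880528454162500145732003365633 = true := by decide +kernel

theorem block19 : blockOK 19 459394067400745486403030352663720029325658055394923113592247446046842618113 = true := by decide +kernel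

theorem block20 : blockOK 20 454086678379956845766263844270061185568844262078616414507139561182162190849 = true := by decide +kernel

theorem block21 : blockOK 21 454086624460063511464984254936031011189294057670772262438166259531845271810 = true := by decide +kernel

theorem block22 : blockOK 22 454086624460063511464984254936031011189294057670772262438166259531845271810 = true := by decide +kernel

theorem block23 : blockOK 23 454086678379956845766263844270061185568848176583669919297978127079664992513 = true := by decide +kernel

theorem part2 : ∀ i, 16 ≤ i → i < 24 → ∃ W, blockOK i W = true := by
  intro i h1 h2
  interval_cases i
  exacts [⟨_, block16⟩, ⟨_, block17⟩, ⟨_, block18⟩, ⟨_, block19⟩, ⟨_, block20⟩, ⟨_, block21⟩, ⟨_, block22⟩, ⟨_, block23⟩]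

end Cfsg.Agent.Lib.FischerLarge43
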