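import Cfsg.Agent.Lib.FischerLarge43.Cand

/-!
# Candidates: part 3
-/

set_option autoImplicit false
set_option maxRecDepth 100000

namespace Cfsg.Agent.Lib.FischerLarge43

theorem block24 : blockOK 24 454086651420010178615624049603046098889499869867463960220780253407822938881 = true := by decide +kernel

theorem block25 : blockOK 25 454086624460063511464984254936031011189294057591544099923901921938301321475 = true := by decide +kernel

theorem block26 : blockOK 26 454086624460063511464984254936031011189294057591544099923901921938301321475 = true := by decide +kernel

theorem block27 : blockOK 27 454086651420010178615624049603046098889494677570605425374704978833489134081 = true := by decide +kernel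

theorem block28 : blockOK 28 459394067400745486403030352663720029326987283390706825261698403922098585857 = true := by decide +kernel

theorem block29 : blockOK 29 454086651420010178615624049603046098889505062164322495085302272060165260033 = true := by decide +kernel

theorem block30 : blockOK 30 454086678379956845766263844270061185568853368880528454144053401653998781185 = true := by decide +kernel

theorem block31 : blockOK 31 459394067400745492680132001821804190638175304585184399433904730810857095425 = true := by decide +kernel

theorem part3 : ∀ i, 24 ≤ i → i < 32 → ∃ W, blockOK i W = true := by
  intro i h1 h2
  interval_cases i
  exacts [⟨_, block24⟩, ⟨_, block25⟩, ⟨_, block26⟩, ⟨_, block27⟩, ⟨_, block28⟩, ⟨_, block29⟩, ⟨_, block30⟩, ⟨_, block31⟩]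

end Cfsg.Agent.Lib.FischerLarge43
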