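import Cfsg.Agent.Lib.FischerLarge43.Cand

/-!
# Candidates: part 4
-/

set_option autoImplicit false
set_option maxRecDepth 100000

namespace Cfsg.Agent.Lib.FischerLarge43

theorem block32 : blockOK 32 459394067400745486403030266435123426803715109373301695001000244222078550273 = true := by decide +kernel

theorem block33 : blockOK 33 454086651420010178615624049603046098889505062164322495085302272060161327873 = true := by decide +kernel

theorem block34 : blockOK 34 454086678379956845766263844270061185569170098988899078629393761930081207041 = true := by decide +kernel

theorem block35 : blockOK 35 459394067400745856752032654249288493113961850629836533370520509724858843393 = true := by decide +kernel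

theorem block36 : blockOK 36 454086651420010178615624049603046098889499869867463960220780253407822938881 = true := by decide +kernel

theorem block37 : blockOK 37 454086624460063511464984254936031011189294057591544099923901921938301321475 = true := by decide +kernel

theorem block38 : blockOK 38 454086624460063511464984254936031011189294057591544099923901921938301321475 = true := by decide +kernel

theorem block39 : blockOK 39 454086651420010178615624049603046098889494677570605425374704978833489134081 = true := by decide +kernel

theorem part4 : ∀ i, 32 ≤ i → i < 40 → ∃ W, blockOK i W = true := by
  intro i h1 h2
  interval_cases i
  exacts [⟨_, block32⟩, ⟨_, block33⟩, ⟨_, block34⟩, ⟨_, block35⟩, ⟨_, block36⟩, ⟨_, block37⟩, ⟨_, block38⟩, ⟨_, block39⟩]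

end Cfsg.Agent.Lib.FischerLarge43
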