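import Cfsg.Agent.Lib.FischerLarge43.Cand

/-!
# Candidates: part 5
-/

set_option autoImplicit false
set_option maxRecDepth 100000

namespace Cfsg.Agent.Lib.FischerLarge43

theorem block40 : blockOK 40 454086678379956845766263844270061185568844262078616414507139561182162190849 = true := by decide +kernel

theorem block41 : blockOK 41 454086624460063511464984254936031011189294057670772262438166259531845271810 = true := by decide +kernel

theorem block42 : blockOK 42 454086624460063511464984254936031011189294057670772262438166259531845271810 = true := by decide +kernel

theorem block43 : blockOK 43 454086678379956845766263844270061185568848176583669919297978127079664992513 = true := by decide +kernel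

theorem block44 : blockOK 44 459394067400745856752032654249288493115291078625620245039971467600114811137 = true := by decide +kernel

theorem block45 : blockOK 45 454086651420010178615624049603046098889505062164322495066855527982156743425 = true := by decide +kernel

theorem block46 : blockOK 46 454086678379956845766263844270061185568853368880528454162500145732007297793 = true := by decide +kernel

theorem block47 : blockOK 47 459394067400745486403030266435123426802385881377517983331549286346822582529 = true := by decide +kernel

theorem part5 : ∀ i, 40 ≤ i → i < 48 → ∃ W, blockOK i W = true := by
  intro i h1 h2
  interval_cases i
  exacts [⟨_, block40⟩, ⟨_, block41⟩, ⟨_, block42⟩, ⟨_, block43⟩, ⟨_, block44⟩, ⟨_, block45⟩, ⟨_, block46⟩, ⟨_, block47⟩]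

end Cfsg.Agent.Lib.FischerLarge43
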