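import Cfsg.Agent.Lib.FischerLarge43.Cand

/-!
# Candidates: part 6
-/

set_option autoImplicit false
set_option maxRecDepth 100000

namespace Cfsg.Agent.Lib.FischerLarge43

theorem block48 : blockOK 48 906399473044154259055109432259003443330119247904122535023444670252000018689 = true := by decide +kernel

theorem block49 : blockOK 49 455860373271188692635456724040840995756080024308690496362034769847189045505 = true := by decide +kernel

theorem block50 : blockOK 50 457627220335967083242141758389794104257812081135597637162736148087669063937 = true := by decide +kernel

theorem block51 : blockOK 51 906399473044154259055109432259003443330119247884624979404699930922338812161 = true := by decide +kernel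

theorem block52 : blockOK 52 459394067400745473848826792738736323725131895927457661645450667620638458113 = true := by decide +kernel

theorem block53 : blockOK 53 454086651420010178615624049603046098889505062164322496192106916487029392129 = true := by decide +kernel

theorem block54 : blockOK 54 454086678379956845766263844270061185568853368880528454180946890063410955009 = true := by decide +kernel

theorem block55 : blockOK 55 459394067400745480125928529586941025635693539966166734512910822226855526657 = true := by decide +kernel

theorem part6 : ∀ i, 48 ≤ i → i < 56 → ∃ W, blockOK i W = true := by
  intro i h1 h2
  interval_cases i
  exacts [⟨_, block48⟩, ⟨_, block49⟩, ⟨_, block50⟩, ⟨_, block51⟩, ⟨_, block52⟩, ⟨_, block53⟩, ⟨_, block54⟩, ⟨_, block55⟩]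

end Cfsg.Agent.Lib.FischerLarge43
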