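import Cfsg.Agent.Lib.FischerLarge43.Cand

/-!
# Candidates: part 7
-/

set_option autoImplicit false
set_option maxRecDepth 100000

namespace Cfsg.Agent.Lib.FischerLarge43

theorem block56 : blockOK 56 459394067400745480125928529586829521911030114846242767590998538294581592321 = true := by decide +kernel

theorem block57 : blockOK 57 454086651420010178615624049603046098889505062164322495103749016391568917249 = true := by decide +kernel

theorem block58 : blockOK 58 454086678379956845766263844270061185568853368880528455269304790158871429889 = true := by decide +kernel

theorem block59 : blockOK 59 568938585417005302282991237784797271705106669537962325379539294225524916481 = true := by decide +kernel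

theorem block60 : blockOK 60 1358712321627010878227243705050359648584026425377887484490715747533684015361 = true := by decide +kernel

theorem block61 : blockOK 61 457627220335967083242141758389788703297413539996089258150417948937872802049 = true := by decide +kernel

theorem block62 : blockOK 62 456295183291036498154065113660164448360913672169720942384460966748544368897 = true := by decide +kernel

theorem block63 : blockOK 63 1358712321627010878227243705050359648584026425397385040109388429269307293953 = true := by decide +kernel

theorem part7 : ∀ i, 56 ≤ i → i < 64 → ∃ W, blockOK i W = true := by
  intro i h1 h2
  interval_cases i
  exacts [⟨_, block56⟩, ⟨_, block57⟩, ⟨_, block58⟩, ⟨_, block59⟩, ⟨_, block60⟩, ⟨_, block61⟩, ⟨_, block62⟩, ⟨_, block63⟩]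

end Cfsg.Agent.Lib.FischerLarge43
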