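import Cfsg.Agent.Lib.FischerLarge43.CandK0
import Cfsg.Agent.Lib.FischerLarge43.CandK1
import Cfsg.Agent.Lib.FischerLarge43.CandK2
import Cfsg.Agent.Lib.FischerLarge43.CandK3
import Cfsg.Agent.Lib.FischerLarge43.CandK4
import Cfsg.Agent.Lib.FischerLarge43.CandK5
import Cfsg.Agent.Lib.FischerLarge43.CandK6
import Cfsg.Agent.Lib.FischerLarge43.CandK7

/-!
# Every candidate other than `cb0` has a witness
-/

set_option autoImplicit false

namespace Cfsg.Agent.Lib.FischerLarge43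

theorem exists_witness {cb : Nat} (h : cb < 2048) : ∃ w, witOK cb w = true := by
  obtain ⟨W, hW⟩ : ∃ W, blockOK (cb / 32) W = true := by
    have hc : cb / 32 < 64 := by omega
    rcases (by omega : cb / 32 < 8 ∨ (8 ≤ cb / 32 ∧ cb / 32 < 16) ∨ (16 ≤ cb / 32 ∧ cb / 32 < 24) ∨
      (24 ≤ cb / 32 ∧ cb / 32 < 32) ∨ (32 ≤ cb / 32 ∧ cb / 32 < 40) ∨ (40 ≤ cb / 32 ∧ cb / 32 < 48) ∨
      (48 ≤ cb / 32 ∧ cb / 32 < 56) ∨ (56 ≤ cb / 32 ∧ cb / 32 < 64)) with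
      e | e | e | e | e | e | e | e
    exacts [part0 _ (Nat.zero_le _) e, part1 _ e.1 e.2, part2 _ e.1 e.2, part3 _ e.1 e.2, part4 _ e.1 e.2,
      part5 _ e.1 e.2, part6 _ e.1 e.2, part7 _ e.1 e.2]
  have := List.all_eq_true.1 hW (cb % 32) (List.mem_range.2 (Nat.mod_lt _ (by norm_num)))
  rw [Nat.div_add_mod] at this
  exact ⟨_, this⟩

end Cfsg.Agent.Lib.FischerLarge43
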