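import Cfsg.Agent.Lib.FischerLarge43.Data
import Cfsg.Agent.Lib.Golay.Code

/-!
# The 24 points: the pairs are the states outside the class of `z`, the kernel is the code
-/

set_option autoImplicit false
set_option maxRecDepth 100000

namespace Cfsg.Agent.Lib.FischerLarge43

open Cfsg.Agent.Lib.FischerLarge45.Model

/-- the sum of the images of the points of a mask -/
def phi (m : Nat) : Nat := sumBits (fun i => vg.getD i 0) m (List.range 24)

/-- the image of a pair -/
def pairV (i k : Nat) : Nat := vg.getD i 0 ^^^ vg.getD k 0

/-- masks with unit images -/
def unitSel : List Nat := [3, 5, 24, 1032, 96, 1387, 307, 1324, 1394, 636, 1176]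

theorem pairs_all : (ttList cb0).all (fun a => (List.range 24).any fun i => (List.range i).any fun k =>
    pairV i k == a) = true := by
  decide +kernel

theorem pairs_meet : (let m := maskOf (ttList cb0)
    (List.range 24).all fun i => (List.range i).all fun k => (List.range 24).all fun j => (List.range j).all fun l =>
      (i == j && k == l) || (m.testBit (pairV i k ^^^ pairV j l) == (i == j || i == l || k == j || k == l))) = true := by
  decide +kernel

/-- `phi` with a parity bit -/
def phiP (m : Nat) : Nat := sumBits (fun i => vg.getD i 0 ||| 2048) m (List.range 24)

theorem rows_zero : Cfsg.Agent.Lib.Golay.rows.all (fun r => phiP r == 0 && decide (r < 2 ^ 24) &&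
    ((List.range 24).filter r.testBit).length % 2 == 0) = true := by decide +kernel

theorem high_kernel : (List.range 4096).all (fun t => phiP (t <<< 12) != 0 ||
    Cfsg.Agent.Lib.Golay.inCode (t <<< 12)) = true := by
  decide +kernel

theorem units_ok : (List.range 11).all (fun j => phi (unitSel.getD j 0) == 2 ^ j) = true := by decide +kernel

theorem vg_lt : (List.range 24).all (fun i => decide (vg.getD i 0 < 2048)) = true := by decide +kernel

/-- the 27 monomial maps, as lists of images of the basis -/
def mono27 : List (List Nat) :=
  let h := monoKeys.getD 0 0
  let s := monoKeys.getD 1 0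
  let p := monoKeys.getD 2 0
  (List.range 3).flatMap fun a => (List.range 3).flatMap fun b => (List.range 3).map fun c =>
    (List.range 12).map fun j => (Nat.repeat (ap h) a) ((Nat.repeat (ap s) b) ((Nat.repeat (ap p) c) (2 ^ j)))

theorem mono27_ok : mono27.length = 27 ∧ mono27.Nodup := by decide +kernel

theorem mono27_closed : mono27.all (fun t => monoKeys.all fun g =>
    mono27.contains ((t.map (ap g)))) = true := by decide +kernel

theorem plane_R : ((List.range 64).filter fun u => isR (uvec u)).length = 45 := by decide +kernel

end Cfsg.Agent.Lib.FischerLarge43
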