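import Cfsg.Agent.Lib.FischerLarge43.Check
import Cfsg.Agent.Lib.FischerLarge43.CheckPts
import Cfsg.Agent.Lib.FischerLarge43.CandAll
import Cfsg.Agent.Lib.Golay.M24

/-!
# The 24 points

An additive bijection of the states preserving the 276 is given by a permutation of the 24 points,
and that permutation preserves the code.  No other sign pattern admits a transitive group.

Owner: helper43.
-/

set_option autoImplicit false
set_option maxRecDepth 100000

namespace Cfsg.Agent.Lib.FischerLarge43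

open Cfsg.Agent.Lib.FischerLarge45.Model (sumBits sumBits_xor)
open Cfsg.Agent.Lib.Golay (idx pt idx_lt idx_pt pt_idx ptEquiv indexHom indexHom_apply rows inCode setOfMask mem_setOfMask combine combine_zero inCode_iff enc_eq enc_lt enc_mod enc_zero mem_M24_of_rows setOfMask_mem_supports)
open scoped Pointwise

theorem lists_nodup : (List.range' 1 15).all (fun y => [0, 1].all fun i =>
    decide (orbLists.getD (2 * (y - 1) + i) []).Nodup &&
      (orbLists.getD (2 * (y - 1) + i) []).all fun a => (a >>> 6) &&& 15 == y && decide (a < 2048)) = true ∧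
    uList.Nodup ∧ uList.all (fun a => (a >>> 6) &&& 15 == 0 && decide (a < 2048)) = true := by decide +kernel

theorem cosetList_mem {cb y a : Nat} (hy : y ∈ List.range' 1 15) (ha : a ∈ cosetList cb y) :
    (a >>> 6) &&& 15 = y ∧ a < 2048 := by
  have hl := List.all_eq_true.1 lists_nodup.1 y hy
  simp only [List.all_eq_true, Bool.and_eq_true, decide_eq_true_eq, beq_iff_eq] at hl
  exact (hl (if sgnOf cb y then 1 else 0) (by split <;> simp)).2 a ha

theorem ttList_nodup (cb : Nat) : (ttList cb).Nodup := by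
  refine List.nodup_append.2 ⟨lists_nodup.2.1, List.nodup_flatMap.2 ⟨fun y hy => ?_, ?_⟩, fun a ha b hb e => ?_⟩
  · have hl := List.all_eq_true.1 lists_nodup.1 y hy
    simp only [List.all_eq_true, Bool.and_eq_true, decide_eq_true_eq] at hl
    exact (hl (if sgnOf cb y then 1 else 0) (by split <;> simp)).1
  · refine List.Pairwise.imp_of_mem (R := (· ≠ ·)) (fun {y w} hy hw hne => ?_) List.nodup_range'
    intro a ha hb
    exact hne ((cosetList_mem hy ha).1.symm.trans (cosetList_mem hw hb).1)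
  · subst e
    obtain ⟨y, hy, hmem⟩ := List.mem_flatMap.1 hb
    have h := List.all_eq_true.1 lists_nodup.2.2 a ha
    simp only [Bool.and_eq_true, beq_iff_eq] at h
    have := List.mem_range'_1.1 hy
    have := (cosetList_mem hy hmem).1
    omega

theorem ttList_lt {cb a : Nat} (ha : a ∈ ttList cb) : a < 2048 ∧ a ≠ 0 := by
  rcases List.mem_append.1 ha with h | h
  · have h' := List.all_eq_true.1 lists_nodup.2.2 a h
    simp only [Bool.and_eq_true, decide_eq_true_eq] at h'
    have hn : ∀ w ∈ uList, w ≠ 0 := by decide +kernel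
    exact ⟨h'.2, hn a h⟩
  · obtain ⟨y, hy, hmem⟩ := List.mem_flatMap.1 h
    obtain ⟨h1, h2⟩ := cosetList_mem hy hmem
    refine ⟨h2, fun e => ?_⟩
    subst e
    have := List.mem_range'_1.1 hy
    simp at h1
    omega

/-- an additive map of the states keeping the 276 -/
structure Auto (cb : Nat) (f : Nat → Nat) : Prop where
  lt : ∀ a < 2048, f a < 2048
  add : ∀ a < 2048, ∀ b < 2048, f (a ^^^ b) = f a ^^^ f b
  inj : ∀ a < 2048, ∀ b < 2048, f a = f b → a = b
  mem : ∀ a < 2048, f a ∈ ttList cb ↔ a ∈ ttList cb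

theorem Auto.perm {cb : Nat} {f : Nat → Nat} (hf : Auto cb f) : ((ttList cb).map f).Perm (ttList cb) := by
  have hnd : ((ttList cb).map f).Nodup :=
    (ttList_nodup cb).map_on fun a ha b hb e => hf.inj a (ttList_lt ha).1 b (ttList_lt hb).1 e
  refine (List.subperm_of_subset hnd fun a ha => ?_).perm_of_length_le (by rw [List.length_map])
  obtain ⟨b, hb, rfl⟩ := List.mem_map.1 ha
  exact (hf.mem b (ttList_lt hb).1).2 hb

theorem cnt_eq (l : List Nat) (p : Nat → Bool) : cnt l p = l.countP p := by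
  have key : ∀ n, l.foldl (fun n b => bif p b then n + 1 else n) n = n + l.countP p := by
    induction l with
    | nil => simp
    | cons a l ih =>
      intro n
      rw [List.foldl_cons, ih, List.countP_cons]
      cases p a <;> simp <;> omega
  simpa [cnt] using key 0

theorem mask_iff (cb a : Nat) : (maskOf (ttList cb)).testBit a = true ↔ a ∈ ttList cb := by
  generalize ttList cb = l
  induction l with
  | nil => simp [maskOf]
  | cons x l ih =>
    show ((1 <<< x) ||| maskOf l).testBit a = true ↔ _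
    rw [Nat.testBit_or, Bool.or_eq_true, ih, List.mem_cons, Nat.one_shiftLeft, Nat.testBit_two_pow,
      decide_eq_true_eq, eq_comm]

theorem Auto.adj {cb : Nat} {f : Nat → Nat} (hf : Auto cb f) {a b : Nat} (ha : a < 2048) (hb : b < 2048) :
    (maskOf (ttList cb)).testBit (f a ^^^ f b) = (maskOf (ttList cb)).testBit (a ^^^ b) := by
  refine Bool.eq_iff_iff.2 ?_
  rw [mask_iff, mask_iff, ← hf.add a ha b hb, hf.mem _ (Nat.xor_lt_two_pow (n := 11) ha hb)]

theorem Auto.cnt_map {cb : Nat} {f : Nat → Nat} (hf : Auto cb f) (p : Nat → Bool) :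
    cnt (ttList cb) p = cnt (ttList cb) (fun b => p (f b)) := by
  rw [cnt_eq, cnt_eq, ← hf.perm.countP_eq, List.countP_map]
  rfl

theorem cnt_congr {l : List Nat} {p q : Nat → Bool} (h : ∀ a ∈ l, p a = q a) : cnt l p = cnt l q := by
  rw [cnt_eq, cnt_eq]
  exact List.countP_congr fun a ha => by rw [h a ha]

theorem Auto.deg_eq {cb : Nat} {f : Nat → Nat} (hf : Auto cb f) {a : Nat} (ha : a < 2048) :
    deg (ttList cb) (maskOf (ttList cb)) (f a) = deg (ttList cb) (maskOf (ttList cb)) a := by
  unfold deg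
  rw [hf.cnt_map]
  exact cnt_congr fun b hb => hf.adj ha (ttList_lt hb).1

theorem Auto.prof_eq {cb : Nat} {f : Nat → Nat} (hf : Auto cb f) {a : Nat} (ha : a < 2048) :
    prof (ttList cb) (maskOf (ttList cb)) (f a) = prof (ttList cb) (maskOf (ttList cb)) a := by
  unfold prof
  rw [hf.cnt_map]
  refine cnt_congr fun b hb => ?_
  have hin : (cnt (ttList cb) fun c => (maskOf (ttList cb)).testBit (f a ^^^ c) &&
        (maskOf (ttList cb)).testBit (f b ^^^ c)) =
      cnt (ttList cb) fun c => (maskOf (ttList cb)).testBit (a ^^^ c) &&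
        (maskOf (ttList cb)).testBit (b ^^^ c) := by
    rw [hf.cnt_map]
    exact cnt_congr fun c hc => by rw [hf.adj ha (ttList_lt hc).1, hf.adj (ttList_lt hb).1 (ttList_lt hc).1]
  rw [hf.adj ha (ttList_lt hb).1, hin]

/-- a transitive pattern is the true one -/
theorem eq_cb0 {cb : Nat} (hcb : cb < 2048)
    (h : ∀ a ∈ ttList cb, ∀ b ∈ ttList cb, ∃ f, Auto cb f ∧ f a = b) : cb = cb0 := by
  obtain ⟨w, hw⟩ := exists_witness hcb
  simp only [witOK, Bool.or_eq_true, beq_iff_eq, Bool.and_eq_true, List.contains_iff_mem] at hw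
  refine hw.resolve_right fun ⟨⟨ha, hb⟩, hne⟩ => ?_
  obtain ⟨f, hf, hfe⟩ := h _ ha _ hb
  have h1 := hf.deg_eq (ttList_lt ha).1
  have h2 := hf.prof_eq (ttList_lt ha).1
  rw [hfe] at h1 h2
  cases hblt : Nat.blt w 64
  · rw [hblt] at hne
    simp only [cond_false, bne_iff_ne] at hne
    exact hne h2.symm
  · rw [hblt] at hne
    simp only [cond_true, bne_iff_ne] at hne
    exact hne h1.symm

/-- the image of a pair of points -/
def pvF (i k : Fin 24) : Nat := pairV i.1 k.1

theorem pvF_comm (i k : Fin 24) : pvF i k = pvF k i := Nat.xor_comm _ _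

theorem vg_bound (i : Nat) : vg.getD i 0 < 2048 := by
  by_cases h : i < 24
  · simpa using List.all_eq_true.1 vg_lt i (List.mem_range.2 h)
  · rw [List.getD_eq_default _ _ (by simp [vg]; omega)]
    norm_num

theorem pvF_lt (i k : Fin 24) : pvF i k < 2048 :=
  Nat.xor_lt_two_pow (n := 11) (vg_bound _) (vg_bound _)

theorem pvF_mem {i k : Fin 24} (h : i ≠ k) : pvF i k ∈ ttList cb0 := by
  have := List.all_eq_true.1 (List.all_eq_true.1 pairs_ok i.1 (List.mem_range.2 i.2)) k.1 (List.mem_range.2 k.2)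
  simp only [Bool.or_eq_true, beq_iff_eq] at this
  exact List.contains_iff_mem.1 (this.resolve_left fun e => h (Fin.ext e))

theorem pvF_surj {a : Nat} (ha : a ∈ ttList cb0) : ∃ i k : Fin 24, i ≠ k ∧ pvF i k = a := by
  obtain ⟨i, hi, h⟩ := List.any_eq_true.1 (List.all_eq_true.1 pairs_all a ha)
  obtain ⟨k, hk, e⟩ := List.any_eq_true.1 h
  have hi' := List.mem_range.1 hi
  have hk' := List.mem_range.1 hk
  exact ⟨⟨i, hi'⟩, ⟨k, hk'.trans hi'⟩, fun e => by have := congrArg Fin.val e; simp at this; omega,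
    beq_iff_eq.1 e⟩

/-- two pairs meet -/
def Share (i k j l : Fin 24) : Prop := i = j ∨ i = l ∨ k = j ∨ k = l

/-- two pairs are equal -/
def Same (i k j l : Fin 24) : Prop := (i = j ∧ k = l) ∨ (i = l ∧ k = j)

theorem meet_iff {i k j l : Fin 24} (hik : i ≠ k) (hjl : j ≠ l) (hs : ¬ Same i k j l) :
    pvF i k ^^^ pvF j l ∈ ttList cb0 ↔ Share i k j l := by
  have key : ∀ {i k j l : Fin 24}, k < i → l < j → ¬ Same i k j l →
      (pvF i k ^^^ pvF j l ∈ ttList cb0 ↔ Share i k j l) := by
    intro i k j l h1 h2 hs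
    have h := List.all_eq_true.1 (List.all_eq_true.1 (List.all_eq_true.1 (List.all_eq_true.1 pairs_meet i.1
      (List.mem_range.2 i.2)) k.1 (List.mem_range.2 h1)) j.1 (List.mem_range.2 j.2)) l.1 (List.mem_range.2 h2)
    simp only [Bool.or_eq_true, Bool.and_eq_true, beq_iff_eq] at h
    have h' := h.resolve_left fun e => hs (Or.inl ⟨Fin.ext e.1, Fin.ext e.2⟩)
    rw [← mask_iff]
    show (maskOf (ttList cb0)).testBit (pairV i.1 k.1 ^^^ pairV j.1 l.1) = true ↔ _
    rw [h']
    simp [Share, Fin.ext_iff, or_assoc]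
  rcases lt_or_gt_of_ne hik with h1 | h1 <;> rcases lt_or_gt_of_ne hjl with h2 | h2
  · rw [pvF_comm i k, pvF_comm j l, key h1 h2 (by unfold Same at *; tauto)]; unfold Share; tauto
  · rw [pvF_comm i k, key h1 h2 (by unfold Same at *; tauto)]; unfold Share; tauto
  · rw [pvF_comm j l, key h1 h2 (by unfold Same at *; tauto)]; unfold Share; tauto
  · exact key h1 h2 hs

theorem exists_avoid (s : Finset (Fin 24)) (h : s.card < 24) : ∃ x, x ∉ s := by
  by_contra hh
  push Not at hh
  rw [Finset.eq_univ_iff_forall.2 hh, Finset.card_univ, Fintype.card_fin] at h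
  exact lt_irrefl _ h

theorem pvF_inj {i k j l : Fin 24} (hik : i ≠ k) (hjl : j ≠ l) (h : pvF i k = pvF j l) : Same i k j l := by
  by_contra hs
  by_cases hsh : Share i k j l
  · have := (meet_iff hik hjl hs).2 hsh
    rw [h, Nat.xor_self] at this
    exact (ttList_lt this).2 rfl
  · obtain ⟨w, hw⟩ := exists_avoid {i, k, j, l} (lt_of_le_of_lt Finset.card_le_four (by norm_num))
    simp only [Finset.mem_insert, Finset.mem_singleton, not_or] at hw
    have hiw : i ≠ w := Ne.symm hw.1
    have h1 := (meet_iff hik hiw (by unfold Same; tauto)).2 (Or.inl rfl)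
    rw [h] at h1
    have h2 := (meet_iff hjl hiw (by unfold Same Share at *; tauto)).1 h1
    unfold Share at hsh h2
    rcases h2 with e | e | e | e
    · exact hsh (Or.inl e.symm)
    · exact hw.2.2.1 e.symm
    · exact hsh (Or.inr (Or.inl e.symm))
    · exact hw.2.2.2 e.symm

theorem same_iff {i k j l : Fin 24} (hik : i ≠ k) :
    Same i k j l ↔ ({i, k} : Finset (Fin 24)) = {j, l} := by
  constructor
  · rintro (⟨rfl, rfl⟩ | ⟨rfl, rfl⟩)
    · rfl
    · exact Finset.pair_comm _ _
  · intro h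
    have h1 : i ∈ ({j, l} : Finset (Fin 24)) := h ▸ Finset.mem_insert_self _ _
    have h2 : k ∈ ({j, l} : Finset (Fin 24)) := h ▸ Finset.mem_insert_of_mem (Finset.mem_singleton_self _)
    simp only [Finset.mem_insert, Finset.mem_singleton] at h1 h2
    unfold Same
    rcases h1 with e1 | e1 <;> rcases h2 with e2 | e2
    · exact absurd (e1.trans e2.symm) hik
    · exact Or.inl ⟨e1, e2⟩
    · exact Or.inr ⟨e1, e2⟩
    · exact absurd (e1.trans e2.symm) hik

/-- pairs meeting as the pairs of 24 points are induced by a permutation -/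
theorem star (F : Fin 24 → Fin 24 → Finset (Fin 24)) (hcard : ∀ i k, i ≠ k → (F i k).card = 2)
    (hsym : ∀ i k, i ≠ k → F i k = F k i) (hne : ∀ i k l, i ≠ k → i ≠ l → k ≠ l → F i k ≠ F i l)
    (hmeet : ∀ i k l, i ≠ k → i ≠ l → k ≠ l → ∃ x, x ∈ F i k ∧ x ∈ F i l)
    (hdis : ∀ i k j l, i ≠ k → j ≠ l → ¬ Share i k j l → ∀ x, x ∈ F i k → x ∉ F j l) :
    ∃ σ : Equiv.Perm (Fin 24), ∀ i k, i ≠ k → F i k = {σ i, σ k} := by
  have hcommon : ∀ i, ∃ x, ∀ k, i ≠ k → x ∈ F i k := by
    intro i
    obtain ⟨k1, hk1⟩ := exists_avoid {i} (by simp)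
    obtain ⟨k2, hk2⟩ := exists_avoid {i, k1} (lt_of_le_of_lt Finset.card_le_two (by norm_num))
    simp only [Finset.mem_insert, Finset.mem_singleton, not_or] at hk1 hk2
    obtain ⟨a, ha1, ha2⟩ := hmeet i k1 k2 (Ne.symm hk1) (Ne.symm hk2.1) (Ne.symm hk2.2)
    refine ⟨a, fun k3 hk3 => ?_⟩
    by_contra ha3
    have h31 : k3 ≠ k1 := fun e => ha3 (e ▸ ha1)
    have h32 : k3 ≠ k2 := fun e => ha3 (e ▸ ha2)
    obtain ⟨b, hb3, hb1⟩ := hmeet i k3 k1 hk3 (Ne.symm hk1) h31
    obtain ⟨c, hc3, hc2⟩ := hmeet i k3 k2 hk3 (Ne.symm hk2.1) h32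
    have hab : a ≠ b := fun e => ha3 (e ▸ hb3)
    have hac : a ≠ c := fun e => ha3 (e ▸ hc3)
    have hF1 : F i k1 = {a, b} := (Finset.eq_of_subset_of_card_le (by
      intro x hx; simp only [Finset.mem_insert, Finset.mem_singleton] at hx; rcases hx with rfl | rfl <;> assumption)
      (by rw [hcard i k1 (Ne.symm hk1), Finset.card_pair hab])).symm
    have hF2 : F i k2 = {a, c} := (Finset.eq_of_subset_of_card_le (by
      intro x hx; simp only [Finset.mem_insert, Finset.mem_singleton] at hx; rcases hx with rfl | rfl <;> assumption)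
      (by rw [hcard i k2 (Ne.symm hk2.1), Finset.card_pair hac])).symm
    have hbc : b ≠ c := fun e => hne i k1 k2 (Ne.symm hk1) (Ne.symm hk2.1) (Ne.symm hk2.2) (by rw [hF1, hF2, e])
    have hF3 : F i k3 = {b, c} := (Finset.eq_of_subset_of_card_le (by
      intro x hx; simp only [Finset.mem_insert, Finset.mem_singleton] at hx; rcases hx with rfl | rfl <;> assumption)
      (by rw [hcard i k3 hk3, Finset.card_pair hbc])).symm
    obtain ⟨k4, hk4⟩ := exists_avoid {i, k1, k2, k3} (lt_of_le_of_lt Finset.card_le_four (by norm_num))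
    simp only [Finset.mem_insert, Finset.mem_singleton, not_or] at hk4
    obtain ⟨x, hx4, hx1⟩ := hmeet i k4 k1 (Ne.symm hk4.1) (Ne.symm hk1) hk4.2.1
    obtain ⟨y, hy4, hy2⟩ := hmeet i k4 k2 (Ne.symm hk4.1) (Ne.symm hk2.1) hk4.2.2.1
    obtain ⟨w, hw4, hw3⟩ := hmeet i k4 k3 (Ne.symm hk4.1) hk3 hk4.2.2.2
    have two : ∀ p q : Fin 24, p ≠ q → p ∈ F i k4 → q ∈ F i k4 → F i k4 = {p, q} := fun p q hpq hp hq =>
      (Finset.eq_of_subset_of_card_le (by
        intro x hx; simp only [Finset.mem_insert, Finset.mem_singleton] at hx; rcases hx with rfl | rfl <;> assumption)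
        (by rw [hcard i k4 (Ne.symm hk4.1), Finset.card_pair hpq])).symm
    rw [hF1, Finset.mem_insert, Finset.mem_singleton] at hx1
    rw [hF2, Finset.mem_insert, Finset.mem_singleton] at hy2
    rw [hF3, Finset.mem_insert, Finset.mem_singleton] at hw3
    have h41 := hne i k4 k1 (Ne.symm hk4.1) (Ne.symm hk1) hk4.2.1
    have h42 := hne i k4 k2 (Ne.symm hk4.1) (Ne.symm hk2.1) hk4.2.2.1
    have h43 := hne i k4 k3 (Ne.symm hk4.1) hk3 hk4.2.2.2
    rcases hx1 with ex | ex <;> rw [ex] at hx4
    · rcases hw3 with ew | ew <;> rw [ew] at hw4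
      · exact h41 (by rw [hF1]; exact two a b hab hx4 hw4)
      · exact h42 (by rw [hF2]; exact two a c hac hx4 hw4)
    · rcases hy2 with ey | ey <;> rw [ey] at hy4
      · exact h41 (by rw [hF1]; exact two a b hab hy4 hx4)
      · exact h43 (by rw [hF3]; exact two b c hbc hx4 hy4)
  choose σ hσ using hcommon
  have hinj : Function.Injective σ := by
    intro i j e
    by_contra hij
    obtain ⟨k, hk⟩ := exists_avoid {i, j} (lt_of_le_of_lt Finset.card_le_two (by norm_num))
    obtain ⟨l, hl⟩ := exists_avoid {i, j, k} (lt_of_le_of_lt Finset.card_le_three (by norm_num))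
    simp only [Finset.mem_insert, Finset.mem_singleton, not_or] at hk hl
    refine hdis i k j l (Ne.symm hk.1) (Ne.symm hl.2.1) ?_ (σ i) (hσ i k (Ne.symm hk.1))
      (e ▸ hσ j l (Ne.symm hl.2.1))
    unfold Share
    rintro (h | h | h | h)
    · exact hij h
    · exact hl.1 h.symm
    · exact hk.2 h
    · exact hl.2.2 h.symm
  refine ⟨Equiv.ofBijective σ (Finite.injective_iff_bijective.1 hinj), fun i k hik => ?_⟩
  refine (Finset.eq_of_subset_of_card_le ?_ ?_).symm
  · intro x hx
    simp only [Finset.mem_insert, Finset.mem_singleton, Equiv.ofBijective_apply] at hx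
    rcases hx with rfl | rfl
    · exact hσ i k hik
    · rw [hsym i k hik]; exact hσ k i (Ne.symm hik)
  · rw [hcard i k hik]
    exact (Finset.card_pair (show σ i ≠ σ k from fun e => hik (hinj e))).ge

theorem Auto.zero {cb : Nat} {f : Nat → Nat} (hf : Auto cb f) : f 0 = 0 := by
  have := hf.add 0 (by norm_num) 0 (by norm_num)
  simpa using this

/-- such a map permutes the points -/
theorem Auto.exists_perm {f : Nat → Nat} (hf : Auto cb0 f) :
    ∃ σ : Equiv.Perm (Fin 24), ∀ i k, f (pvF i k) = pvF (σ i) (σ k) := by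
  classical
  have hex : ∀ i k : Fin 24, ∃ p : Fin 24 × Fin 24, i ≠ k → p.1 ≠ p.2 ∧ pvF p.1 p.2 = f (pvF i k) := by
    intro i k
    by_cases hik : i = k
    · exact ⟨(i, k), fun h => absurd hik h⟩
    · obtain ⟨j, l, hjl, e⟩ := pvF_surj ((hf.mem _ (pvF_lt i k)).2 (pvF_mem hik))
      exact ⟨(j, l), fun _ => ⟨hjl, e⟩⟩
  choose p hp using hex
  let F : Fin 24 → Fin 24 → Finset (Fin 24) := fun i k => {(p i k).1, (p i k).2}
  have hFeq : ∀ i k j l, i ≠ k → j ≠ l → (F i k = F j l ↔ Same i k j l) := by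
    intro i k j l hik hjl
    rw [← same_iff (hp i k hik).1]
    constructor
    · intro h
      have e : f (pvF i k) = f (pvF j l) := by
        rw [← (hp i k hik).2, ← (hp j l hjl).2]
        rcases h with ⟨h1, h2⟩ | ⟨h1, h2⟩
        · rw [h1, h2]
        · rw [h1, h2, pvF_comm]
      exact pvF_inj hik hjl (hf.inj _ (pvF_lt _ _) _ (pvF_lt _ _) e)
    · intro h
      refine pvF_inj (hp i k hik).1 (hp j l hjl).1 ?_
      rw [(hp i k hik).2, (hp j l hjl).2]
      rcases h with ⟨h1, h2⟩ | ⟨h1, h2⟩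
      · rw [h1, h2]
      · rw [h1, h2, pvF_comm]
  have hshare : ∀ i k j l, i ≠ k → j ≠ l → ¬ Same i k j l →
      (Share (p i k).1 (p i k).2 (p j l).1 (p j l).2 ↔ Share i k j l) := by
    intro i k j l hik hjl hs
    have hs' : ¬ Same (p i k).1 (p i k).2 (p j l).1 (p j l).2 := fun h =>
      hs ((hFeq i k j l hik hjl).1 ((same_iff (hp i k hik).1).1 h))
    rw [← meet_iff (hp i k hik).1 (hp j l hjl).1 hs', ← meet_iff hik hjl hs, (hp i k hik).2, (hp j l hjl).2,
      ← hf.add _ (pvF_lt _ _) _ (pvF_lt _ _), hf.mem _ (Nat.xor_lt_two_pow (n := 11) (pvF_lt _ _) (pvF_lt _ _))]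
  obtain ⟨σ, hσ⟩ := star F
    (fun i k h => Finset.card_pair (hp i k h).1)
    (fun i k h => (hFeq i k k i h (Ne.symm h)).2 (Or.inr ⟨rfl, rfl⟩))
    (fun i k l hik hil hkl h => by
      rcases (hFeq i k i l hik hil).1 h with ⟨-, e⟩ | ⟨e, -⟩
      · exact hkl e
      · exact hil e)
    (fun i k l hik hil hkl => by
      have hs : ¬ Same i k i l := by unfold Same; tauto
      rcases (hshare i k i l hik hil hs).2 (Or.inl rfl) with e | e | e | e
      · exact ⟨(p i k).1, by simp [F], by simp [F, e]⟩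
      · exact ⟨(p i k).1, by simp [F], by simp [F, e]⟩
      · exact ⟨(p i k).2, by simp [F], by simp [F, e]⟩
      · exact ⟨(p i k).2, by simp [F], by simp [F, e]⟩)
    (fun i k j l hik hjl hsh x hx hx' => by
      have hs : ¬ Same i k j l := by unfold Same Share at *; tauto
      refine hsh ((hshare i k j l hik hjl hs).1 ?_)
      simp only [F, Finset.mem_insert, Finset.mem_singleton] at hx hx'
      unfold Share
      rcases hx with rfl | rfl <;> rcases hx' with e | e <;> tauto)
  refine ⟨σ, fun i k => ?_⟩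
  by_cases hik : i = k
  · subst hik
    simp only [pvF, pairV, Nat.xor_self, hf.zero]
  · rw [← (hp i k hik).2]
    rcases (same_iff (hp i k hik).1).2 (hσ i k hik) with ⟨h1, h2⟩ | ⟨h1, h2⟩
    · rw [h1, h2]
    · rw [h1, h2, pvF_comm]

/-- xor of a list -/
def xsum (l : List Nat) : Nat := l.foldr (fun a b => a ^^^ b) 0

theorem sumBits_xsum (F : Nat → Nat) (m : Nat) (l : List Nat) :
    sumBits F m l = xsum ((l.filter m.testBit).map F) := by
  induction l with
  | nil => rfl
  | cons j l ih =>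
    rw [sumBits, ih, List.filter_cons]
    cases m.testBit j <;> simp [xsum]

theorem xsum_perm {l l' : List Nat} (h : l.Perm l') : xsum l = xsum l' := by
  haveI : LeftCommutative (fun a b : Nat => a ^^^ b) := ⟨fun a b c => by
    rw [← Nat.xor_assoc, Nat.xor_comm a b, Nat.xor_assoc]⟩
  exact h.foldr_eq 0

theorem xsum_const (l : List Nat) (F : Nat → Nat) (c : Nat) :
    xsum (l.map fun i => F i ^^^ c) = xsum (l.map F) ^^^ (if l.length % 2 = 1 then c else 0) := by
  induction l with
  | nil => simp [xsum]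
  | cons a l ih =>
    simp only [List.map_cons, xsum, List.foldr_cons, List.length_cons] at ih ⊢
    rw [ih]
    by_cases h : l.length % 2 = 1
    · rw [if_pos h, if_neg (show ¬ (l.length + 1) % 2 = 1 by omega), Nat.xor_zero]
      generalize List.foldr (fun a b => a ^^^ b) 0 (List.map F l) = x
      rw [Nat.xor_comm x c, ← Nat.xor_assoc, Nat.xor_assoc (F a), Nat.xor_self, Nat.xor_zero]
    · rw [if_neg h, if_pos (show (l.length + 1) % 2 = 1 by omega), Nat.xor_zero]
      generalize List.foldr (fun a b => a ^^^ b) 0 (List.map F l) = x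
      rw [Nat.xor_assoc, Nat.xor_comm c x, ← Nat.xor_assoc]

theorem Auto.xsum_map {cb : Nat} {f : Nat → Nat} (hf : Auto cb f) (l : List Nat) (hl : ∀ a ∈ l, a < 2048) :
    f (xsum l) = xsum (l.map f) ∧ xsum l < 2048 := by
  induction l with
  | nil => exact ⟨hf.zero, by simp [xsum]⟩
  | cons a l ih =>
    obtain ⟨e, hlt⟩ := ih fun b hb => hl b (List.mem_cons_of_mem _ hb)
    have ha := hl a (List.mem_cons_self ..)
    simp only [List.map_cons, xsum, List.foldr_cons] at e hlt ⊢
    exact ⟨by rw [hf.add a ha _ hlt, e], Nat.xor_lt_two_pow (n := 11) ha hlt⟩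

theorem or_eq_xor : (List.range 2048).all (fun v => (v ||| 2048) == v ^^^ 2048) = true := by decide +kernel

theorem vg_last : vg.getD 23 0 = 0 := by decide +kernel

theorem Auto.vg_map {f : Nat → Nat} {σ : Equiv.Perm (Fin 24)}
    (h : ∀ i k, f (pvF i k) = pvF (σ i) (σ k)) {i : Nat} (hi : i < 24) :
    f (vg.getD i 0) = vg.getD (σ ⟨i, hi⟩).1 0 ^^^ vg.getD (σ ⟨23, by norm_num⟩).1 0 := by
  have := h ⟨i, hi⟩ ⟨23, by norm_num⟩
  simp only [pvF, pairV] at this
  rwa [vg_last, Nat.xor_zero] at this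

/-- the permutation preserves the code -/
theorem perm_mem_M24 {f : Nat → Nat} (hf : Auto cb0 f) {σ : Equiv.Perm (Fin 24)}
    (h : ∀ i k, f (pvF i k) = pvF (σ i) (σ k)) : indexHom σ ∈ Cfsg.M24 := by
  refine mem_M24_of_rows fun r hr => ?_
  have hrow := List.all_eq_true.1 rows_zero r hr
  simp only [Bool.and_eq_true, beq_iff_eq, decide_eq_true_eq] at hrow
  obtain ⟨⟨hr0, -⟩, heven⟩ := hrow
  let σn : Nat → Nat := fun i => if hi : i < 24 then (σ ⟨i, hi⟩).1 else i
  set bs := (List.range 24).filter r.testBit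
  set R := maskOf (bs.map σn)
  have hbs : ∀ i ∈ bs, i < 24 := fun i hi => List.mem_range.1 (List.mem_filter.1 hi).1
  have hσlt : ∀ i < 24, σn i < 24 := fun i hi => by simp only [σn, dif_pos hi]; exact (σ _).2
  have hRbit : ∀ j, R.testBit j = true ↔ ∃ i ∈ bs, σn i = j := by
    intro j
    have : (maskOf (bs.map σn)).testBit j = true ↔ j ∈ bs.map σn := by
      generalize bs.map σn = l
      induction l with
      | nil => simp [maskOf]
      | cons x l ih =>
        show ((1 <<< x) ||| maskOf l).testBit j = true ↔ _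
        rw [Nat.testBit_or, Bool.or_eq_true, ih, List.mem_cons, Nat.one_shiftLeft, Nat.testBit_two_pow,
          decide_eq_true_eq, eq_comm]
    rw [this, List.mem_map]
  have hσinj : ∀ i < 24, ∀ j < 24, σn i = σn j → i = j := fun i hi j hj e => by
    simp only [σn, dif_pos hi, dif_pos hj] at e
    exact congrArg Fin.val (σ.injective (Fin.ext e))
  have hperm : ((List.range 24).filter R.testBit).Perm (bs.map σn) := by
    refine (List.perm_ext_iff_of_nodup (List.nodup_range.filter _)
      ((List.nodup_range.filter _).map_on fun i hi j hj e => hσinj i (hbs i hi) j (hbs j hj) e)).2 fun j => ?_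
    rw [List.mem_filter, List.mem_map, hRbit]
    exact ⟨fun h => h.2, fun hh => ⟨by obtain ⟨i, hi, rfl⟩ := hh; exact List.mem_range.2 (hσlt i (hbs i hi)), hh⟩⟩
  set c := vg.getD (σ ⟨23, by norm_num⟩).1 0
  have hF : ∀ i < 24, (vg.getD (σn i) 0 ||| 2048) = f (vg.getD i 0) ^^^ (c ^^^ 2048) := by
    intro i hi
    have e := List.all_eq_true.1 or_eq_xor _ (List.mem_range.2 (vg_bound (σn i)))
    rw [beq_iff_eq] at e
    rw [e, Auto.vg_map h hi]
    simp only [σn, dif_pos hi]
    rw [Nat.xor_assoc, ← Nat.xor_assoc c c, Nat.xor_self, Nat.zero_xor]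
  have hphi0 : xsum (bs.map fun i => vg.getD i 0) = 0 := by
    rw [phiP, sumBits_xsum] at hr0
    rw [List.map_congr_left (g := fun i => vg.getD i 0 ^^^ 2048) (fun i _ =>
      beq_iff_eq.1 (List.all_eq_true.1 or_eq_xor _ (List.mem_range.2 (vg_bound i)))), xsum_const,
      if_neg (show ¬ bs.length % 2 = 1 by omega), Nat.xor_zero] at hr0
    exact hr0
  have hR0 : phiP R = 0 := by
    rw [phiP, sumBits_xsum, xsum_perm (hperm.map _), List.map_map,
      List.map_congr_left (f := (fun i => vg.getD i 0 ||| 2048) ∘ σn) (g := fun i => f (vg.getD i 0) ^^^ (c ^^^ 2048))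
        (fun i hi => hF i (hbs i hi)),
      xsum_const, if_neg (show ¬ bs.length % 2 = 1 by omega), Nat.xor_zero,
      show bs.map (fun i => f (vg.getD i 0)) = (bs.map fun i => vg.getD i 0).map f by rw [List.map_map]; rfl,
      ← (hf.xsum_map _ (fun a ha => by obtain ⟨i, -, rfl⟩ := List.mem_map.1 ha; exact vg_bound i)).1, hphi0,
      hf.zero]
  have hRlt : R < 2 ^ 24 := Nat.lt_pow_two_of_testBit _ fun j hj => by
    rw [Bool.eq_false_iff, ne_eq, hRbit]
    rintro ⟨i, hi, rfl⟩
    have := hσlt i (hbs i hi)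
    omega
  have hadd : ∀ a b, phiP (a ^^^ b) = phiP a ^^^ phiP b := fun a b => sumBits_xor _ _ _ _
  have hphi00 : phiP 0 = 0 := by
    have := hadd 0 0
    simpa using this
  have henc : ∀ k < 4096, phiP (Golay.enc k) = 0 := by
    intro k hk
    rw [enc_eq hk]
    have key : ∀ (l : List Nat), (∀ r ∈ l, phiP r = 0) → ∀ k, phiP (combine l k) = 0 := by
      intro l hl
      induction l with
      | nil => intro k; exact hphi00
      | cons a l ih =>
        intro k
        rw [combine, hadd, ih (fun r hr => hl r (List.mem_cons_of_mem _ hr))]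
        split
        · rw [hl a (List.mem_cons_self ..), Nat.xor_self]
        · rw [hphi00, Nat.xor_self]
    refine key rows (fun r hr => ?_) k
    have := List.all_eq_true.1 rows_zero r hr
    simp only [Bool.and_eq_true, beq_iff_eq] at this
    exact this.1.1
  set k := R % 4096
  have hk : k < 4096 := Nat.mod_lt _ (by norm_num)
  set d := R ^^^ Golay.enc k
  have hd0 : d % 4096 = 0 := by
    show (R ^^^ Golay.enc k) % 2 ^ 12 = 0
    rw [Nat.xor_mod_two_pow]
    show k ^^^ Golay.enc k % 4096 = 0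
    rw [enc_mod hk, Nat.xor_self]
  have hdlt : d < 2 ^ 24 := Nat.xor_lt_two_pow hRlt (enc_lt hk)
  have hdeq : (d / 4096) <<< 12 = d := by
    rw [Nat.shiftLeft_eq]; norm_num at *; omega
  have hphid : phiP d = 0 := by rw [hadd, hR0, henc k hk, Nat.xor_self]
  have hin := List.all_eq_true.1 high_kernel (d / 4096) (List.mem_range.2 (by norm_num at hdlt ⊢; omega))
  rw [hdeq, hphid] at hin
  simp only [bne_self_eq_false, Bool.false_or] at hin
  obtain ⟨k', hk', e'⟩ := inCode_iff.1 hin
  have hk0 : k' = 0 := by rw [← enc_mod hk', e', hd0]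
  rw [hk0, enc_zero] at e'
  have hRcode : inCode R = true := by
    rw [Nat.xor_eq_zero_iff.1 e'.symm]
    exact Golay.inCode_enc hk
  have hsmul : indexHom σ • setOfMask r = setOfMask R := by
    ext q
    rw [Finset.mem_smul_finset, mem_setOfMask, hRbit]
    constructor
    · rintro ⟨p, hp, rfl⟩
      refine ⟨idx p, List.mem_filter.2 ⟨List.mem_range.2 (idx_lt p), mem_setOfMask.1 hp⟩, ?_⟩
      rw [Equiv.Perm.smul_def, indexHom_apply, Golay.ptEquiv_apply, idx_pt (σ _).2]
      simp only [σn, dif_pos (idx_lt p)]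
      rfl
    · rintro ⟨i, hi, e⟩
      have hi24 := hbs i hi
      refine ⟨pt i, mem_setOfMask.2 (by rw [idx_pt hi24]; exact (List.mem_filter.1 hi).2), Golay.idx_injective ?_⟩
      rw [Equiv.Perm.smul_def, indexHom_apply, Golay.ptEquiv_apply, idx_pt (σ _).2, ← e]
      simp only [σn, dif_pos hi24]
      exact congrArg (fun j => (σ j).1) (Fin.ext (idx_pt hi24))
  rw [hsmul]
  exact setOfMask_mem_supports hRcode

theorem bits11_ok : (List.range 2048).all (fun a =>
    xsum (((List.range 11).filter a.testBit).map (fun j => 2 ^ j)) == a) = true := by decide +kernel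

/-- a map fixing every pair is the identity -/
theorem Auto.eq_id {f : Nat → Nat} (hf : Auto cb0 f) (h : ∀ i k : Fin 24, f (pvF i k) = pvF i k)
    {a : Nat} (ha : a < 2048) : f a = a := by
  have hv : ∀ i < 24, f (vg.getD i 0) = vg.getD i 0 := by
    intro i hi
    rw [Auto.vg_map (σ := Equiv.refl _) h hi]
    show vg.getD i 0 ^^^ vg.getD 23 0 = _
    rw [vg_last, Nat.xor_zero]
  have hpow : ∀ j < 11, f (2 ^ j) = 2 ^ j := by
    intro j hj
    have e := List.all_eq_true.1 units_ok j (List.mem_range.2 hj)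
    rw [beq_iff_eq, phi, sumBits_xsum] at e
    rw [← e, (hf.xsum_map _ (fun b hb => by obtain ⟨i, -, rfl⟩ := List.mem_map.1 hb; exact vg_bound i)).1,
      List.map_map, List.map_congr_left (f := f ∘ fun i => vg.getD i 0) (g := fun i => vg.getD i 0)
        (fun i hi => hv i (List.mem_range.1 (List.mem_filter.1 hi).1))]
  have e := beq_iff_eq.1 (List.all_eq_true.1 bits11_ok a (List.mem_range.2 ha))
  rw [← e, (hf.xsum_map _ (fun b hb => by
      obtain ⟨j, hj, rfl⟩ := List.mem_map.1 hb
      exact lt_of_lt_of_le (Nat.pow_lt_pow_right (by norm_num) (List.mem_range.1 (List.mem_filter.1 hj).1))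
        (by norm_num))).1, List.map_map,
    List.map_congr_left (f := f ∘ fun j => 2 ^ j) (g := fun j => 2 ^ j) (fun j hj => hpow j (List.mem_range.1 (List.mem_filter.1 hj).1))]

end Cfsg.Agent.Lib.FischerLarge43
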