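import Cfsg.Agent.Lib.FischerLarge45.Check

/-!
# The model of the Thompson subgroup of order `2^11` in a group of large Fischer type

A state below 2048 stands for an element: bits 0-5 its part in the plane, bits 6-9 its image in the
group of order 16, bit 10 the central involution.  Only data and defining functions; the checks are
in `Check`.

Owner: helper43.
-/

set_option autoImplicit false

namespace Cfsg.Agent.Lib.FischerLarge43

open Cfsg.Agent.Lib.FischerLarge45.Model

/-- coordinate `i` of a vector -/
def nib (v i : Nat) : Nat := (v >>> (2 * i)) &&& 3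

/-- the number of non-zero coordinates -/
def wt6 (v : Nat) : Nat := ((List.range 6).filter fun i => nib v i != 0).length

/-- the phase sum -/
def ph6 (v : Nat) : Nat := ((List.range 6).foldl (fun s i => if nib v i == 0 then s else s + (nib v i - 1)) 0) % 3

/-- the quadratic form -/
def qq (v : Nat) : Nat := wt6 v % 2

/-- the polar form -/
def bb (x y : Nat) : Nat := (qq (x ^^^ y) + qq x + qq y) % 2

/-- the orbit of 1701 -/
def isR (v : Nat) : Bool := wt6 v == 4 || (wt6 v == 6 && ph6 v != 0)

/-- the orbit of 378 -/
def isU (v : Nat) : Bool := wt6 v == 2 || (wt6 v == 6 && ph6 v == 0)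

/-- the element of the group of order 16 with bits `y`, on vectors -/
def bimg (y v : Nat) : Nat :=
  b0L.zipIdx.foldl (fun w t => if y.testBit t.2 then ap (key t.1) w else w) v

/-- the vector of a plane code -/
def uvec (u : Nat) : Nat := (5 * (u &&& 3)) ||| ((5 * ((u >>> 2) &&& 3)) <<< 4) ||| ((5 * ((u >>> 4) &&& 3)) <<< 8)

/-- the code of a plane vector -/
def ucode (v : Nat) : Nat := (v &&& 3) ||| (((v >>> 4) &&& 3) <<< 2) ||| (((v >>> 8) &&& 3) <<< 4)

/-- `omega` on plane codes -/
def uom (u : Nat) : Nat := ucode (omega (uvec u))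

/-- for each `y = 1, ..., 15` the orbit of the state `0` in the coset of `y` -/
def orbZ : List Nat := [5192376087986844320098141344890881, 5192376087906525970840460786008065, 80833632530995255242465, 2658466152581674459400076730988232705, 170474220628675757864919566912728613505, 2663658528669580472569180594875941505, 2658466152581754777902587182328315905, 170141264590146332230921547297303035905, 2991422191111100101614363540595049505, 170146456966234238232606528810076111905, 170141264590146412540589593612309889025, 172799730742728006164811225231379671105, 332956038529426158554463953280303105, 332956038529506480529437231925428225, 338148414617332170845074178986485825]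

/-- for each `y = 1, ..., 15` a state in the large orbit -/
def orbRep : List Nat := [1, 4, 16, 4, 1, 1, 1, 4, 1, 1, 1, 1, 4, 1, 1]

/-- the orbit of `0` in the coset of `y` -/
def o0 (y : Nat) : Nat := orbZ.getD (y - 1) 0

/-- the orbit of `64` in the coset of `y` -/
def o1 (y : Nat) : Nat :=
  (o0 y >>> 64) ||| ((o0 y &&& (2 ^ 64 - 1)) <<< 64)

/-- the large orbit in the coset of `y` -/
def o2 (y : Nat) : Nat := (2 ^ 128 - 1) ^^^ o0 y ^^^ o1 y

/-- the value of the quadratic refinement -/
def kap (y u : Nat) : Nat := if (o0 y).testBit (u + 64) then 1 else 0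

/-- the plane code of the commutator of a vector with `y` -/
def dd (y v : Nat) : Nat := ucode (bimg y v ^^^ v)

/-- the steps on the states of the coset of `y` -/
def steps (y s : Nat) : List Nat :=
  ((s &&& 63) |> uom |> (fun u => u + 64 * (s >>> 6))) :: (List.range 12).map fun j =>
    ((s &&& 63) ^^^ dd y (2 ^ j)) +
      64 * (((s >>> 6) + kap y (dd y (2 ^ j)) + bb (2 ^ j) (uvec (s &&& 63))) % 2)

/-- the mask of a list -/
def maskOf (l : List Nat) : Nat := l.foldr (fun t m => (1 <<< t) ||| m) 0

/-- one sweep -/
def sweep (y m : Nat) : Nat :=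
  m ||| maskOf (((List.range 128).filter m.testBit).flatMap (steps y))

/-- the closure of a state -/
def closure5 (y r : Nat) : Nat := sweep y (sweep y (sweep y (sweep y (sweep y (1 <<< r)))))

/-- the sign of `y` for the candidate `cb`: zero on the four generators -/
def sgnOf (cb y : Nat) : Bool :=
  match [3, 5, 6, 7, 9, 10, 11, 12, 13, 14, 15].idxOf? y with
  | some i => cb.testBit i
  | none => false

/-- the states outside the class of `z` in the plane -/
def uList : List Nat := [1, 2, 3, 4, 8, 12, 16, 21, 27, 30, 32, 39, 42, 45, 48, 54, 57, 63, 1025, 1026, 1027, 1028, 1032, 1036, 1040, 1045, 1051, 1054, 1056, 1063, 1066, 1069, 1072, 1078, 1081, 1087]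

/-- the orbits of size 16, for both signs -/
def orbLists : List (List Nat) := [[64, 84, 88, 92, 100, 104, 108, 116, 120, 124, 1092, 1096, 1100, 1104, 1120, 1136], [68, 72, 76, 80, 96, 112, 1088, 1108, 1112, 1116, 1124, 1128, 1132, 1140, 1144, 1148], [128, 145, 146, 147, 161, 162, 163, 177, 178, 179, 1153, 1154, 1155, 1168, 1184, 1200], [129, 130, 131, 144, 160, 176, 1152, 1169, 1170, 1171, 1185, 1186, 1187, 1201, 1202, 1203], [192, 197, 198, 199, 201, 202, 203, 205, 206, 207, 1217, 1218, 1219, 1220, 1224, 1228], [193, 194, 195, 196, 200, 204, 1216, 1221, 1222, 1223, 1225, 1226, 1227, 1229, 1230, 1231], [256, 284, 285, 287, 292, 293, 294, 312, 314, 315, 1281, 1282, 1283, 1310, 1319, 1337], [257, 258, 259, 286, 295, 313, 1280, 1308, 1309, 1311, 1316, 1317, 1318, 1336, 1338, 1339], [320, 327, 329, 334, 338, 348, 355, 356, 369, 376, 1365, 1371, 1386, 1389, 1398, 1407], [341, 347, 362, 365, 374, 383, 1344, 1351, 1353, 1358, 1362, 1372, 1379, 1380, 1393, 1400], [384, 391, 393, 398, 407, 409, 425, 430, 439, 446, 1424, 1438, 1440, 1447, 1456, 1465], [400, 414, 416, 423, 432, 441,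 1408, 1415, 1417, 1422, 1431, 1433, 1449, 1454, 1463, 1470], [448, 466, 470, 474, 483, 491, 495, 497, 501, 509, 1476, 1480, 1484, 1502, 1511, 1529], [452, 456, 460, 478, 487, 505, 1472, 1490, 1494, 1498, 1507, 1515, 1519, 1521, 1525, 1533], [512, 532, 534, 535, 552, 553, 555, 572, 573, 574, 1537, 1538, 1539, 1557, 1578, 1599], [513, 514, 515, 533, 554, 575, 1536, 1556, 1558, 1559, 1576, 1577, 1579, 1596, 1597, 1598], [576, 581, 586, 591, 593, 596, 610, 616, 627, 636, 1627, 1630, 1639, 1645, 1654, 1657], [603, 606, 615, 621, 630, 633, 1600, 1605, 1610, 1615, 1617, 1620, 1634, 1640, 1651, 1660], [640, 645, 650, 655, 666, 671, 677, 687, 693, 698, 1680, 1685, 1696, 1706, 1712, 1727], [656, 661, 672, 682, 688, 703, 1664, 1669, 1674, 1679, 1690, 1695, 1701, 1711, 1717, 1722], [704, 721, 729, 733, 738, 742, 750, 755, 759, 763, 1732, 1736, 1740, 1749, 1770, 1791], [708, 712, 716, 725, 746, 767, 1728, 1745, 1753, 1757, 1762, 1766, 1774, 1779, 1783, 1787], [768, 774, 779, 781, 787, 792, 801, 812, 818, 820, 1813, 1822, 1831, 1834, 1849, 1855], [789, 798, 807, 810, 825, 831, 1792, 1798,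 1803, 1805, 1811, 1816, 1825, 1836, 1842, 1844], [832, 856, 857, 858, 876, 878, 879, 884, 885, 887, 1857, 1858, 1859, 1883, 1901, 1910], [833, 834, 835, 859, 877, 886, 1856, 1880, 1881, 1882, 1900, 1902, 1903, 1908, 1909, 1911], [896, 915, 919, 927, 929, 933, 937, 946, 954, 958, 1924, 1928, 1932, 1947, 1965, 1974], [900, 904, 908, 923, 941, 950, 1920, 1939, 1943, 1951, 1953, 1957, 1961, 1970, 1978, 1982], [960, 966, 971, 973, 982, 989, 998, 1003, 1019, 1021, 2000, 2011, 2016, 2029, 2032, 2038], [976, 987, 992, 1005, 1008, 1014, 1984, 1990, 1995, 1997, 2006, 2013, 2022, 2027, 2043, 2045]]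

/-- the states outside the class of `z` in the coset of `y` -/
def cosetList (cb y : Nat) : List Nat :=
  orbLists.getD (2 * (y - 1) + (if sgnOf cb y then 1 else 0)) []

/-- the states of the coset of `y` in a mask -/
def cosetOf (y m : Nat) : List Nat :=
  ((List.range 128).filter m.testBit).map fun s => (s &&& 63) + 64 * y + 1024 * (s >>> 6)

/-- the states outside the class of `z` for the candidate `cb` -/
def ttList (cb : Nat) : List Nat := uList ++ (List.range' 1 15).flatMap (cosetList cb)

/-- the true candidate -/
def cb0 : Nat := 1810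

/-- the images of the 24 points -/
def vg : List Nat := [292, 293, 294, 491, 495, 407, 391, 1511, 57, 818, 483, 30, 1319, 439, 1831, 1447, 792, 1660, 1063, 1610, 1617, 781, 615, 0]

/-- keys of the three monomial maps: scalar, phases, and the cyclic shift of the pairs -/
def monoKeys : List Nat := [16728281407104152607163161326845828016386050, 11151733894906778446186600528500681751932930, 43561460527019217383722061387476418822160]

/-- the generators of the stabiliser of the plane -/
def stabKeys : List Nat := gens ++ monoKeys

/-- their action on the nonzero `y` -/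
def stabPerm : List Nat := [18364758544493064720, 18364758544493064720, 18364758544493064720, 18364758544493064720, 7441559125320610320, 5144721124894904880, 15582945263331232080, 15225180691391478240, 18364758544493064720, 12360540759467569680, 16135456950318469920]

/-- the image of `y` under generator `g` -/
def permY (g y : Nat) : Nat := (stabPerm.getD g 0 >>> (4 * y)) &&& 15

/-- a word of order five -/
def fiveWord : List Nat := [10, 7, 4]

/-- the map of a word -/
def wapp : List Nat → Nat → Nat
  | [], v => v
  | g :: l, v => ap (stabKeys.getD g 0) (wapp l v)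

end Cfsg.Agent.Lib.FischerLarge43
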