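import Cfsg.Agent.Lib.FischerLarge45.Unique
import Cfsg.Agent.Lib.PGroups.Thompson
import Mathlib.GroupTheory.PGroup
import Mathlib.GroupTheory.GroupAction.CardCommute

/-!
# A unique largest elementary abelian subgroup of a Sylow 2-subgroup controls its fusion

Also: the primes dividing an automorphism group of an elementary abelian group of order `2^11`.

Owner: helper43.
-/

set_option autoImplicit false
set_option linter.unusedSectionVars false
set_option linter.style.haveILetI false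

namespace Cfsg.Agent.Lib.FischerLarge43

open Cfsg.Agent.Lib.FischerLarge45 (IsOnlyMax)
open Cfsg.Agent.Lib.LargeExtraspecial.Basic (commute_of_sq)

universe u

variable {G : Type u} [Group G] [Finite G]

theorem isOnlyMax_map {H : Type*} [Group H] (e : G →* H) (he : Function.Injective e) {A T : Subgroup G}
    (h : IsOnlyMax A T) [Finite H] : IsOnlyMax (A.map e) (T.map e) := by
  refine ⟨Subgroup.map_mono h.1, ?_, fun C hCT hC hcard => ?_⟩
  · rintro _ ⟨a, ha, rfl⟩
    rw [← map_mul, h.2.1 a ha, map_one]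
  · have hCr : (C.comap e).map e = C :=
      Subgroup.map_comap_eq_self (hCT.trans (Subgroup.map_le_range e T))
    have := h.2.2 (C.comap e) ((Subgroup.comap_mono hCT).trans (Subgroup.comap_map_eq_self_of_injective he T).le)
      (fun c hc => he (by rw [map_mul, map_one]; exact hC _ hc))
      (by rwa [← Subgroup.card_map_of_injective he, ← Subgroup.card_map_of_injective (K := C.comap e) he, hCr])
    rw [← hCr, this]

theorem isOnlyMax_unique {A A' T : Subgroup G} (h : IsOnlyMax A T) (h' : IsOnlyMax A' T) : A = A' := by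
  rcases le_total (Nat.card A) (Nat.card A') with hc | hc
  · exact (h.2.2 A' h'.1 h'.2.1 hc).symm
  · exact h'.2.2 A h.1 h.2.1 hc

theorem le_normalizer_of_onlyMax {A T : Subgroup G} (h : IsOnlyMax A T) :
    T ≤ Subgroup.normalizer (A : Set G) := by
  refine Subgroup.le_normalizer_iff.2 fun t ht a ha => ?_
  have e : T.map (MulAut.conj t).toMonoidHom = T := by
    refine le_antisymm ?_ fun x hx => ⟨t⁻¹ * x * t, T.mul_mem (T.mul_mem (T.inv_mem ht) hx) ht, by simp [mul_assoc]⟩
    rintro _ ⟨x, hx, rfl⟩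
    exact T.mul_mem (T.mul_mem ht hx) (T.inv_mem ht)
  have h' := isOnlyMax_map (MulAut.conj t).toMonoidHom (MulAut.conj t).injective h
  rw [e] at h'
  rw [isOnlyMax_unique h h']
  exact ⟨a, ha, rfl⟩

theorem thompson_eq {A T : Subgroup G} (h : IsOnlyMax A T) : Cfsg.thompsonSubgroupOf 2 T = A := by
  have hA : Cfsg.IsElementaryAbelian 2 A :=
    ⟨⟨⟨fun a b => Subtype.ext (commute_of_sq h.2.1 a.2 b.2).eq⟩⟩, fun a ha => by rw [pow_two]; exact h.2.1 a ha⟩
  have e : PGroups.maxElemAbIn 2 T = {A} := by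
    refine Set.eq_singleton_iff_unique_mem.2 ⟨⟨h.1, hA, fun C hCT hC => ?_⟩, fun C hC => ?_⟩
    · by_contra hlt
      push Not at hlt
      rw [h.2.2 C hCT (fun c hc => by rw [← pow_two]; exact hC.2 c hc) hlt.le] at hlt
      exact lt_irrefl _ hlt
    · exact h.2.2 C hC.1 (fun c hc => by rw [← pow_two]; exact hC.2.1.2 c hc) (hC.2.2 A h.1 hA)
  rw [PGroups.thompsonSubgroupOf_eq, e, sSup_singleton]

/-- The normaliser controls fusion. -/
theorem fusion {T : Sylow 2 G} {A : Subgroup G} (h : IsOnlyMax A (T : Subgroup G)) {a : G} (ha : a ∈ A)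
    {g : G} (hb : g * a * g⁻¹ ∈ A) :
    ∃ m ∈ Subgroup.normalizer (A : Set G), m * a * m⁻¹ = g * a * g⁻¹ := by
  set b := g * a * g⁻¹
  set C := Subgroup.centralizer ({b} : Set G)
  haveI : Fact (Nat.Prime 2) := ⟨Nat.prime_two⟩
  have hcomm : ∀ x ∈ A, ∀ y ∈ A, Commute x y := fun x hx y hy => commute_of_sq h.2.1 hx hy
  have hAC : A ≤ C := fun x hx => Subgroup.mem_centralizer_singleton_iff.2 (hcomm x hx b hb).eq
  set A' := A.map (MulAut.conj g).toMonoidHom
  have hA'C : A' ≤ C := by
    rintro _ ⟨x, hx, rfl⟩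
    exact Subgroup.mem_centralizer_singleton_iff.2 ((hcomm x hx a ha).map (MulAut.conj g)).eq
  have hp : ∀ X : Subgroup G, (∀ x ∈ X, x * x = 1) → IsPGroup 2 X := fun X hX x =>
    ⟨1, Subtype.ext (by rw [pow_one, pow_two]; exact hX _ x.2)⟩
  have hA'2 : ∀ x ∈ A', x * x = 1 := by
    rintro _ ⟨x, hx, rfl⟩
    rw [← map_mul, h.2.1 x hx, map_one]
  obtain ⟨P, hP⟩ := (hp A h.2.1).comap_subtype (K := C) |>.exists_le_sylow
  obtain ⟨P', hP'⟩ := (hp A' hA'2).comap_subtype (K := C) |>.exists_le_sylow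
  obtain ⟨c, hc⟩ := MulAction.exists_smul_eq C P' P
  have hP2 : IsPGroup 2 ((P : Subgroup C).map C.subtype) := P.isPGroup'.map _
  obtain ⟨S, hS⟩ := hP2.exists_le_sylow
  obtain ⟨k, hk⟩ := MulAction.exists_smul_eq G T S
  have hSk : (S : Subgroup G) = (T : Subgroup G).map (MulAut.conj k).toMonoidHom := by
    rw [← hk]; rfl
  have hAS : A ≤ (S : Subgroup G) := fun x hx => hS ⟨⟨x, hAC hx⟩, hP hx, rfl⟩
  set m : G := (c : G) * g
  have hmS : A.map (MulAut.conj m).toMonoidHom ≤ (S : Subgroup G) := by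
    rintro _ ⟨x, hx, rfl⟩
    have hxA' : g * x * g⁻¹ ∈ A' := ⟨x, hx, rfl⟩
    have h1 : c * ⟨g * x * g⁻¹, hA'C hxA'⟩ * c⁻¹ ∈ (P : Subgroup C) := by
      rw [← hc]
      exact ⟨_, hP' hxA', rfl⟩
    exact hS ⟨_, h1, by simp [m, mul_assoc]⟩
  have hmax := isOnlyMax_map (MulAut.conj k).toMonoidHom (MulAut.conj k).injective h
  rw [← hSk] at hmax
  have hcA : ∀ u : G, Nat.card (A.map (MulAut.conj u).toMonoidHom) = Nat.card A := fun u =>
    Subgroup.card_map_of_injective (MulAut.conj u).injective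
  have e1 := hmax.2.2 A hAS h.2.1 (hcA k).le
  have e2 := hmax.2.2 (A.map (MulAut.conj m).toMonoidHom) hmS (by
    rintro _ ⟨x, hx, rfl⟩
    rw [← map_mul, h.2.1 x hx, map_one]) ((hcA k).trans (hcA m).symm).le
  refine ⟨m, ?_, ?_⟩
  · rw [← Subgroup.inv_mem_iff]
    refine Subgroup.mem_normalizer_iff.2 fun x => ?_
    constructor
    · intro hx
      obtain ⟨y, hy, hyx⟩ := (e1.trans e2.symm).le hx
      rw [← show y = m⁻¹ * x * m⁻¹⁻¹ by rw [← hyx]; simp [mul_assoc]]
      exact hy
    · intro hx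
      have : m * (m⁻¹ * x * m⁻¹⁻¹) * m⁻¹ ∈ A := (e2.trans e1.symm).le ⟨_, hx, rfl⟩
      simpa [mul_assoc] using this
  · calc m * a * m⁻¹ = (c : G) * b * (c : G)⁻¹ := by simp [m, b, mul_assoc]
      _ = b := by rw [Subgroup.mem_centralizer_singleton_iff.1 c.2, mul_inv_cancel_right]

/-- A prime whose order of two exceeds eleven does not divide a group of automorphisms. -/
theorem not_prime_dvd {A : Type*} [Group A] [Finite A] {n : ℕ} (hn : Nat.card A = 2 ^ n) {p : ℕ} [Fact p.Prime]
    (hord : ∀ i < n + 1, 1 ≤ i → ¬ p ∣ 2 ^ i - 1) (hp2 : p ≠ 2) (Γ : Subgroup (MulAut A)) : ¬ p ∣ Nat.card Γ := by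
  intro hdvd
  haveI : Finite (MulAut A) := Finite.of_injective (fun e : MulAut A => (e : A → A)) DFunLike.coe_injective
  obtain ⟨g, hg⟩ := exists_prime_orderOf_dvd_card' p hdvd
  set e : MulAut A := g.1
  have he : orderOf e = p := by rw [← hg, Subgroup.orderOf_coe]
  let F : Subgroup A :=
    { carrier := {a | e a = a}
      one_mem' := map_one e
      mul_mem' := fun {a b} ha hb => by
        show e (a * b) = a * b
        rw [map_mul, ha, hb]
      inv_mem' := fun {a} ha => by
        show e a⁻¹ = a⁻¹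
        rw [map_inv, ha] }
  have hP : IsPGroup p (Subgroup.zpowers e) := IsPGroup.of_card (n := 1) (by rw [Nat.card_zpowers, he, pow_one])
  have hmod := hP.card_modEq_card_fixedPoints (α := A)
  have hfix : Nat.card (MulAction.fixedPoints (Subgroup.zpowers e) A) = Nat.card F := by
    refine Nat.card_congr (Equiv.subtypeEquivRight fun a => ⟨fun h => h ⟨e, Subgroup.mem_zpowers e⟩, fun h => ?_⟩)
    rintro ⟨u, hu⟩
    have hle : Subgroup.zpowers e ≤ MulAction.stabilizer (MulAut A) a :=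
      Subgroup.zpowers_le.2 (MulAction.mem_stabilizer_iff.2 h)
    exact hle hu
  rw [hn, hfix] at hmod
  obtain ⟨k, hk, hFk⟩ := (Nat.dvd_prime_pow Nat.prime_two).1 (hn ▸ F.card_subgroup_dvd_card)
  rcases eq_or_lt_of_le hk with rfl | hlt
  · have hFtop : F = ⊤ := Subgroup.eq_top_of_card_eq F (by rw [hFk, hn])
    have : e = 1 := MulEquiv.ext fun a => (hFtop ▸ Subgroup.mem_top a : a ∈ F)
    rw [this, orderOf_one] at he
    exact (Fact.out : p.Prime).ne_one he.symm
  · refine hord (n - k) (by omega) (by omega) ?_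
    have h1 : p ∣ 2 ^ n - 2 ^ k := by
      rw [hFk] at hmod
      exact (Nat.modEq_iff_dvd' (Nat.pow_le_pow_right (by norm_num) hk)).1 hmod.symm
    have e2 : 2 ^ n - 2 ^ k = 2 ^ k * (2 ^ (n - k) - 1) := by
      rw [Nat.mul_sub_one, ← pow_add, Nat.add_sub_cancel' hk]
    rw [e2] at h1
    rcases (Fact.out : p.Prime).dvd_mul.1 h1 with h2 | h2
    · exact absurd ((Nat.prime_dvd_prime_iff_eq Fact.out Nat.prime_two).1 ((Fact.out : p.Prime).dvd_of_dvd_pow h2)) hp2
    · exact h2

/-- the conjugation action of the normaliser -/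
def conjAut (A : Subgroup G) : ↥(Subgroup.normalizer (A : Set G)) →* MulAut A :=
  MonoidHom.mk' (fun m =>
    { toFun := fun a => ⟨m.1 * a.1 * m.1⁻¹, (Subgroup.mem_normalizer_iff.1 m.2 a.1).1 a.2⟩
      invFun := fun a => ⟨m.1⁻¹ * a.1 * m.1, (Subgroup.mem_normalizer_iff.1 m.2 _).2 (by
        simpa [mul_assoc] using a.2)⟩
      left_inv := fun a => Subtype.ext (by simp [mul_assoc])
      right_inv := fun a => Subtype.ext (by simp [mul_assoc])
      map_mul' := fun a b => Subtype.ext (by simp [mul_assoc]) })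
    fun m m' => MulEquiv.ext fun a => Subtype.ext (by
      show (m.1 * m'.1) * a.1 * (m.1 * m'.1)⁻¹ = m.1 * (m'.1 * a.1 * m'.1⁻¹) * m.1⁻¹
      group)

theorem conjAut_apply {A : Subgroup G} (m : ↥(Subgroup.normalizer (A : Set G))) (a : A) :
    ((conjAut A m a : A) : G) = m.1 * a.1 * m.1⁻¹ := rfl

/-- The class in `A` of a point and its stabiliser in the normaliser. -/
theorem card_class_mul {T : Sylow 2 G} {A : Subgroup G} (h : IsOnlyMax A (T : Subgroup G)) {z : G} (hz : z ∈ A) :
    Nat.card {a : A // IsConj z a.1} *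
        Nat.card ↥(Subgroup.normalizer (A : Set G) ⊓ Subgroup.centralizer ({z} : Set G) : Subgroup G) =
      Nat.card (Subgroup.normalizer (A : Set G)) ∧
    ∀ p : ℕ, p.Prime → p ∣ Nat.card {a : A // IsConj z a.1} → p ∣ Nat.card (conjAut A).range := by
  set M := Subgroup.normalizer (A : Set G)
  letI act : MulAction M A := MulAction.compHom A (conjAut A)
  let zA : A := ⟨z, hz⟩
  have hsmul : ∀ (m : M) (a : A), ((m • a : A) : G) = m.1 * a.1 * m.1⁻¹ := fun m a => conjAut_apply m a
  have horb : Nat.card (MulAction.orbit M zA) = Nat.card {a : A // IsConj z a.1} := by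
    refine Nat.card_congr (Equiv.subtypeEquivRight fun a => ⟨?_, ?_⟩)
    · rintro ⟨m, rfl⟩
      exact isConj_iff.2 ⟨m.1, (hsmul m zA).symm⟩
    · intro hc
      obtain ⟨g, hg⟩ := isConj_iff.1 hc
      obtain ⟨m, hm, hme⟩ := fusion h hz (g := g) (hg.symm ▸ a.2)
      exact ⟨⟨m, hm⟩, Subtype.ext (hme.trans hg)⟩
  have hstab : Nat.card (MulAction.stabilizer M zA) =
      Nat.card ↥(M ⊓ Subgroup.centralizer ({z} : Set G) : Subgroup G) := by
    refine Nat.card_congr
      { toFun := fun m => ⟨m.1.1, m.1.2, Subgroup.mem_centralizer_singleton_iff.2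
          (mul_inv_eq_iff_eq_mul.1 (congrArg Subtype.val (MulAction.mem_stabilizer_iff.1 m.2)))⟩
        invFun := fun m => ⟨⟨m.1, m.2.1⟩, MulAction.mem_stabilizer_iff.2 (Subtype.ext
          (mul_inv_eq_iff_eq_mul.2 (Subgroup.mem_centralizer_singleton_iff.1 m.2.2)))⟩
        left_inv := fun _ => rfl
        right_inv := fun _ => rfl }
  refine ⟨?_, fun p hp hd => ?_⟩
  · rw [← horb, ← hstab, Nat.card_congr (MulAction.orbitEquivQuotientStabilizer M zA),
      ← Subgroup.card_eq_card_quotient_mul_card_subgroup]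
  · haveI : Finite (MulAut A) := Finite.of_injective (fun e : MulAut A => (e : A → A)) DFunLike.coe_injective
    have e : MulAction.orbit M zA = MulAction.orbit (conjAut A).range zA := by
      ext a
      constructor
      · rintro ⟨m, rfl⟩
        exact ⟨⟨conjAut A m, m, rfl⟩, rfl⟩
      · rintro ⟨⟨_, m, rfl⟩, rfl⟩
        exact ⟨m, rfl⟩
    rw [← horb, e, Nat.card_congr (MulAction.orbitEquivQuotientStabilizer _ zA)] at hd
    exact hd.trans (Subgroup.card_quotient_dvd_card _)

end Cfsg.Agent.Lib.FischerLarge43
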