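import Cfsg.Agent.Lib.FischerLarge43.Main

/-!
# Large Fischer type: the Thompson subgroup of any Sylow 2-subgroup

Owner: helper43.
-/

set_option autoImplicit false
set_option linter.style.haveILetI false
set_option linter.unusedSectionVars false

namespace Cfsg.Agent.Lib.FischerLarge43

open Cfsg.Agent.Lib.LargeFischer13
open Cfsg.Agent.Lib.FischerLarge45 (IsOnlyMax)
open Cfsg.Agent.Lib.LargeExtraspecial.Basic (commute_of_sq)
open scoped Pointwise

universe u

variable {G : Type u} [Group G] [Finite G] {z : G}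

theorem conj_mem_normalizer {A : Subgroup G} (k : G) {m : G}
    (hm : m ∈ Subgroup.normalizer ((A.map (MulAut.conj k).toMonoidHom : Subgroup G) : Set G)) :
    k⁻¹ * m * k ∈ Subgroup.normalizer (A : Set G) := by
  refine Subgroup.le_normalizer_iff (H := Subgroup.zpowers (k⁻¹ * m * k)) |>.2 ?_ (Subgroup.mem_zpowers _)
  rintro _ ⟨n, rfl⟩ a ha
  have hn : m ^ n ∈ Subgroup.normalizer ((A.map (MulAut.conj k).toMonoidHom : Subgroup G) : Set G) :=
    zpow_mem hm n
  obtain ⟨b, hb, e⟩ := (Subgroup.mem_normalizer_iff.1 hn (k * a * k⁻¹)).1 ⟨a, ha, rfl⟩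
  have hpow : (k⁻¹ * m * k) ^ n = k⁻¹ * m ^ n * k := by
    simpa using conj_zpow (i := n) (a := k⁻¹) (b := m)
  show (k⁻¹ * m * k) ^ n * a * ((k⁻¹ * m * k) ^ n)⁻¹ ∈ A
  rw [hpow, show k⁻¹ * m ^ n * k * a * (k⁻¹ * m ^ n * k)⁻¹ = k⁻¹ * (m ^ n * (k * a * k⁻¹) * (m ^ n)⁻¹) * k by group,
    ← e]
  simpa [mul_assoc] using hb

/-- the hom of normalisers of conjugate subgroups -/
def conjNorm (A : Subgroup G) (k : G) :
    ↥(Subgroup.normalizer ((A.map (MulAut.conj k).toMonoidHom : Subgroup G) : Set G)) →*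
      ↥(Subgroup.normalizer (A : Set G)) :=
  MonoidHom.mk' (fun m => ⟨k⁻¹ * m.1 * k, conj_mem_normalizer k m.2⟩)
    fun m m' => Subtype.ext (by
      show k⁻¹ * (m.1 * m'.1) * k = k⁻¹ * m.1 * k * (k⁻¹ * m'.1 * k)
      group)

theorem conjNorm_apply (A : Subgroup G) (k : G)
    (m : ↥(Subgroup.normalizer ((A.map (MulAut.conj k).toMonoidHom : Subgroup G) : Set G))) :
    ((conjNorm A k m : ↥(Subgroup.normalizer (A : Set G))) : G) = k⁻¹ * m.1 * k := rfl

theorem conjNorm_surjective (A : Subgroup G) (k : G) : Function.Surjective (conjNorm A k) := by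
  intro m
  have h : k * m.1 * k⁻¹ ∈ Subgroup.normalizer ((A.map (MulAut.conj k).toMonoidHom : Subgroup G) : Set G) := by
    have hm : m.1 ∈ Subgroup.normalizer
        (((A.map (MulAut.conj k).toMonoidHom).map (MulAut.conj k⁻¹).toMonoidHom : Subgroup G) : Set G) := by
      rw [Subgroup.map_map, show (MulAut.conj k⁻¹).toMonoidHom.comp (MulAut.conj k).toMonoidHom = MonoidHom.id G from
        MonoidHom.ext fun x => by simp [mul_assoc], Subgroup.map_id]
      exact m.2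
    simpa using conj_mem_normalizer k⁻¹ hm
  exact ⟨⟨_, h⟩, Subtype.ext (by rw [conjNorm_apply]; group)⟩

theorem isConj_conj_iff (k a : G) : IsConj z (k * a * k⁻¹) ↔ IsConj z a :=
  ⟨fun h => h.trans (isConj_iff.2 ⟨k⁻¹, by group⟩), fun h => h.trans (isConj_iff.2 ⟨k, rfl⟩)⟩

/-- transport along a conjugation -/
def Pts.map {A : Subgroup G} (P : Pts z A) (k : G) : Pts z (A.map (MulAut.conj k).toMonoidHom) where
  φ := P.φ.comp (conjNorm A k)
  range_eq := by rw [MonoidHom.range_comp, MonoidHom.range_eq_top.2 (conjNorm_surjective A k),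
    ← MonoidHom.range_eq_map, P.range_eq]
  ker_eq := by
    rw [← MonoidHom.comap_ker, P.ker_eq]
    ext m
    simp only [Subgroup.mem_comap, Subgroup.mem_subgroupOf]
    show k⁻¹ * m.1 * k ∈ A ↔ _
    exact ⟨fun h => ⟨_, h, by simp [mul_assoc]⟩, fun ⟨a, ha, e⟩ => by rw [← e]; simpa [mul_assoc] using ha⟩
  tt p q := k * P.tt p q * k⁻¹
  mem p q h := ⟨⟨_, (P.mem p q h).1, rfl⟩, fun e => (P.mem p q h).2.1 (conj_eq_one_iff.1 e),
    fun hc => (P.mem p q h).2.2 ((isConj_conj_iff k _).1 hc)⟩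
  surj := by
    rintro _ ⟨a, ha, rfl⟩ h1 hc
    obtain ⟨p, q, hpq, e⟩ := P.surj a ha (fun e => h1 (by rw [e, map_one]))
      (fun hh => hc ((isConj_conj_iff k a).2 hh))
    exact ⟨p, q, hpq, by rw [e]; rfl⟩
  symm p q := by rw [P.symm]
  equiv m p q := by
    show _ = k * P.tt (P.φ (conjNorm A k m) p) (P.φ (conjNorm A k m) q) * k⁻¹
    rw [← P.equiv]
    rw [conjNorm_apply]
    group
  inj p q r s h1 h2 e := P.inj p q r s h1 h2 (mul_left_cancel (mul_right_cancel e))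

/-- The Thompson subgroup of any Sylow 2-subgroup. -/
theorem main (z : G) (Q : Subgroup (Cz z)) [Q.Normal] (hF : Cfsg.IsOfLargeFischerTypeAt z Q)
    (T : Sylow 2 G) (A : Subgroup G) (hA : A = Cfsg.thompsonSubgroupOf 2 (T : Subgroup G)) :
    Cfsg.IsElementaryAbelian 2 A ∧ Nat.card A = 2 ^ 11 ∧ IsOnlyMax A (T : Subgroup G) ∧
      (∃ a ∈ A, a ≠ 1 ∧ IsConj z a) ∧ Nonempty (Pts z A) := by
  haveI : Fact (Nat.Prime 2) := ⟨Nat.prime_two⟩
  obtain ⟨L⟩ := FischerLarge45.exists_local hF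
  obtain ⟨P⟩ := exists_pts L hF
  obtain ⟨S, -, hS⟩ := exists_sylow L
  obtain ⟨k, hk⟩ := MulAction.exists_smul_eq G S T
  have hT : (T : Subgroup G) = (S : Subgroup G).map (MulAut.conj k).toMonoidHom := by rw [← hk]; rfl
  have hmax := isOnlyMax_map (MulAut.conj k).toMonoidHom (MulAut.conj k).injective hS
  rw [← hT] at hmax
  have hAeq : A = (AG L).map (MulAut.conj k).toMonoidHom := hA.trans (thompson_eq hmax)
  subst hAeq
  refine ⟨⟨⟨⟨fun a b => Subtype.ext (commute_of_sq hmax.2.1 a.2 b.2).eq⟩⟩,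
      fun a ha => by rw [pow_two]; exact hmax.2.1 a ha⟩, ?_, hmax, ⟨k * z * k⁻¹, ?_, ?_, ?_⟩, ⟨P.map k⟩⟩
  · rw [Subgroup.card_map_of_injective (MulAut.conj k).injective, card_AG L]
  · exact ⟨z, ⟨FischerLarge45.zc z, L.data.U_le_W L.data.hzU, rfl⟩, rfl⟩
  · exact fun e => L.data.es.ne (Subtype.ext (conj_eq_one_iff.1 e))
  · exact isConj_iff.2 ⟨k, rfl⟩

/-- Two elements of `A` outside the class are conjugate in the normaliser. -/
theorem Pts.transitive {A : Subgroup G} (P : Pts z A) {a b : G} (ha : a ∈ A) (hb : b ∈ A) (ha1 : a ≠ 1)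
    (hb1 : b ≠ 1) (hac : ¬ IsConj z a) (hbc : ¬ IsConj z b) :
    ∃ m ∈ Subgroup.normalizer (A : Set G), m * a * m⁻¹ = b := by
  obtain ⟨p, q, hpq, rfl⟩ := P.surj a ha ha1 hac
  obtain ⟨r, s, hrs, rfl⟩ := P.surj b hb hb1 hbc
  haveI := Golay.multiply_pretransitive
  haveI : MulAction.IsMultiplyPretransitive Cfsg.M24 Cfsg.GolayPt 2 :=
    MulAction.isMultiplyPretransitive_of_le (n := 5) (by norm_num) (by simp [Cfsg.GolayPt])
  obtain ⟨⟨σ, hσ⟩, h1, h2⟩ := MulAction.is_two_pretransitive_iff.1 this hpq hrs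
  rw [← P.range_eq] at hσ
  obtain ⟨m, hm⟩ := hσ
  refine ⟨m, m.2, ?_⟩
  rw [P.equiv, hm]
  exact congrArg₂ P.tt h1 h2

/-- The setwise stabiliser of a pair. -/
theorem Pts.centralizer_iff {A : Subgroup G} (P : Pts z A) {p q : Cfsg.GolayPt} (hpq : p ≠ q)
    (m : ↥(Subgroup.normalizer (A : Set G))) :
    (m : G) ∈ Subgroup.centralizer ({P.tt p q} : Set G) ↔
      P.φ m • ({p, q} : Set Cfsg.GolayPt) = {p, q} := by
  have himg : P.φ m • ({p, q} : Set Cfsg.GolayPt) = {P.φ m p, P.φ m q} := by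
    rw [Set.smul_set_insert, Set.smul_set_singleton]; rfl
  rw [Subgroup.mem_centralizer_singleton_iff, ← mul_inv_eq_iff_eq_mul, P.equiv, himg]
  constructor
  · intro h
    rcases P.inj _ _ _ _ ((P.φ m).injective.ne hpq) hpq h with ⟨h1, h2⟩ | ⟨h1, h2⟩
    · rw [h1, h2]
    · rw [h1, h2, Set.pair_comm]
  · intro h
    have hp : P.φ m p ∈ ({p, q} : Set Cfsg.GolayPt) := h ▸ Set.mem_insert _ _
    have hq : P.φ m q ∈ ({p, q} : Set Cfsg.GolayPt) := h ▸ Set.mem_insert_of_mem _ rfl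
    rcases hp with hp | hp <;> rcases hq with hq | hq
    · exact absurd (hp.trans hq.symm) ((P.φ m).injective.ne hpq)
    · rw [hp, hq]
    · rw [hp, hq, P.symm]
    · exact absurd (hp.trans hq.symm) ((P.φ m).injective.ne hpq)

end Cfsg.Agent.Lib.FischerLarge43
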