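import Cfsg.Agent.Lib.FischerLarge43.Data

/-!
# Checks on the model
-/

set_option autoImplicit false
set_option maxRecDepth 100000

namespace Cfsg.Agent.Lib.FischerLarge43

open Cfsg.Agent.Lib.FischerLarge45.Model

theorem bimg_plane : (List.range 16).all (fun y => (List.range 12).all fun j =>
    uvec (dd y (2 ^ j)) == bimg y (2 ^ j) ^^^ 2 ^ j && dd y (omega (2 ^ j)) == uom (dd y (2 ^ j))) = true := by
  decide +kernel

theorem uvec_ok : (List.range 64).all (fun u => ucode (uvec u) == u && decide (uvec u < 4096) &&
    (uvec u == 0 || isR (uvec u) || isU (uvec u)) &&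
    (uList.contains u == (isU (uvec u))) && (uList.contains (u + 1024) == (isU (uvec u)))) = true := by
  decide +kernel

theorem uList_len : uList.length = 36 := by decide +kernel

theorem orbit_ok : (List.range' 1 15).all (fun y =>
    closure5 y 0 == o0 y && closure5 y 64 == o1 y && closure5 y (orbRep.getD (y - 1) 0) == o2 y &&
      ((List.range 128).filter (o0 y).testBit).length == 16 &&
      ((List.range 128).filter (o1 y).testBit).length == 16 &&
      (List.range 128).all fun s => !((o0 y).testBit s && (o1 y).testBit s) &&
        decide ((s &&& 63) + 64 * (s >>> 6) = s)) = true := by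
  decide +kernel

theorem kap_polar : (List.range' 1 15).all (fun y => (List.range 64).all fun u =>
    !((o0 y).testBit u || (o0 y).testBit (u + 64)) ||
      ((List.range 12).all fun j => ((o0 y).testBit (dd y (2 ^ j) ^^^ u) || (o0 y).testBit ((dd y (2 ^ j) ^^^ u) + 64)) &&
        (kap y (dd y (2 ^ j) ^^^ u) + kap y (dd y (2 ^ j)) + kap y u) % 2 == bb (2 ^ j) (uvec u)) &&
      kap y (uom u) == kap y u) = true := by
  decide +kernel

theorem perm_ok : (List.range 11).all (fun g => (List.range' 1 15).all (fun y => decide (1 ≤ permY g y) &&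
    (List.range 12).all fun j => bimg (permY g y) (ap (stabKeys.getD g 0) (2 ^ j)) ==
      ap (stabKeys.getD g 0) (bimg y (2 ^ j))) &&
    uBasis.all fun u => uvec (ucode (ap (stabKeys.getD g 0) u)) == ap (stabKeys.getD g 0) u) = true := by
  decide +kernel

theorem pairs_ok : (List.range 24).all (fun i => (List.range 24).all fun k =>
    i == k || (ttList cb0).contains (vg.getD i 0 ^^^ vg.getD k 0)) = true := by
  decide +kernel

theorem orbLists_ok : (List.range' 1 15).all (fun y =>
    orbLists.getD (2 * (y - 1)) [] == cosetOf y (o0 y) &&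
      orbLists.getD (2 * (y - 1) + 1) [] == cosetOf y (o1 y)) = true := by decide +kernel

theorem ttList_len : (ttList cb0).length = 276 := by decide +kernel

theorem five_ok : (List.range 12).all (fun j =>
    wapp (fiveWord ++ fiveWord ++ fiveWord ++ fiveWord ++ fiveWord) (2 ^ j) == 2 ^ j) = true := by
  decide +kernel

theorem five_ne : (List.range 12).all (fun j => wapp fiveWord (2 ^ j) == 2 ^ j) = false := by
  decide +kernel

end Cfsg.Agent.Lib.FischerLarge43
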