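import Cfsg.Agent.Lib.FischerLarge43.Data
import Cfsg.Agent.Lib.FischerLarge45.Codes

/-!
# Further checks: the plane, the classes, the monomial maps
-/

set_option autoImplicit false
set_option maxRecDepth 100000

namespace Cfsg.Agent.Lib.FischerLarge43

open Cfsg.Agent.Lib.FischerLarge45.Model
open Cfsg.Agent.Lib.FischerLarge45.Codes (inU qn mv)

/-- the vectors fixed by every element of the group of order 16 form the plane -/
theorem uSet_ok : (List.range 64).all (fun u => decide (uvec u ∈ uSet)) = true ∧
    uSet.all (fun a => uvec (ucode a) == a && decide (ucode a < 64)) = true := by decide +kernel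

theorem uvec_xor : (List.range 64).all (fun a => (List.range 64).all fun b =>
    uvec (a ^^^ b) == uvec a ^^^ uvec b) = true := by decide +kernel

theorem forms_ok : (List.range 4096).all (fun k => isU k == inU k && (qq k == if qn k then 1 else 0) &&
    (k ^^^ omega k ^^^ omega (omega k) == 0)) = true := by decide +kernel

theorem class_count : ((List.range 4096).filter isR).length = 1701 ∧
    ((List.range 4096).filter isU).length = 378 := by decide +kernel

theorem sing_class : (List.range' 1 4095).all (fun k => qn k || isR k || isU k) = true := by decide +kernel

theorem plane_perp : (List.range 4096).all (fun v =>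
    !(uBasis.all fun u => bb v u == 0) || decide (v ∈ uSet)) = true := by decide +kernel

theorem bimg_ne : (List.range' 1 15).all (fun y => (List.range 12).any fun j =>
    bimg y (2 ^ j) != 2 ^ j) = true := by decide +kernel

theorem mono_ok : (List.range 12).all (fun j =>
    ap (stabKeys.getD 8 0) (2 ^ j) == omega (2 ^ j) &&
    ap (stabKeys.getD 9 0) (2 ^ j) == mv 1 ![1, 1, 2, 2, 0, 0] (2 ^ j) &&
    ap (stabKeys.getD 10 0) (2 ^ j) == mv (Equiv.addRight (2 : Fin 6)) 0 (2 ^ j)) = true := by decide +kernel

/-- the masks reached from the first coset -/
def reach : Nat → Nat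
  | 0 => 2
  | n + 1 => maskOf (((List.range 16).filter (reach n).testBit).flatMap fun y =>
      y :: (List.range 11).map fun g => permY g y)

theorem reach_ok : reach 4 = 65534 := by decide +kernel

theorem count_ok : (List.range' 1 15).all (fun y => [false, true].all fun a => [false, true].all fun b =>
    [false, true].all fun c => ((List.range 128).filter fun s =>
      ((o0 y).testBit s && a) || ((o1 y).testBit s && b) || ((o2 y).testBit s && c)).length ==
        (if a then 16 else 0) + (if b then 16 else 0) + (if c then 96 else 0)) = true := by decide +kernel

theorem states_ok : (List.range' 1 15).all (fun y => (List.range 128).all fun s =>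
    let a := (o0 y).testBit s
    let b := (o1 y).testBit s
    ((a || b) != (o2 y).testBit s) && !(a && b)) = true := by decide +kernel

theorem orbits_zero : (List.range' 1 15).all (fun y => (o0 y).testBit 0 && (o1 y).testBit 64) = true := by
  decide +kernel

theorem lists_ok : (List.range' 1 15).all (fun y => [0, 1].all fun i =>
    decide (orbLists.getD (2 * (y - 1) + i) []).Nodup &&
      (orbLists.getD (2 * (y - 1) + i) []).all fun a => (a >>> 6) &&& 15 == y && decide (a < 2048)) = true ∧
    uList.Nodup ∧ uList.all (fun a => (a >>> 6) &&& 15 == 0 && decide (a < 2048)) = true := by decide +kernel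

end Cfsg.Agent.Lib.FischerLarge43
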