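import Cfsg.Agent.Lib.FischerLarge45.Local
import Cfsg.Agent.Lib.FischerLarge43.Check
import Cfsg.Agent.Lib.FischerLarge43.CheckMore

/-!
# Large Fischer type: coordinates on the elementary abelian subgroup of order `2^11`

`el` sends a state below 2048 to an element of `C_B(U)`: the lift of its plane part (chosen fixed
under the element `x` of order three in the sense `v ↦ xvx⁻¹ · x²vx⁻²`), a product of four chosen
`x`-fixed elements over the generators of `B/Q`, and the central involution.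

Owner: helper43.
-/

set_option autoImplicit false
set_option linter.style.haveILetI false
set_option linter.unusedSectionVars false

namespace Cfsg.Agent.Lib.FischerLarge43

open Cfsg.Agent.Lib.LargeFischer13
open Cfsg.Agent.Lib.FischerLarge45 (Local Wof zc zc_comm zc_cases π_conj')
open Cfsg.Agent.Lib.FischerLarge45.Model (ap key omega span b0L uSet uBasis eI eI_sem mulT mulT_sem ap_xor ap_lt eq_of_basis map_sumBits sumBits sumBits_id)
open Cfsg.Agent.Lib.FischerLarge45.Codes (omega_xor omega_lt qn wtN)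
open Cfsg.Agent.Lib.LargeExtraspecial.Basic (commute_of_sq)

attribute [local instance] Bridge.acg Bridge.fin Bridge.act

/-- the state of the coset of `y` with the local part `s` -/
def st (y s : Nat) : Nat := (s &&& 63) + 64 * y + 1024 * (s >>> 6)

theorem st_bits : ∀ y < 16, ∀ s < 128, (st y s &&& 63) = s &&& 63 ∧ ((st y s >>> 6) &&& 15) = y ∧
    st y s >>> 10 = s >>> 6 ∧ st y s < 2048 ∧ s >>> 6 < 2 ∧ s &&& 63 < 64 := by decide +kernel

theorem z2_xor : ∀ a < 2, ∀ b < 2, (((a ^^^ b : Nat)) : ZMod 2) = (a : ZMod 2) + (b : ZMod 2) := by decide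

theorem bimg_lt {y v : Nat} (hv : v < 4096) : bimg y v < 4096 := by
  simp only [bimg]
  generalize b0L.zipIdx = l
  induction l generalizing v with
  | nil => exact hv
  | cons t l ih =>
    rw [List.foldl_cons]
    refine ih ?_
    split
    · exact ap_lt _ _
    · exact hv

theorem bimg_xor (y a b : Nat) : bimg y (a ^^^ b) = bimg y a ^^^ bimg y b := by
  simp only [bimg]
  generalize b0L.zipIdx = l
  induction l generalizing a b with
  | nil => rfl
  | cons t l ih =>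
    rw [List.foldl_cons, List.foldl_cons, List.foldl_cons, ← ih]
    split <;> simp [ap_xor]

theorem uvec_spec {u : Nat} (hu : u < 64) : ucode (uvec u) = u ∧ uvec u < 4096 ∧ uvec u ∈ uSet := by
  have h1 := List.all_eq_true.1 uvec_ok u (List.mem_range.2 hu)
  have h2 := List.all_eq_true.1 uSet_ok.1 u (List.mem_range.2 hu)
  simp only [Bool.and_eq_true, beq_iff_eq, decide_eq_true_eq] at h1 h2
  exact ⟨h1.1.1.1.1, h1.1.1.1.2, h2⟩

theorem uvec_inj {a b : Nat} (ha : a < 64) (hb : b < 64) (h : uvec a = uvec b) : a = b := by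
  rw [← (uvec_spec ha).1, h, (uvec_spec hb).1]

theorem uvec_add {a b : Nat} (ha : a < 64) (hb : b < 64) : uvec (a ^^^ b) = uvec a ^^^ uvec b := by
  simpa using List.all_eq_true.1 (List.all_eq_true.1 uvec_xor a (List.mem_range.2 ha)) b (List.mem_range.2 hb)

theorem uSet_code {a : Nat} (ha : a ∈ uSet) : uvec (ucode a) = a ∧ ucode a < 64 := by
  simpa using List.all_eq_true.1 uSet_ok.2 a ha

theorem uom_spec {u : Nat} (hu : u < 64) : uvec (uom u) = omega (uvec u) ∧ uom u < 64 :=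
  uSet_code (FischerLarge45.uSet_facts _ (uvec_spec hu).2.2).2.1

theorem bimg_zero (y : Nat) : bimg y 0 = 0 := by
  have := bimg_xor y 0 0
  simpa using this

theorem dd_spec {y : Nat} (hy : y < 16) {v : Nat} (hv : v < 4096) :
    uvec (dd y v) = bimg y v ^^^ v ∧ dd y v < 64 := by
  have key : ∀ l : List Nat, (∀ j ∈ l, j < 12) →
      ∃ u < 64, uvec u = bimg y (sumBits (fun j => 2 ^ j) v l) ^^^ sumBits (fun j => 2 ^ j) v l := by
    intro l hl
    induction l with
    | nil => exact ⟨0, by norm_num, by simp [sumBits, bimg_zero, uvec]⟩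
    | cons j l ih =>
      obtain ⟨u, hu, e⟩ := ih fun i hi => hl i (List.mem_cons_of_mem _ hi)
      simp only [sumBits]
      split
      · have h := List.all_eq_true.1 (List.all_eq_true.1 bimg_plane y (List.mem_range.2 hy)) j
          (List.mem_range.2 (hl j (List.mem_cons_self ..)))
        simp only [Bool.and_eq_true, beq_iff_eq] at h
        have hd : dd y (2 ^ j) < 64 := by
          have hb : ∀ y < 16, ∀ j < 12, dd y (2 ^ j) < 64 := by decide +kernel
          exact hb y hy j (hl j (List.mem_cons_self ..))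
        refine ⟨dd y (2 ^ j) ^^^ u, Nat.xor_lt_two_pow (n := 6) hd hu, ?_⟩
        rw [uvec_add hd hu, h.1, e, bimg_xor]
        ac_rfl
      · exact ⟨u, hu, by simpa using e⟩
  obtain ⟨u, hu, e⟩ := key (List.range 12) fun j hj => List.mem_range.1 hj
  rw [sumBits_id hv] at e
  rw [dd, ← e, (uvec_spec hu).1]
  exact ⟨rfl, hu⟩

theorem dd_xor {y : Nat} (hy : y < 16) {a b : Nat} (ha : a < 4096) (hb : b < 4096) :
    dd y (a ^^^ b) = dd y a ^^^ dd y b := by
  have hab := Nat.xor_lt_two_pow (n := 12) ha hb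
  obtain ⟨h1, l1⟩ := dd_spec hy hab
  obtain ⟨h2, l2⟩ := dd_spec hy ha
  obtain ⟨h3, l3⟩ := dd_spec hy hb
  refine uvec_inj l1 (Nat.xor_lt_two_pow (n := 6) l2 l3) ?_
  rw [uvec_add l2 l3, h1, h2, h3, bimg_xor]
  ac_rfl

universe u

variable {G : Type u} [Group G] [Finite G] {z : G} {Q : Subgroup (Cz z)} [Q.Normal]
variable (L : Local z Q)

/-- the subgroup of order `2^11` in the ambient group -/
def AG : Subgroup G := (Wof L.U L.B).map (Cz z).subtype

/-- a preimage in `Q` of a code -/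
noncomputable def pre (k : Nat) : Q := Classical.choose (L.br.π_surj (L.S.E k))

theorem π_pre (k : Nat) : L.br.π (pre L k) = L.S.E k := Classical.choose_spec (L.br.π_surj (L.S.E k))

/-- powers of the central involution -/
def zb (a : ZMod 2) : Cz z := if a = 0 then 1 else zc z

theorem zb_zero : zb (z := z) 0 = 1 := if_pos rfl

theorem zb_one : zb (z := z) 1 = zc z := if_neg (by decide)

include L in
theorem zc_sq : zc z * zc z = 1 := L.data.es.sq

include L in
theorem zb_add (a b : ZMod 2) : zb (z := z) (a + b) = zb a * zb b := by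
  have h : ∀ c : ZMod 2, c = 0 ∨ c = 1 := by decide
  rcases h a with rfl | rfl <;> rcases h b with rfl | rfl
  · rw [add_zero, zb_zero, one_mul]
  · rw [zero_add, zb_zero, one_mul]
  · rw [add_zero, zb_zero, mul_one]
  · rw [show (1 : ZMod 2) + 1 = 0 by decide, zb_zero, zb_one, zc_sq L]

include L in
theorem zb_inj {a b : ZMod 2} (h : zb (z := z) a = zb b) : a = b := by
  have hc : ∀ c : ZMod 2, c = 0 ∨ c = 1 := by decide
  rcases hc a with rfl | rfl <;> rcases hc b with rfl | rfl <;> try rfl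
  · exact absurd (zb_zero.symm.trans (h.trans zb_one)).symm L.data.es.ne
  · exact absurd (zb_one.symm.trans (h.trans zb_zero)) L.data.es.ne

theorem zb_comm (c : Cz z) (a : ZMod 2) : Commute c (zb a) := by
  unfold zb
  split
  · exact Commute.one_right c
  · exact zc_comm c

include L in
theorem zb_mem (a : ZMod 2) : zb a ∈ L.U := by
  unfold zb
  split
  · exact L.U.one_mem
  · exact L.data.hzU

theorem commU {u v : Cz z} (hu : u ∈ L.U) (hv : v ∈ L.U) : Commute u v := commute_of_sq L.data.sqU hu hv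

theorem commW {u v : Cz z} (hu : u ∈ Wof L.U L.B) (hv : v ∈ Wof L.U L.B) : Commute u v :=
  commute_of_sq L.data.W_elem hu hv

theorem xU {u : Cz z} (hu : u ∈ L.U) : L.x * u * L.x⁻¹ ∈ L.U := L.data.normU u hu

theorem E_zero : L.S.E 0 = 0 := by
  have := L.S.E_xor 0 0
  rw [Nat.xor_self] at this
  exact add_eq_left.mp this.symm

theorem π_zb (a : ZMod 2) {q : Q} (hq : (q : Cz z) = zb a) : L.br.π q = 0 := by
  refine (L.br.π_zero q).2 ?_
  by_cases h : a = 0
  · subst h; exact Or.inl (Subtype.ext (hq.trans zb_zero))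
  · exact Or.inr (congrArg Subtype.val (hq.trans (if_neg h)))

theorem mem_U_of_code {q : Q} {a : Nat} (ha : a ∈ uSet) (h : L.br.π q = L.S.E a) : (q : Cz z) ∈ L.U :=
  (L.mem_U q).2 ⟨q.2, a, ha, h.symm⟩

theorem x_smul {k : Nat} (hk : k < 4096) :
    (QuotientGroup.mk L.x : (Cz z) ⧸ Q) • L.S.E k = L.S.E (omega k) := by
  rw [L.mk_x, L.S.h_E hk]

theorem π_conj_code (c : Cz z) (q : Q) {k : Nat} (hk : k < 4096) (hq : L.br.π q = L.S.E k)
    {f : Nat → Nat} (hf : L.S.ac (QuotientGroup.mk c) k = f k) {q' : Q} (hq' : (q' : Cz z) = c * q * c⁻¹) :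
    L.br.π q' = L.S.E (f k) := by
  rw [← L.br.π_conj c q q' hq', hq, ← L.S.E_ac, hf]

/-- `v ↦ xvx⁻¹ · x²vx⁻²` -/
def sym2 (v : Cz z) : Cz z := L.x * v * L.x⁻¹ * (L.x * (L.x * v * L.x⁻¹) * L.x⁻¹)

/-- the fixed lift of a plane code -/
noncomputable def sU (u : Nat) : Cz z := sym2 L (pre L (uvec u))

theorem sym2_z (v : Cz z) (hv : v ∈ L.U) : sym2 L (v * zc z) = sym2 L v := by
  have h1 : L.x * (v * zc z) * L.x⁻¹ = L.x * v * L.x⁻¹ * zc z := by
    rw [← mul_assoc, mul_assoc (L.x * v), (zc_comm L.x⁻¹).symm.eq, ← mul_assoc]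
  have h2 : L.x * (L.x * v * L.x⁻¹ * zc z) * L.x⁻¹ = L.x * (L.x * v * L.x⁻¹) * L.x⁻¹ * zc z := by
    rw [← mul_assoc, mul_assoc (L.x * _), (zc_comm L.x⁻¹).symm.eq, ← mul_assoc]
  unfold sym2
  rw [h1, h2, mul_assoc, ← mul_assoc (zc z), ← (zc_comm _).eq, mul_assoc _ (zc z) (zc z), zc_sq L, mul_one]

theorem sym2_fibre {p q : Q} (hp : (p : Cz z) ∈ L.U) (h : L.br.π p = L.br.π q) :
    sym2 L (q : Cz z) = sym2 L (p : Cz z) := by
  rcases zc_cases L.br h with e | e <;> rw [e]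
  exact sym2_z L _ hp

theorem pre_mem {u : Nat} (hu : u < 64) : (pre L (uvec u) : Cz z) ∈ L.U :=
  mem_U_of_code L (uvec_spec hu).2.2 (π_pre L _)

theorem sU_mem {u : Nat} (hu : u < 64) : sU L u ∈ L.U :=
  L.U.mul_mem (xU L (pre_mem L hu)) (xU L (xU L (pre_mem L hu)))

theorem π_sU {u : Nat} (hu : u < 64) {q : Q} (hq : (q : Cz z) = sU L u) : L.br.π q = L.S.E (uvec u) := by
  set v := pre L (uvec u)
  let q1 : Q := ⟨L.x * v * L.x⁻¹, Subgroup.Normal.conj_mem inferInstance _ v.2 L.x⟩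
  let q2 : Q := ⟨L.x * q1 * L.x⁻¹, Subgroup.Normal.conj_mem inferInstance _ q1.2 L.x⟩
  have hlt := (uvec_spec hu).2.1
  have hx : ∀ k < 4096, L.S.ac (QuotientGroup.mk L.x) k = omega k := fun k hk =>
    L.S.E_inj (L.S.ac_lt _ _) (omega_lt hk) (by rw [L.S.E_ac, x_smul L hk])
  have e1 : L.br.π q1 = L.S.E (omega (uvec u)) := π_conj_code L L.x v hlt (π_pre L _) (hx _ hlt) rfl
  have e2 : L.br.π q2 = L.S.E (omega (omega (uvec u))) :=
    π_conj_code L L.x q1 (omega_lt hlt) e1 (hx _ (omega_lt hlt)) rfl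
  rw [show q = q1 * q2 from Subtype.ext hq, L.br.π_mul, e1, e2, ← L.S.E_xor]
  have h := List.all_eq_true.1 forms_ok (uvec u) (List.mem_range.2 hlt)
  simp only [Bool.and_eq_true, beq_iff_eq] at h
  congr 1
  have h3 := h.2
  rw [Nat.xor_assoc] at h3
  exact (Nat.xor_eq_zero_iff.1 h3).symm

theorem sU_xor {a b : Nat} (ha : a < 64) (hb : b < 64) : sU L (a ^^^ b) = sU L a * sU L b := by
  set p : Q := pre L (uvec a) * pre L (uvec b)
  have hp : L.br.π p = L.br.π (pre L (uvec (a ^^^ b))) := by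
    rw [L.br.π_mul, π_pre, π_pre, π_pre, uvec_add ha hb, L.S.E_xor]
  have hpU : (p : Cz z) ∈ L.U := L.U.mul_mem (pre_mem L ha) (pre_mem L hb)
  rw [sU, sym2_fibre L hpU hp]
  have ea := pre_mem L ha
  have eb := pre_mem L hb
  show sym2 L ((pre L (uvec a) : Cz z) * (pre L (uvec b) : Cz z)) = _
  simp only [sU, sym2]
  generalize (pre L (uvec a) : Cz z) = v at ea
  generalize (pre L (uvec b) : Cz z) = w at eb
  have hc := (commU L (xU L (xU L ea)) (xU L eb)).eq
  calc L.x * (v * w) * L.x⁻¹ * (L.x * (L.x * (v * w) * L.x⁻¹) * L.x⁻¹)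
      = L.x * v * L.x⁻¹ * ((L.x * w * L.x⁻¹) * (L.x * (L.x * v * L.x⁻¹) * L.x⁻¹)) *
          (L.x * (L.x * w * L.x⁻¹) * L.x⁻¹) := by group
    _ = L.x * v * L.x⁻¹ * ((L.x * (L.x * v * L.x⁻¹) * L.x⁻¹) * (L.x * w * L.x⁻¹)) *
          (L.x * (L.x * w * L.x⁻¹) * L.x⁻¹) := by rw [hc]
    _ = _ := by group

theorem sU_zero : sU L 0 = 1 := by
  have h := sU_xor L (a := 0) (b := 0) (by norm_num) (by norm_num)
  rw [Nat.xor_self] at h
  exact mul_eq_left.1 h.symm

theorem x_sU {u : Nat} (hu : u < 64) : L.x * sU L u * L.x⁻¹ = sU L (uom u) := by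
  obtain ⟨e, hlt⟩ := uom_spec hu
  set v := pre L (uvec u)
  let p : Q := ⟨L.x * v * L.x⁻¹, Subgroup.Normal.conj_mem inferInstance _ v.2 L.x⟩
  have hp : L.br.π p = L.br.π (pre L (uvec (uom u))) := by
    rw [π_pre, e, ← x_smul L (uvec_spec hu).2.1, ← π_pre L (uvec u), L.br.π_conj L.x v p rfl]
  rw [show sU L (uom u) = sym2 L (pre L (uvec (uom u))) from rfl, sym2_fibre L (xU L (pre_mem L hu)) hp]
  show L.x * sym2 L (v : Cz z) * L.x⁻¹ = sym2 L (L.x * (v : Cz z) * L.x⁻¹)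
  unfold sym2
  group

/-- four chosen elements over the generators of the group of order 16 -/
structure Base where
  e : Fin 4 → Cz z
  mem : ∀ i, e i ∈ Wof L.U L.B
  fix : ∀ i, L.x * e i * L.x⁻¹ = e i
  img : ∀ i : Fin 4, ∀ k < 4096, L.S.ac (QuotientGroup.mk (e i)) k = ap (key (b0L.getD i.1 0)) k

theorem xW {a : Cz z} (ha : a ∈ Wof L.U L.B) : L.x * a * L.x⁻¹ ∈ Wof L.U L.B := by
  refine (L.data.mem_W).2 ⟨?_, fun u hu => ?_⟩
  · have h1 := L.data.trivB a ((L.data.mem_W).1 ha).1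
    have h2 := L.B.mul_mem (L.data.hQB h1) ((L.data.mem_W).1 ha).1
    simpa using h2
  · have hu' : L.x⁻¹ * u * L.x ∈ L.U := by
      have h := xU L (xU L hu)
      have h3 : L.x * L.x * L.x = 1 := by rw [← sq, ← pow_succ]; exact L.data.cube
      rw [show L.x * (L.x * u * L.x⁻¹) * L.x⁻¹ = L.x * L.x * L.x * (L.x⁻¹ * u * L.x) * (L.x * L.x * L.x)⁻¹ by
        group, h3, one_mul, inv_one, mul_one] at h
      exact h
    have hc := ((L.data.mem_W).1 ha).2 _ hu'
    have := hc.map (MulAut.conj L.x)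
    simpa [mul_assoc] using this

theorem exists_base : Nonempty (Base L) := by
  have h : ∀ i : Fin 4, ∃ a ∈ Wof L.U L.B, ∀ k < 4096,
      L.S.ac (QuotientGroup.mk a) k = ap (key (b0L.getD i.1 0)) k := by
    intro i
    have hb : ∀ i : Fin 4, b0L.getD i.1 0 < 256 ∧ b0L.getD i.1 0 ∈ span b0L := by decide +kernel
    obtain ⟨g, hg⟩ := FischerLarge45.Lifts.key_img L.S _ (hb i).1
    obtain ⟨b, rfl⟩ := QuotientGroup.mk_surjective g
    have hbB : b ∈ L.B := (L.mem_B b).2 ⟨_, (hb i).2, hg⟩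
    obtain ⟨q, hq, hw⟩ := L.data.exists_W hbB
    refine ⟨_, hw, fun k hk => ?_⟩
    rw [QuotientGroup.mk_mul, (QuotientGroup.eq_one_iff q⁻¹).2 (Q.inv_mem hq), one_mul, hg k hk]
  choose a ha hk using h
  refine ⟨⟨fun i => a i * (L.x * a i * L.x⁻¹) * (L.x * (L.x * a i * L.x⁻¹) * L.x⁻¹),
    fun i => mul_mem (mul_mem (ha i) (xW L (ha i))) (xW L (xW L (ha i))), fun i => ?_, fun i k hk' => ?_⟩⟩
  · set p := L.x * a i * L.x⁻¹ with hp
    set r := L.x * p * L.x⁻¹ with hr
    have h3 : L.x * r * L.x⁻¹ = a i := by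
      have hc : L.x * L.x * L.x = 1 := by rw [← sq, ← pow_succ]; exact L.data.cube
      calc L.x * r * L.x⁻¹ = L.x * L.x * L.x * a i * (L.x * L.x * L.x)⁻¹ := by rw [hr, hp]; group
        _ = a i := by rw [hc]; group
    calc L.x * (a i * p * r) * L.x⁻¹ = (L.x * a i * L.x⁻¹) * (L.x * p * L.x⁻¹) * (L.x * r * L.x⁻¹) := by rw [conj_mul, conj_mul]
      _ = p * r * (L.x * r * L.x⁻¹) := by rw [← hp, ← hr]
      _ = p * r * a i := by rw [h3]
      _ = a i * (p * r) := ((commW L (ha i) (mul_mem (xW L (ha i)) (xW L (xW L (ha i))))).eq).symm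
      _ = a i * p * r := (mul_assoc _ _ _).symm
  · have hcj : ∀ c : Cz z, c ∈ L.B →
        (QuotientGroup.mk (L.x * c * L.x⁻¹) : (Cz z) ⧸ Q) = QuotientGroup.mk c := fun c hc => by
      have := (QuotientGroup.eq_one_iff _).2 (L.data.trivB c hc)
      rw [QuotientGroup.mk_mul, QuotientGroup.mk_inv] at this
      exact mul_inv_eq_one.1 this
    have hB := fun j => ((L.data.mem_W).1 (ha j)).1
    have hxB : L.x * a i * L.x⁻¹ ∈ L.B := ((L.data.mem_W).1 (xW L (ha i))).1
    have hsq : (QuotientGroup.mk (a i) : (Cz z) ⧸ Q) * QuotientGroup.mk (a i) = 1 :=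
      (QuotientGroup.eq_one_iff _).2 (L.data.sqB _ (hB i))
    rw [QuotientGroup.mk_mul, QuotientGroup.mk_mul, hcj _ hxB, hcj _ (hB i), hsq, one_mul, hk i k hk']

variable {L} (P : Base L)

/-- the product of the chosen elements over `y` -/
def Base.eY (y : Nat) : Cz z :=
  (if y.testBit 3 then P.e 3 else 1) * (if y.testBit 2 then P.e 2 else 1) *
    (if y.testBit 1 then P.e 1 else 1) * (if y.testBit 0 then P.e 0 else 1)

/-- the element of a state -/
noncomputable def Base.el (m : Nat) : Cz z :=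
  sU L (m &&& 63) * P.eY ((m >>> 6) &&& 15) * zb ((m >>> 10 : Nat) : ZMod 2)

theorem Base.eY_mem (y : Nat) : P.eY y ∈ Wof L.U L.B := by
  have h : ∀ (b : Bool) (i : Fin 4), (if b then P.e i else 1) ∈ Wof L.U L.B := fun b i => by
    cases b
    · exact one_mem _
    · exact P.mem i
  exact mul_mem (mul_mem (mul_mem (h _ _) (h _ _)) (h _ _)) (h _ _)

theorem Base.x_eY (y : Nat) : L.x * P.eY y * L.x⁻¹ = P.eY y := by
  have h : ∀ (b : Bool) (i : Fin 4), L.x * (if b then P.e i else 1) * L.x⁻¹ = if b then P.e i else 1 := by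
    intro b i
    cases b
    · simp
    · exact P.fix i
  calc L.x * P.eY y * L.x⁻¹ = (L.x * (if y.testBit 3 then P.e 3 else 1) * L.x⁻¹) *
        (L.x * (if y.testBit 2 then P.e 2 else 1) * L.x⁻¹) *
        (L.x * (if y.testBit 1 then P.e 1 else 1) * L.x⁻¹) *
        (L.x * (if y.testBit 0 then P.e 0 else 1) * L.x⁻¹) := by simp only [Base.eY]; group
    _ = _ := by rw [h, h, h, h]; rfl

theorem Base.ac_eY (y : Nat) {k : Nat} (hk : k < 4096) :
    L.S.ac (QuotientGroup.mk (P.eY y)) k = bimg y k := by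
  have h : ∀ (b : Bool) (i : Fin 4) (w : Nat), w < 4096 →
      L.S.ac (QuotientGroup.mk (if b then P.e i else 1)) w =
        if b then ap (key (b0L.getD i.1 0)) w else w := by
    intro b i w hw
    cases b
    · simp only [Bool.false_eq_true, ↓reduceIte, QuotientGroup.mk_one, L.S.ac_one hw]
    · exact P.img i w hw
  have hl : ∀ (b : Bool) (i : Fin 4) (w : Nat), w < 4096 →
      (if b then ap (key (b0L.getD i.1 0)) w else w) < 4096 := by
    intro b i w hw; split
    · exact ap_lt _ _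
    · exact hw
  simp only [Base.eY, QuotientGroup.mk_mul, L.S.ac_mul]
  rw [h _ 0 k hk, h _ 1 _ (hl _ _ _ hk), h _ 2 _ (hl _ _ _ (hl _ _ _ hk)),
    h _ 3 _ (hl _ _ _ (hl _ _ _ (hl _ _ _ hk)))]
  simp [bimg, b0L, List.zipIdx]

theorem Base.eY_xor {a b : Nat} : P.eY (a ^^^ b) = P.eY a * P.eY b := by
  let f : Fin 4 → Bool → Cz z := fun i c => if c then P.e i else 1
  have hf : ∀ i c, f i c ∈ Wof L.U L.B := fun i c => by
    cases c
    · exact one_mem _
    · exact P.mem i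
  have hx : ∀ i c d, f i (xor c d) = f i c * f i d := fun i c d => by
    cases c <;> cases d <;> simp [f, L.data.W_elem _ (P.mem i)]
  have c4 : ∀ p q r s : Cz z, q ∈ Wof L.U L.B → r ∈ Wof L.U L.B → p * q * (r * s) = p * r * (q * s) := by
    intro p q r s hq hr
    calc p * q * (r * s) = p * (q * r) * s := by group
      _ = p * (r * q) * s := by rw [(commW L hq hr).eq]
      _ = _ := by group
  show f 3 _ * f 2 _ * f 1 _ * f 0 _ = f 3 _ * f 2 _ * f 1 _ * f 0 _ * (f 3 _ * f 2 _ * f 1 _ * f 0 _)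
  simp only [Nat.testBit_xor, hx]
  set a3 := f 3 (a.testBit 3)
  set b3 := f 3 (b.testBit 3)
  set a2 := f 2 (a.testBit 2)
  set b2 := f 2 (b.testBit 2)
  set a1 := f 1 (a.testBit 1)
  set b1 := f 1 (b.testBit 1)
  set a0 := f 0 (a.testBit 0)
  set b0 := f 0 (b.testBit 0)
  calc a3 * b3 * (a2 * b2) * (a1 * b1) * (a0 * b0) = a3 * a2 * (b3 * b2) * (a1 * b1) * (a0 * b0) := by
        rw [c4 a3 b3 a2 b2 (hf _ _) (hf _ _)]
    _ = a3 * a2 * a1 * (b3 * b2 * b1) * (a0 * b0) := by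
        rw [c4 (a3 * a2) (b3 * b2) a1 b1 (mul_mem (hf _ _) (hf _ _)) (hf _ _)]
    _ = _ := by
        rw [c4 (a3 * a2 * a1) (b3 * b2 * b1) a0 b0 (mul_mem (mul_mem (hf _ _) (hf _ _)) (hf _ _)) (hf _ _)]

theorem Base.el_mem {m : Nat} : P.el m ∈ Wof L.U L.B :=
  mul_mem (mul_mem (L.data.U_le_W (sU_mem L (lt_of_le_of_lt Nat.and_le_right (by norm_num)))) (P.eY_mem _))
    (L.data.U_le_W (zb_mem L _))

theorem Base.el_xor {a b : Nat} (ha : a < 2048) (hb : b < 2048) : P.el (a ^^^ b) = P.el a * P.el b := by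
  have h6 : ∀ m : Nat, m &&& 63 < 64 := fun m => lt_of_le_of_lt Nat.and_le_right (by norm_num)
  have h10 : ∀ m : Nat, m < 2048 → m >>> 10 < 2 := fun m hm => by
    rw [Nat.shiftRight_eq_div_pow]; omega
  simp only [Base.el, Nat.and_xor_distrib_right, Nat.shiftRight_xor_distrib]
  rw [sU_xor L (h6 _) (h6 _), P.eY_xor, z2_xor _ (h10 a ha) _ (h10 b hb), zb_add L]
  set s1 := sU L (a &&& 63)
  set s2 := sU L (b &&& 63)
  set y1 := P.eY ((a >>> 6) &&& 15)
  set y2 := P.eY ((b >>> 6) &&& 15)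
  set z1 := zb (z := z) ((a >>> 10 : Nat) : ZMod 2)
  set z2 := zb (z := z) ((b >>> 10 : Nat) : ZMod 2)
  have hc : Commute s2 y1 := commW L (L.data.U_le_W (sU_mem L (h6 _))) (P.eY_mem _)
  have hz1 : Commute z1 (s2 * y2) := ((zb_comm _ _).symm)
  calc s1 * s2 * (y1 * y2) * (z1 * z2) = s1 * (s2 * y1) * y2 * z1 * z2 := by group
    _ = s1 * y1 * ((s2 * y2) * z1) * z2 := by rw [hc.eq]; group
    _ = s1 * y1 * (z1 * (s2 * y2)) * z2 := by rw [hz1.eq]
    _ = _ := by group

theorem Base.mk_el (m : Nat) :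
    (QuotientGroup.mk (P.el m) : (Cz z) ⧸ Q) = QuotientGroup.mk (P.eY ((m >>> 6) &&& 15)) := by
  rw [Base.el, QuotientGroup.mk_mul, QuotientGroup.mk_mul,
    (QuotientGroup.eq_one_iff _).2 (L.data.hUQ (sU_mem L (lt_of_le_of_lt Nat.and_le_right (by norm_num)))),
    (QuotientGroup.eq_one_iff _).2 (L.data.hUQ (zb_mem L _)), one_mul, mul_one]

theorem Base.el_eq_one {m : Nat} (hm : m < 2048) (h : P.el m = 1) : m = 0 := by
  have hy : (m >>> 6) &&& 15 = 0 := by
    by_contra hne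
    have hlt : (m >>> 6) &&& 15 < 16 := lt_of_le_of_lt Nat.and_le_right (by norm_num)
    obtain ⟨j, hj, hne'⟩ := List.any_eq_true.1 (List.all_eq_true.1 bimg_ne _
      (List.mem_range'_1.2 ⟨Nat.pos_of_ne_zero hne, by omega⟩))
    have hj' := List.mem_range.1 hj
    have h2 : (2 : Nat) ^ j < 4096 := lt_of_lt_of_le (Nat.pow_lt_pow_right (by norm_num) hj') (by norm_num)
    have e := P.ac_eY ((m >>> 6) &&& 15) h2
    rw [← P.mk_el m, h, QuotientGroup.mk_one, L.S.ac_one h2] at e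
    rw [← e] at hne'
    simp at hne'
  have h0 : P.eY 0 = 1 := by simp [Base.eY]
  rw [Base.el, hy, h0, mul_one] at h
  have hu : m &&& 63 < 64 := lt_of_le_of_lt Nat.and_le_right (by norm_num)
  set b : ZMod 2 := ((m >>> 10 : Nat) : ZMod 2) with hb
  have hsQ := L.data.hUQ (sU_mem L hu)
  have hzQ := L.data.hUQ (zb_mem L b)
  have hπ : L.br.π (⟨_, hsQ⟩ * ⟨_, hzQ⟩) = 0 :=
    (L.br.π_zero _).2 (Or.inl (Subtype.ext h))
  rw [L.br.π_mul, π_zb L b (q := ⟨_, hzQ⟩) rfl, add_zero, π_sU L hu rfl, ← E_zero L] at hπ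
  have hu0 : m &&& 63 = 0 :=
    uvec_inj hu (by norm_num) ((L.S.E_inj (uvec_spec hu).2.1 (by norm_num) hπ).trans (by decide +kernel))
  rw [hu0, sU_zero, one_mul] at h
  have hb0 : b = 0 := zb_inj L (h.trans zb_zero.symm)
  have h10 : m >>> 10 = 0 := by
    have hlt : m >>> 10 < 2 := by rw [Nat.shiftRight_eq_div_pow]; omega
    have key : ∀ a : Nat, a < 2 → (a : ZMod 2) = 0 → a = 0 := by
      intro a ha
      interval_cases a <;> decide
    exact key _ hlt (hb ▸ hb0)
  rw [Nat.shiftRight_eq_div_pow] at h10 hy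
  rw [show (63 : Nat) = 2 ^ 6 - 1 from rfl, Nat.and_two_pow_sub_one_eq_mod] at hu0
  rw [show (15 : Nat) = 2 ^ 4 - 1 from rfl, Nat.and_two_pow_sub_one_eq_mod] at hy
  norm_num at h10 hy hu0
  omega

theorem Base.el_inj {a b : Nat} (ha : a < 2048) (hb : b < 2048) (h : P.el a = P.el b) : a = b := by
  have h1 : P.el (a ^^^ b) = 1 := by rw [P.el_xor ha hb, h]; exact L.data.W_elem _ P.el_mem
  exact Nat.xor_eq_zero_iff.1 (P.el_eq_one (Nat.xor_lt_two_pow (n := 11) ha hb) h1)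

theorem Base.el_surj {a : Cz z} (ha : a ∈ Wof L.U L.B) : ∃ m < 2048, P.el m = a := by
  let f : Fin 2048 → Wof L.U L.B := fun m => ⟨P.el m.1, P.el_mem⟩
  have hf : Function.Bijective f := by
    refine (Nat.bijective_iff_injective_and_card _).2
      ⟨fun m n h => Fin.ext (P.el_inj m.2 n.2 (congrArg Subtype.val h)), ?_⟩
    rw [Nat.card_fin, L.data.card_W]; norm_num
  obtain ⟨m, hm⟩ := hf.2 ⟨a, ha⟩
  exact ⟨m.1, m.2, congrArg Subtype.val hm⟩

theorem Base.el_zero : P.el 0 = 1 := by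
  simp [Base.el, sU_zero, Base.eY, zb_zero]

theorem Base.el_z : P.el 1024 = zc z := by
  simp [Base.el, sU_zero, Base.eY, zb_one]

theorem Base.el_st {y s : Nat} (hy : y < 16) (hs : s < 128) :
    P.el (st y s) = sU L (s &&& 63) * P.eY y * zb ((s >>> 6 : Nat) : ZMod 2) := by
  obtain ⟨h1, h2, h3, -⟩ := st_bits y hy s hs
  rw [Base.el, h1, h2, h3]

theorem mem_AG {a : G} : a ∈ AG L ↔ ∃ m < 2048, ((P.el m : Cz z) : G) = a := by
  constructor
  · rintro ⟨w, hw, rfl⟩
    obtain ⟨m, hm, e⟩ := P.el_surj hw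
    exact ⟨m, hm, congrArg Subtype.val e⟩
  · rintro ⟨m, -, rfl⟩
    exact ⟨_, P.el_mem, rfl⟩

end Cfsg.Agent.Lib.FischerLarge43
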