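import Cfsg.Agent.Lib.FischerLarge43.Data

/-!
# Only one sign pattern gives a vertex transitive graph

For every candidate other than `cb0` two states outside the class of `z` differ in their number of
neighbours, or in the number of neighbours sharing 22 common neighbours with them.
-/

set_option autoImplicit false
set_option maxRecDepth 100000

namespace Cfsg.Agent.Lib.FischerLarge43

/-- the number of members of a list satisfying a test -/
def cnt (l : List Nat) (p : Nat → Bool) : Nat := l.foldl (fun n b => bif p b then n + 1 else n) 0

/-- the degree of `a` -/
def deg (l : List Nat) (m a : Nat) : Nat := cnt l fun b => m.testBit (a ^^^ b)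

/-- the number of neighbours sharing 22 neighbours with `a` -/
def prof (l : List Nat) (m a : Nat) : Nat :=
  cnt l fun b => m.testBit (a ^^^ b) &&
    (cnt l fun c => m.testBit (a ^^^ c) && m.testBit (b ^^^ c)) == 22

/-- the tested states of a candidate -/
def tests (cb : Nat) : List Nat :=
  (uList.take 1) ++ (List.range' 1 15).map (fun y => 64 * y + 1024 * (if sgnOf cb y then 1 else 0)) ++ uList

/-- a witness against the candidate: `w < 64` the tested state differing in degree from the first one,
otherwise `w - 64` the one differing in profile -/
def witOK (cb w : Nat) : Bool :=
  cb == cb0 ||
    let l := ttList cb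
    let m := maskOf l
    let a := (tests cb).getD 0 0
    let b := (tests cb).getD (w % 64) 0
    l.contains a && l.contains b && (bif Nat.blt w 64 then deg l m a != deg l m b else prof l m a != prof l m b)

/-- all witnesses of a block of 32 candidates, a byte for each -/
def blockOK (i W : Nat) : Bool :=
  (List.range 32).all fun j => witOK (32 * i + j) ((W >>> (8 * j)) &&& 255)

end Cfsg.Agent.Lib.FischerLarge43
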