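import Cfsg.Agent.Lib.FischerLarge43.Cand

/-!
# Candidates: part 0
-/

set_option autoImplicit false
set_option maxRecDepth 100000

namespace Cfsg.Agent.Lib.FischerLarge43

theorem block0 : blockOK 0 1358712321627010878227243705050359648584026425377887484490715747533684015361 = true := by decide +kernel

theorem block1 : blockOK 1 457627220335967083242141758389788703297413539996089258150417948937872802049 = true := by decide +kernel

theorem block2 : blockOK 2 456295183291036498154065113660164448360913672169720942384460966748544368897 = true := by decide +kernel

theorem block3 : blockOK 3 1358712321627010878227243705050359648584026425397385040109388429269307293953 = true := by decide +kernel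

theorem block4 : blockOK 4 459394067400745480125928529586941025637022767961950446182361780102111494401 = true := by decide +kernel

theorem block5 : blockOK 5 454086651420010178615624049603046098889505062164322495103749016138165846785 = true := by decide +kernel

theorem block6 : blockOK 6 454086678379956845766263844270061185568853368880528454199393633883717436161 = true := by decide +kernel

theorem block7 : blockOK 7 459394067400745473848826792738736323723802667931673949975999709745382490369 = true := by decide +kernel

theorem part0 : ∀ i, 0 ≤ i → i < 8 → ∃ W, blockOK i W = true := by
  intro i h1 h2
  interval_cases i
  exacts [⟨_, block0⟩, ⟨_, block1⟩, ⟨_, block2⟩, ⟨_, block3⟩, ⟨_, block4⟩, ⟨_, block5⟩, ⟨_, block6⟩, ⟨_, block7⟩]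

end Cfsg.Agent.Lib.FischerLarge43
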