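import Cfsg.Agent.Lib.FischerLarge43.Conj
import Cfsg.Agent.Lib.FischerLarge43.Generic
import Cfsg.Agent.Lib.FischerLarge99.Conj

/-!
# The classes in the plane, the stabiliser of the plane, the centraliser of `A`

A conjugate of `z` in `Q` other than `z` lies over the class of 1701 vectors; the elements of the
stabiliser of the plane normalise `A`; and `A` is self-centralising, being the only largest pair.

Owner: helper43.
-/

set_option autoImplicit false
set_option linter.style.haveILetI false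
set_option linter.unusedSectionVars false
set_option maxRecDepth 100000

namespace Cfsg.Agent.Lib.FischerLarge43

open Cfsg.Agent.Lib.LargeFischer13
open Cfsg.Agent.Lib.LargeFischer13.Model (shift IsR IsU wt phase wt_shift move_one phase_move Ph)
open Cfsg.Agent.Lib.FischerLarge45 (Local Wof zc zc_comm zc_cases π_conj' IsOnlyMax)
open Cfsg.Agent.Lib.FischerLarge45.Model (ap gens omega b0L uSet uBasis ap_xor ap_lt eq_of_basis)
open Cfsg.Agent.Lib.FischerLarge45.Codes (inU qn wtN phN dec enc mv omega_xor omega_lt wt_dec code_facts enc_lt dec_enc mv_xor)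
open Cfsg.Agent.Lib.LargeExtraspecial.Basic (commute_of_sq)

attribute [local instance] Bridge.acg Bridge.fin Bridge.act

theorem isR_spec : (List.range 4096).all (fun k =>
    isR k == (wtN k == 4 || (wtN k == 6 && phN k != 0))) = true := by decide +kernel

theorem stab_uSet : (List.range 11).all (fun g => uSet.all fun a =>
    decide (ap (stabKeys.getD g 0) a ∈ uSet)) = true := by decide +kernel

theorem stab_gens : ∀ g < 8, stabKeys.getD g 0 = gens.getD g 0 := by decide +kernel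

theorem isR_or : (List.range 4096).all (fun k => !(isR k && isU k)) = true := by decide +kernel

theorem isR_coord {k : Nat} (hk : k < 4096) (h : isR k = true) :
    IsR (shift (Pi.single 0 1 : Ph) (dec k)) := by
  have e := List.all_eq_true.1 isR_spec k (List.mem_range.2 hk)
  rw [beq_iff_eq] at e
  rw [h] at e
  have e' : wtN k = 4 ∨ (wtN k = 6 ∧ phN k ≠ 0) := by simpa using e.symm
  obtain ⟨h1, h2, -⟩ := code_facts k hk
  rcases e' with h4 | ⟨h6, hp⟩
  · exact Or.inl (by rw [wt_shift, h1, h4])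
  · refine Or.inr ⟨by rw [wt_shift, h1, h6], fun hh => ?_⟩
    rw [← move_one, phase_move _ _ (h1.trans h6), show ∑ i, (Pi.single 0 1 : Ph) i = 1 by decide] at hh
    refine hp ?_
    rw [← h2 h6, add_eq_right.1 hh]
    rfl

universe u

variable {G : Type u} [Group G] [Finite G] {z : G} {Q : Subgroup (Cz z)} [Q.Normal]
variable (L : Local z Q)

/-- The vectors over the conjugates of `z`. -/
theorem class_iff (hF : Cfsg.IsOfLargeFischerTypeAt z Q) (q : Q) {k : Nat} (hk : k < 4096) (hk0 : k ≠ 0)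
    (hq : L.br.π q = L.S.E k) :
    Zc z (q : Cz z) ↔ (isR k = true ∧ (q : Cz z) * (q : Cz z) = 1) := by
  classical
  obtain ⟨F⟩ := L.br.D.exists_nframe
  have hz2 : orderOf z = 2 := hF.1.1
  have hzQ : z ∈ Q.map (Cz z).subtype := ⟨zc z, L.data.es.mem, rfl⟩
  have hQ13 : Nat.card Q = 2 ^ 13 := L.data.cardQ
  obtain ⟨g, ⟨hgC, hgQ⟩, hgne⟩ := hF.1.2.2.2.2
  obtain ⟨c0, hc0, hR0, -⟩ := FischerLarge99.conj_isR L.br hz2 hzQ hQ13 F ⟨⟨_, hgC⟩, hgQ⟩ g rfl hgne
  -- the class of 378 of the table is the small class of the frame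
  have hU : ∀ k < 4096, inU k = true → ∀ c, F.vec c = L.S.E k → ¬ IsR c := by
    intro k hk hin c hc hR
    have hall : ∀ l < 4096, isR l = true →
        ∃ j < 4096, inU j = true ∧ L.S.E j = F.vec (shift (Pi.single 0 1 : Ph) (dec l)) := by
      intro l hl hlR
      obtain ⟨w, hw⟩ := F.transR c _ hR (isR_coord hl hlR)
      exact ⟨L.S.ac w k, L.S.ac_lt _ _, L.S.ac_inU w hk hin, by rw [L.S.E_ac, ← hc]; exact hw⟩
    choose f hf1 hf2 hf3 using hall
    let A1 := ((List.range 4096).filter isR).toFinset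
    let A2 := ((List.range 4096).filter isU).toFinset
    have hA1 : ∀ l ∈ A1, l < 4096 ∧ isR l = true := fun l hl => by simpa [A1] using hl
    have h1 : A1.card ≤ A2.card := by
      refine Finset.card_le_card_of_injOn (fun l => if h : l < 4096 ∧ isR l = true then f l h.1 h.2 else 0) ?_ ?_
      · intro l hl
        obtain ⟨h1, h2⟩ := hA1 l hl
        have e := List.all_eq_true.1 forms_ok _ (List.mem_range.2 (hf1 l h1 h2))
        simp only [Bool.and_eq_true, beq_iff_eq] at e
        simp [A2, h1, h2, hf1 l h1 h2, e.1.1, hf2 l h1 h2]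
      · intro l hl l' hl' h
        obtain ⟨h1, h2⟩ := hA1 l hl
        obtain ⟨h1', h2'⟩ := hA1 l' hl'
        simp only [h1, h2, h1', h2', and_self, ↓reduceDIte] at h
        have e := congrArg L.S.E h
        rw [hf3, hf3] at e
        have e' := congrArg (shift (fun i => -(Pi.single 0 1 : Ph) i)) (F.vec_inj e)
        have hs : ∀ c : Fin 6 → Option (ZMod 3),
            shift (fun i => -(Pi.single 0 1 : Ph) i) (shift (Pi.single 0 1 : Ph) c) = c := fun c => by
          funext i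
          simp only [shift, Option.map_map]
          cases c i <;> simp
        rw [hs, hs] at e'
        exact FischerLarge45.Codes.dec_inj h1 h1' e'
    rw [List.toFinset_card_of_nodup (List.nodup_range.filter _),
      List.toFinset_card_of_nodup (List.nodup_range.filter _), class_count.1, class_count.2] at h1
    omega
  have hsing : ∀ k < 4096, k ≠ 0 → qn k = false → ∀ c, F.vec c = L.S.E k →
      inU k = false → IsR c := by
    intro k hk hk0 hqn c hc hnin
    have hx : L.S.E k ≠ 0 := fun e => hk0 (L.S.E_inj hk (by norm_num) (e.trans (E_zero L).symm))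
    have hq0 : L.br.D.q (L.S.E k) = 0 := by
      rw [L.S.q_E hk, ZMod.natCast_eq_zero_iff_even, Nat.even_iff]
      simpa [qn] using hqn
    obtain ⟨c', hc', hU' | hR'⟩ := F.exists_class hx hq0
    · exfalso
      have h5 : inU 5 = true ∧ qn 5 = false := by decide +kernel
      have hx5 : L.S.E 5 ≠ 0 := fun e => absurd (L.S.E_inj (by norm_num) (by norm_num) (e.trans (E_zero L).symm))
        (by norm_num)
      obtain ⟨c5, hc5, h5U | h5R⟩ := F.exists_class hx5 (by
        rw [L.S.q_E (by norm_num : 5 < 4096), ZMod.natCast_eq_zero_iff_even, Nat.even_iff]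
        simpa [qn] using h5.2)
      · obtain ⟨w, hw⟩ := F.transU c5 c' h5U hU'
        have hac : L.S.ac w 5 = k := L.S.E_inj (L.S.ac_lt _ _) hk (by rw [L.S.E_ac, ← hc5, ← hc']; exact hw)
        have := L.S.ac_inU w (by norm_num : 5 < 4096) h5.1
        rw [hac, hnin] at this
        exact absurd this (by simp)
      · exact hU 5 (by norm_num) h5.1 c5 hc5 h5R
    · rwa [F.vec_inj (hc.trans hc'.symm)]
  have hk1 : k ∈ List.range' 1 4095 := List.mem_range'_1.2 ⟨Nat.pos_of_ne_zero hk0, by omega⟩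
  have hcls := List.all_eq_true.1 sing_class k hk1
  have hiu : isU k = inU k := by
    have e := List.all_eq_true.1 forms_ok k (List.mem_range.2 hk)
    simp only [Bool.and_eq_true, beq_iff_eq] at e
    exact e.1.1
  have hsq := sq_code L q hk hq
  constructor
  · intro h
    obtain ⟨g', hg'⟩ := isConj_iff.1 h
    have hne : ((q : Cz z) : G) ≠ z := fun e => by
      have h0 : L.br.π q = 0 := (L.br.π_zero q).2 (Or.inr e)
      exact hk0 (L.S.E_inj hk (by norm_num) ((hq.symm.trans h0).trans (E_zero L).symm))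
    obtain ⟨c, hc, hR, -⟩ := FischerLarge99.conj_isR L.br hz2 hzQ hQ13 F q g' hg' hne
    have hqq : (q : Cz z) * (q : Cz z) = 1 := Subtype.ext (by
      show ((q : Cz z) : G) * ((q : Cz z) : G) = 1
      rw [← hg']
      calc g' * z * g'⁻¹ * (g' * z * g'⁻¹) = g' * (z * z) * g'⁻¹ := by group
        _ = 1 := by rw [FischerLarge99.sq_z hz2]; group)
    refine ⟨?_, hqq⟩
    rw [hqq, qq_eq hk] at hsq
    have hqn : qn k = false := by
      by_contra hh
      rw [Bool.not_eq_false] at hh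
      rw [if_pos hh, Nat.cast_one, zb_one] at hsq
      exact L.data.es.ne hsq.symm
    have hnin : inU k = false := by
      by_contra hh
      exact hU k hk (by simpa using hh) c (hc.trans hq) hR
    rw [hqn, hiu, hnin] at hcls
    simpa using hcls
  · rintro ⟨hR, hqq⟩
    obtain ⟨c, hc⟩ := F.exists_coord (L.br.π q)
    have hq2 : q * q = 1 := Subtype.ext hqq
    have hπ0 : L.br.π q ≠ 0 := fun e => hk0 (L.S.E_inj hk (by norm_num) ((hq.symm.trans e).trans (E_zero L).symm))
    have hqn : qn k = false := by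
      have h := (L.br.π_q q).2 hq2
      rw [hq, L.S.q_E hk, ZMod.natCast_eq_zero_iff_even, Nat.even_iff] at h
      simp [qn, h]
    have hnin : inU k = false := by
      have e := List.all_eq_true.1 isR_or k (List.mem_range.2 hk)
      rw [hR, hiu] at e
      simpa using e
    have hRc := hsing k hk hk0 hqn c (hc.trans hq) hnin
    obtain ⟨w, hw⟩ := F.transR c0 c hR0 hRc
    obtain ⟨h, hh⟩ := L.br.conj_of_smul (s := ⟨⟨_, hgC⟩, hgQ⟩) hq2 hπ0 (w := w) (by rw [← hc, ← hc0]; exact hw)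
    refine isConj_iff.2 ⟨(h : G) * g, ?_⟩
    rw [← congrArg Subtype.val hh]
    simp [mul_assoc]

/-- the classes in the plane -/
theorem plane_class (hF : Cfsg.IsOfLargeFischerTypeAt z Q) {u : Nat} (hu : u < 64) (hu0 : u ≠ 0) (b : ZMod 2) :
    Zc z (sU L u * zb b) ↔ isR (uvec u) = true := by
  have hm : sU L u * zb b ∈ L.U := L.U.mul_mem (sU_mem L hu) (zb_mem L b)
  let q : Q := ⟨sU L u * zb b, L.data.hUQ hm⟩
  have hq : L.br.π q = L.S.E (uvec u) := by
    rw [show q = ⟨_, L.data.hUQ (sU_mem L hu)⟩ * ⟨_, L.data.hUQ (zb_mem L b)⟩ from rfl, L.br.π_mul,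
      π_sU L (q := ⟨_, L.data.hUQ (sU_mem L hu)⟩) hu rfl, π_zb L b (q := ⟨_, L.data.hUQ (zb_mem L b)⟩) rfl,
      add_zero]
  rw [class_iff L hF q (uvec_spec hu).2.1 (fun e => hu0 (uvec_inj hu (by norm_num) (e.trans (by decide +kernel)))) hq]
  exact ⟨fun h => h.1, fun h => ⟨h, L.data.sqU _ hm⟩⟩

/-- the generators of the stabiliser of the plane are induced -/
theorem exists_stab {g : Nat} (hg : g < 11) :
    ∃ c : Cz z, ∀ k < 4096, L.S.ac (QuotientGroup.mk c) k = ap (stabKeys.getD g 0) k := by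
  by_cases h8 : g < 8
  · obtain ⟨w, hw⟩ := FischerLarge45.Lifts.gen_img L.S g h8
    obtain ⟨c, rfl⟩ := QuotientGroup.mk_surjective w
    exact ⟨c, fun k hk => by rw [stab_gens g h8]; exact hw k hk⟩
  · have hm := List.all_eq_true.1 mono_ok
    simp only [Bool.and_eq_true, beq_iff_eq, List.mem_range] at hm
    have mk : ∀ (π : Equiv.Perm (Fin 6)) (σ : Ph), Equiv.Perm.sign π = 1 → ∑ i, σ i = 0 →
        (∀ j < 12, ap (stabKeys.getD g 0) (2 ^ j) = mv π σ (2 ^ j)) →
        ∃ c : Cz z, ∀ k < 4096, L.S.ac (QuotientGroup.mk c) k = ap (stabKeys.getD g 0) k := by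
      intro π σ hπ hσ he
      obtain ⟨w, -, hw⟩ := L.S.exists_mv π hπ σ hσ
      obtain ⟨c, rfl⟩ := QuotientGroup.mk_surjective w
      exact ⟨c, fun k hk => by
        rw [hw]
        exact eq_of_basis _ _ (fun a _ b _ => mv_xor π σ a b) (fun a _ b _ => ap_xor _ a b)
          (fun j hj => (he j hj).symm) hk⟩
    rcases (by omega : g = 8 ∨ g = 9 ∨ g = 10) with rfl | rfl | rfl
    · refine ⟨L.x, fun k hk => ?_⟩
      refine L.S.E_inj (L.S.ac_lt _ _) (ap_lt _ _) ?_
      rw [L.S.E_ac, x_smul L hk]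
      congr 1
      exact eq_of_basis _ _ (fun a _ b _ => omega_xor a b) (fun a _ b _ => ap_xor _ a b)
        (fun j hj => ((hm j hj).1.1).symm) hk
    · exact mk _ _ (map_one _) (by decide) fun j hj => (hm j hj).1.2
    · exact mk _ _ (by decide) (by simp) fun j hj => (hm j hj).2

variable {L} (P : Base L)

theorem Base.eY_mk_inj {a b : Nat} (ha : a < 16) (hb : b < 16)
    (h : (QuotientGroup.mk (P.eY a) : (Cz z) ⧸ Q) = QuotientGroup.mk (P.eY b)) : a = b := by
  by_contra hne
  have hx : a ^^^ b < 16 := Nat.xor_lt_two_pow (n := 4) ha hb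
  have hpos : a ^^^ b ≠ 0 := fun e => hne (Nat.xor_eq_zero_iff.1 e)
  have h1 : (QuotientGroup.mk (P.eY (a ^^^ b)) : (Cz z) ⧸ Q) = 1 := by
    rw [P.eY_xor, QuotientGroup.mk_mul, h, ← QuotientGroup.mk_mul, L.data.W_elem _ (P.eY_mem b),
      QuotientGroup.mk_one]
  obtain ⟨j, hj, hne'⟩ := List.any_eq_true.1 (List.all_eq_true.1 bimg_ne _
    (List.mem_range'_1.2 ⟨Nat.pos_of_ne_zero hpos, by omega⟩))
  have h2 : (2 : Nat) ^ j < 4096 :=
    lt_of_lt_of_le (Nat.pow_lt_pow_right (by norm_num) (List.mem_range.1 hj)) (by norm_num)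
  have e := P.ac_eY (a ^^^ b) h2
  rw [h1, L.S.ac_one h2] at e
  rw [← e] at hne'
  simp at hne'

/-- the elements over the generators of the stabiliser normalise `C_B(U)` and permute the cosets -/
theorem Base.stab_el {g : Nat} (hg : g < 11) {c : Cz z}
    (hc : ∀ k < 4096, L.S.ac (QuotientGroup.mk c) k = ap (stabKeys.getD g 0) k) :
    (∀ a ∈ Wof L.U L.B, c * a * c⁻¹ ∈ Wof L.U L.B) ∧
      ∀ m < 2048, ∀ m' < 2048, P.el m' = c * P.el m * c⁻¹ → (m >>> 6) &&& 15 ≠ 0 →
        (m' >>> 6) &&& 15 = permY g ((m >>> 6) &&& 15) := by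
  have hU : ∀ u ∈ L.U, c * u * c⁻¹ ∈ L.U := by
    intro u hu
    obtain ⟨huQ, a, ha, ea⟩ := (L.mem_U u).1 hu
    have hca : ap (stabKeys.getD g 0) a ∈ uSet := by
      simpa using List.all_eq_true.1 (List.all_eq_true.1 stab_uSet g (List.mem_range.2 hg)) a ha
    exact mem_U_of_code L (q := ⟨c * u * c⁻¹, Subgroup.Normal.conj_mem inferInstance _ huQ c⟩) hca
      (π_conj_code L c ⟨u, huQ⟩ (FischerLarge45.uSet_facts a ha).1 ea.symm
        (hc a (FischerLarge45.uSet_facts a ha).1) rfl)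
  have hU' : ∀ u ∈ L.U, c⁻¹ * u * c ∈ L.U := fun u hu => by
    let f : L.U → L.U := fun v => ⟨c * v.1 * c⁻¹, hU v.1 v.2⟩
    have hf : Function.Injective f := fun v w e => Subtype.ext (by simpa [f] using congrArg Subtype.val e)
    obtain ⟨v, hv⟩ := Finite.injective_iff_surjective.1 hf ⟨u, hu⟩
    have hv' : c * v.1 * c⁻¹ = u := congrArg Subtype.val hv
    rw [← hv', show c⁻¹ * (c * v.1 * c⁻¹) * c = v.1 by group]
    exact v.2
  have hperm : ∀ y, 1 ≤ y → y < 16 → permY g y < 16 ∧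
      (QuotientGroup.mk (c * P.eY y * c⁻¹) : (Cz z) ⧸ Q) = QuotientGroup.mk (P.eY (permY g y)) := by
    intro y h1 h16
    refine ⟨lt_of_le_of_lt Nat.and_le_right (by norm_num), ?_⟩
    have h := List.all_eq_true.1 perm_ok g (List.mem_range.2 hg)
    simp only [Bool.and_eq_true, List.all_eq_true, List.mem_range, beq_iff_eq] at h
    have hb := (h.1 y (List.mem_range'_1.2 ⟨h1, by omega⟩)).2
    rw [QuotientGroup.mk_mul, QuotientGroup.mk_mul, QuotientGroup.mk_inv, mul_inv_eq_iff_eq_mul]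
    refine L.S.eq_of_ac fun k hk => ?_
    rw [L.S.ac_mul, L.S.ac_mul, P.ac_eY y hk, hc k hk, hc _ (bimg_lt hk), P.ac_eY _ (ap_lt _ _)]
    exact eq_of_basis (fun v => ap (stabKeys.getD g 0) (bimg y v)) (fun v => bimg (permY g y) (ap (stabKeys.getD g 0) v))
      (fun a _ b _ => by simp only [bimg_xor, ap_xor]) (fun a _ b _ => by simp only [bimg_xor, ap_xor])
      (fun j hj => (hb j hj).symm) hk
  have hmk : ∀ m, (QuotientGroup.mk (c * P.el m * c⁻¹) : (Cz z) ⧸ Q) =
      QuotientGroup.mk (c * P.eY ((m >>> 6) &&& 15) * c⁻¹) := fun m => by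
    simp only [QuotientGroup.mk_mul, P.mk_el]
  refine ⟨fun a ha => ?_, fun m _ m' _ he hy => ?_⟩
  · obtain ⟨m, -, rfl⟩ := P.el_surj ha
    refine L.data.mem_W.2 ⟨?_, fun u hu => ?_⟩
    · rw [L.mem_B, hmk]
      by_cases h0 : (m >>> 6) &&& 15 = 0
      · rw [h0, show P.eY 0 = 1 by simp [Base.eY], mul_one, mul_inv_cancel, QuotientGroup.mk_one]
        exact one_mem _
      · rw [(hperm _ (Nat.pos_of_ne_zero h0) (lt_of_le_of_lt Nat.and_le_right (by norm_num))).2,
          ← L.mem_B]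
        exact (L.data.mem_W.1 (P.eY_mem _)).1
    · have := ((L.data.mem_W.1 P.el_mem).2 _ (hU' u hu) : Commute (c⁻¹ * u * c) (P.el m)).map (MulAut.conj c)
      simpa [mul_assoc] using this
  · obtain ⟨hlt, hp⟩ := hperm _ (Nat.pos_of_ne_zero hy) (lt_of_le_of_lt Nat.and_le_right (by norm_num))
    refine P.eY_mk_inj (lt_of_le_of_lt Nat.and_le_right (by norm_num)) hlt ?_
    rw [← P.mk_el, he, hmk, hp]

variable (L) in
include L in
/-- the bilinear form is additive -/
theorem bb_add {a b u : Nat} (ha : a < 4096) (hb : b < 4096) (hu : u < 4096) :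
    ((bb (a ^^^ b) u : Nat) : ZMod 2) = ((bb a u : Nat) : ZMod 2) + ((bb b u : Nat) : ZMod 2) := by
  have hl : L.br.π (pre L a * pre L b) = L.S.E (a ^^^ b) := by rw [L.br.π_mul, π_pre, π_pre, L.S.E_xor]
  have h := conj_code L (pre L a * pre L b) (pre L u) (Nat.xor_lt_two_pow (n := 12) ha hb) hu hl (π_pre L u)
  have h1 := conj_code L (pre L a) (pre L u) ha hu (π_pre L a) (π_pre L u)
  have h2 := conj_code L (pre L b) (pre L u) hb hu (π_pre L b) (π_pre L u)
  rw [show ((pre L a * pre L b : Q) : Cz z) = (pre L a : Cz z) * (pre L b : Cz z) from rfl,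
    show (pre L a : Cz z) * (pre L b : Cz z) * (pre L u : Cz z) * ((pre L a : Cz z) * (pre L b : Cz z))⁻¹ =
      (pre L a : Cz z) * ((pre L b : Cz z) * (pre L u : Cz z) * (pre L b : Cz z)⁻¹) * (pre L a : Cz z)⁻¹ by group,
    h2, ← conj_mul, h1, (zb_comm (pre L a : Cz z) ((bb b u : Nat) : ZMod 2)).eq, mul_inv_cancel_right, mul_assoc, ← zb_add L] at h
  exact (zb_inj L (mul_left_cancel h)).symm

variable (L) in
/-- the centraliser of the plane is `A` -/
theorem centralizer_U {c : Cz z} (hc : ∀ a ∈ L.U, Commute c a) : c ∈ Wof L.U L.B := by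
  classical
  set w : (Cz z) ⧸ Q := QuotientGroup.mk c
  have hfixU : ∀ a ∈ uSet, L.S.ac w a = a := by
    intro a ha
    have ha4 := (FischerLarge45.uSet_facts a ha).1
    have hp := mem_U_of_code L ha (π_pre L a)
    refine L.S.E_inj (L.S.ac_lt _ _) ha4 ?_
    rw [L.S.E_ac, ← π_pre L a]
    refine L.br.π_conj c _ _ ?_
    rw [(hc _ hp).eq, mul_inv_cancel_right]
  have hperp : ∀ w : (Cz z) ⧸ Q, (∀ a ∈ uSet, L.S.ac w a = a) → ∀ k < 4096, L.S.ac w k ^^^ k ∈ uSet := by
    intro w hfixU k hk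
    have hk' := L.S.ac_lt w k
    have h := List.all_eq_true.1 plane_perp _ (List.mem_range.2 (Nat.xor_lt_two_pow (n := 12) hk' hk))
    rw [Bool.or_eq_true] at h
    refine h.elim (fun h => ?_) (fun h => of_decide_eq_true h)
    exfalso
    have hp' : uBasis.all (fun u => bb (L.S.ac w k ^^^ k) u == 0) = true := by
      refine List.all_eq_true.2 fun u hu => beq_iff_eq.2 ?_
      have huS : ∀ u ∈ uBasis, u ∈ uSet := by decide +kernel
      have hu4 := (FischerLarge45.uSet_facts u (huS u hu)).1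
      have e : ((bb (L.S.ac w k) u : Nat) : ZMod 2) = ((bb k u : Nat) : ZMod 2) := by
        have hqq : ∀ l < 4096, ((qq (L.S.ac w l) : Nat) : ZMod 2) = ((qq l : Nat) : ZMod 2) := fun l hl => by
          have hh : qn (L.S.ac w l) = qn l :=
            (L.S.qn_eq (L.S.ac_lt _ _) hl).2 (by rw [L.S.E_ac, L.br.D.q_smul])
          rw [qq_eq (L.S.ac_lt _ _), qq_eq hl, hh]
        have hku : L.S.ac w (k ^^^ u) = L.S.ac w k ^^^ u := by rw [L.S.ac_xor, hfixU u (huS u hu)]
        rw [bb_cast, bb_cast, ← hku, hqq _ (Nat.xor_lt_two_pow (n := 12) hk hu4), hqq _ hk]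
      have e2 := bb_add L hk' hk hu4
      rw [e, CharTwo.add_self_eq_zero] at e2
      have key : ∀ n < 2, ((n : Nat) : ZMod 2) = 0 → n = 0 := by
        intro n hn; interval_cases n <;> decide
      exact key _ (Nat.mod_lt _ (by norm_num)) e2
    rw [hp'] at h
    exact absurd h (by simp)
  have hd := hperp w hfixU
  have hww : w * w = 1 := L.S.eq_of_ac fun k hk => by
    rw [L.S.ac_mul, L.S.ac_one hk]
    have e : L.S.ac w k = k ^^^ (L.S.ac w k ^^^ k) := by
      rw [Nat.xor_comm (L.S.ac w k), ← Nat.xor_assoc, Nat.xor_self, Nat.zero_xor]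
    conv_lhs => rw [e, L.S.ac_xor, hfixU _ (hd k hk)]
    rw [← Nat.xor_assoc, Nat.xor_self, Nat.zero_xor]
  have hcomm : ∀ b ∈ FischerLarge45.Lifts.B16 L.S, w * b = b * w := by
    intro b hb
    refine L.S.eq_of_ac fun k hk => ?_
    have hb1 : ∀ a ∈ uSet, L.S.ac b a = a := fun a ha => L.S.E_inj (L.S.ac_lt _ _)
      (FischerLarge45.uSet_facts a ha).1 (by rw [L.S.E_ac]; exact FischerLarge45.Lifts.uSet_fixed L.S hb ⟨a, ha, rfl⟩)
    have hb2 : ∀ l < 4096, L.S.ac b l ^^^ l ∈ uSet := by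
      obtain ⟨b', rfl⟩ := QuotientGroup.mk_surjective b
      exact hperp _ hb1
    have hdec : ∀ x l : Nat, l = x ^^^ (l ^^^ x) := fun x l => by
      rw [Nat.xor_comm l, ← Nat.xor_assoc, Nat.xor_self, Nat.zero_xor]
    rw [L.S.ac_mul, L.S.ac_mul]
    have h1 : L.S.ac w (L.S.ac b k) = L.S.ac w k ^^^ (L.S.ac b k ^^^ k) := by
      conv_lhs => rw [hdec k (L.S.ac b k), L.S.ac_xor, hfixU _ (hb2 k hk)]
    have h2 : L.S.ac b (L.S.ac w k) = L.S.ac b k ^^^ (L.S.ac w k ^^^ k) := by
      conv_lhs => rw [hdec k (L.S.ac w k), L.S.ac_xor, hb1 _ (hd k hk)]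
    rw [h1, h2]
    apply Nat.eq_of_testBit_eq
    intro i
    simp only [Nat.testBit_xor]
    cases (L.S.ac w k).testBit i <;> cases (L.S.ac b k).testBit i <;> cases k.testBit i <;> rfl
  set B2 := Subgroup.closure ((FischerLarge45.Lifts.B16 L.S : Set ((Cz z) ⧸ Q)) ∪ {w})
  have hBsq : ∀ b ∈ FischerLarge45.Lifts.B16 L.S, b * b = 1 := fun b hb =>
    (FischerLarge45.B16_props L.br L.S hb).1
  have hgen : ∀ a ∈ (FischerLarge45.Lifts.B16 L.S : Set ((Cz z) ⧸ Q)) ∪ {w},
      ∀ b ∈ (FischerLarge45.Lifts.B16 L.S : Set ((Cz z) ⧸ Q)) ∪ {w}, a * b = b * a := by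
    rintro a (ha | rfl) b (hb | rfl)
    · exact (commute_of_sq hBsq ha hb).eq
    · exact (hcomm a ha).symm
    · exact hcomm b hb
    · rfl
  have hB2 : ∀ b ∈ B2, b * b = 1 := by
    letI := Subgroup.isMulCommutative_closure hgen
    intro b hb
    refine Subgroup.closure_induction (p := fun t _ => t * t = 1) ?_ (one_mul 1) ?_ ?_ hb
    · rintro t (ht | rfl)
      · exact hBsq t ht
      · exact hww
    · intro a b ha hb e1 e2
      have hab : a * b = b * a := setLike_mul_comm ha hb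
      rw [mul_assoc, ← mul_assoc b a b, ← hab, mul_assoc, e2, mul_one, e1]
    · intro a _ e1
      rw [← mul_inv_rev, e1, inv_one]
  have hfix2 : ∀ b ∈ B2, ∀ a ∈ uSet, b • L.S.E a = L.S.E a := by
    intro b hb a ha
    have hle : B2 ≤ MulAction.stabilizer ((Cz z) ⧸ Q) (L.S.E a) := by
      rw [Subgroup.closure_le]
      rintro t (ht | rfl)
      · exact FischerLarge45.Lifts.uSet_fixed L.S ht ⟨a, ha, rfl⟩
      · show w • L.S.E a = L.S.E a
        rw [← L.S.E_ac, hfixU a ha]
    exact hle hb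
  set B' := B2.comap (QuotientGroup.mk' Q)
  have hQB' : Q ≤ B' := fun q hq => by
    show (QuotientGroup.mk q : (Cz z) ⧸ Q) ∈ B2
    rw [(QuotientGroup.eq_one_iff q).2 hq]; exact one_mem _
  have hBB' : L.B ≤ B' := fun b hb => Subgroup.subset_closure (Or.inl ((L.mem_B b).1 hb))
  have hcB' : c ∈ B' := Subgroup.subset_closure (Or.inr rfl)
  have hp : IsPGroup 2 B' := by
    have hp2 : IsPGroup 2 B2 := fun b => ⟨1, Subtype.ext (by rw [pow_one, pow_two]; exact hB2 _ b.2)⟩
    obtain ⟨n, hn⟩ := IsPGroup.iff_card.1 hp2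
    exact IsPGroup.of_card (n := n + 13) (by
      rw [FischerLarge45.card_comap_mk, hn, L.data.cardQ, pow_add])
  obtain ⟨S, hS⟩ := hp.exists_le_sylow
  obtain ⟨g, hg⟩ := MulAction.exists_smul_eq (Cz z) L.T S
  let f := (MulAut.conj g⁻¹).toMonoidHom
  have hf : Function.Injective f := (MulAut.conj g⁻¹).injective
  have hzf : f (zc z) = zc z := by
    show g⁻¹ * zc z * g⁻¹⁻¹ = zc z
    rw [(zc_comm g⁻¹).eq, mul_assoc, inv_inv, inv_mul_cancel, mul_one]
  have hU1 : L.U.map f ≤ Q := by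
    rintro _ ⟨u, hu, rfl⟩
    exact Subgroup.Normal.conj_mem inferInstance _ (L.data.hUQ hu) g⁻¹
  have hcB : Nat.card B' ≤ Nat.card L.B := by
    have hle : L.B ≤ B' := hBB'
    suffices h : B'.map f = L.B ∧ L.U.map f = L.U by
      rw [← h.1, Subgroup.card_map_of_injective hf]
    refine L.small (B'.map f) (L.U.map f) ?_ ?_ ?_ hU1 ?_ ?_ ?_ ?_ ?_
    · intro q hq
      exact ⟨g * q * g⁻¹, hQB' (Subgroup.Normal.conj_mem inferInstance _ hq g), by simp [f, mul_assoc]⟩
    · rintro _ ⟨b, hb, rfl⟩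
      have := hS hb
      rw [← hg] at this
      obtain ⟨t, ht, rfl⟩ := this
      show g⁻¹ * (g * t * g⁻¹) * g⁻¹⁻¹ ∈ (L.T : Subgroup (Cz z))
      rw [show g⁻¹ * (g * t * g⁻¹) * g⁻¹⁻¹ = t by group]
      exact ht
    · rintro _ ⟨b, hb, rfl⟩
      rw [← map_mul]
      refine Subgroup.Normal.conj_mem inferInstance _ ?_ g⁻¹
      exact (QuotientGroup.eq_one_iff _).1 (hB2 _ hb)
    · exact ⟨zc z, L.data.hzU, hzf⟩
    · rintro _ ⟨u, hu, rfl⟩
      rw [← map_mul, L.data.sqU u hu, map_one]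
    · rintro _ ⟨b, hb, rfl⟩ _ ⟨u, hu, rfl⟩
      obtain ⟨huQ, a, ha, ea⟩ := (L.mem_U u).1 hu
      have e : L.br.π ⟨b * u * b⁻¹, Subgroup.Normal.conj_mem inferInstance _ huQ b⟩ = L.br.π ⟨u, huQ⟩ := by
        rw [← L.br.π_conj b ⟨u, huQ⟩ _ rfl, ← ea]
        exact hfix2 _ hb a ha
      rcases zc_cases L.br e.symm with h | h
      · exact Or.inl (by rw [← map_inv, ← map_mul, ← map_mul]; exact congrArg f h)
      · exact Or.inr (by rw [← map_inv, ← map_mul, ← map_mul, ← hzf, ← map_mul]; exact congrArg f h)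
    · rw [Subgroup.card_map_of_injective hf, L.data.cardU]
    · rw [Subgroup.card_map_of_injective hf, Subgroup.card_map_of_injective hf, L.data.cardU]
      calc (2 : ℕ) ^ 24 = 2 ^ 17 * 2 ^ 7 := by norm_num
        _ ≤ _ := Nat.mul_le_mul_right _ (L.data.cardB ▸ Subgroup.card_le_of_le hle)
  have hBeq : L.B = B' := Subgroup.eq_of_le_of_card_ge hBB' hcB
  exact L.data.mem_W.2 ⟨hBeq ▸ hcB', fun u hu => (hc u hu).symm⟩

variable (L) in
/-- `A` is self-centralising -/
theorem centralizer_W {c : Cz z} (hc : ∀ a ∈ Wof L.U L.B, Commute c a) : c ∈ Wof L.U L.B :=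
  centralizer_U L fun a ha => hc a (L.data.U_le_W ha)

variable (L) in
/-- the Sylow subgroup of `C(z)` is one of the group, and `A` is its only largest elementary abelian
subgroup -/
theorem exists_sylow : ∃ S : Sylow 2 G, (S : Subgroup G) = (L.T : Subgroup (Cz z)).map (Cz z).subtype ∧
    IsOnlyMax (AG L) (S : Subgroup G) := by
  classical
  haveI : Fact (Nat.Prime 2) := ⟨Nat.prime_two⟩
  set TG := (L.T : Subgroup (Cz z)).map (Cz z).subtype
  obtain ⟨S, hS⟩ := (L.T.isPGroup'.map (Cz z).subtype : IsPGroup 2 TG).exists_le_sylow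
  have hzS : z ∈ (S : Subgroup G) := hS ⟨zc z, L.hBT (L.data.hQB L.data.es.mem), rfl⟩
  haveI : Nontrivial (S : Subgroup G) :=
    ⟨⟨⟨z, hzS⟩, 1, fun h => L.data.es.ne (Subtype.ext (congrArg (fun t : (S : Subgroup G) => (t : G)) h))⟩⟩
  haveI := S.isPGroup'.center_nontrivial
  obtain ⟨⟨w, hwc⟩, hw1⟩ := exists_ne (1 : Subgroup.center (S : Subgroup G))
  have hwcomm : ∀ s ∈ (S : Subgroup G), Commute s (w : G) := fun s hs =>
    congrArg Subtype.val (Subgroup.mem_center_iff.1 hwc ⟨s, hs⟩)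
  have hwz : (w : G) ∈ Cz z := Subgroup.mem_centralizer_singleton_iff.2 (hwcomm z hzS).eq.symm
  set wz : Cz z := ⟨(w : G), hwz⟩
  have hwQ : wz ∈ Q := by
    refine (QuotientGroup.eq_one_iff wz).1 (L.br.D.faithful _ fun v => ?_)
    obtain ⟨q, rfl⟩ := L.br.π_surj v
    refine L.br.π_conj wz q q (Subtype.ext ?_)
    have hq : ((q : Cz z) : G) ∈ (S : Subgroup G) := hS ⟨q, L.hBT (L.data.hQB q.2), rfl⟩
    show ((q : Cz z) : G) = (w : G) * ((q : Cz z) : G) * (w : G)⁻¹
    rw [← (hwcomm _ hq).eq, mul_inv_cancel_right]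
  have hwzc : wz = zc z := by
    rcases L.data.es.center wz hwQ fun q hq => Subtype.ext (hwcomm (q : G) (hS ⟨q, L.hBT (L.data.hQB hq), rfl⟩)).eq with h | h
    · exact absurd ((Subtype.ext (congrArg (fun t : Cz z => (t : G)) h) : w = 1)) (fun hh => hw1 (Subtype.ext hh))
    · exact h
  have hSC : (S : Subgroup G) ≤ Cz z := fun s hs => Subgroup.mem_centralizer_singleton_iff.2 (by
    have := (hwcomm s hs).eq
    rwa [show (w : G) = z from congrArg Subtype.val hwzc] at this)
  have hpS : IsPGroup 2 ((S : Subgroup G).comap (Cz z).subtype) := S.isPGroup'.comap_subtype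
  have e : (S : Subgroup G).comap (Cz z).subtype = (L.T : Subgroup (Cz z)) :=
    L.T.is_maximal' hpS fun t ht => hS ⟨t, ht, rfl⟩
  have hST : (S : Subgroup G) = TG := by
    refine le_antisymm (fun s hs => ⟨⟨s, hSC hs⟩, ?_, rfl⟩) hS
    rw [← e]
    exact hs
  refine ⟨S, hST, ?_⟩
  rw [hST]
  exact isOnlyMax_map _ (Cz z).subtype_injective (L.data.unique _ L.hBT L.small).1

end Cfsg.Agent.Lib.FischerLarge43
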