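import Cfsg.Agent.Lib.FischerLarge43.Basic

/-!
# Conjugation by `Q` and by `x` on the states

A vector `v` adds the plane code `dd y v` on the coset of `y` and changes the central bit by
`kap y (dd y v) + bb v u`.  Hence being conjugate to `z` is constant on the three orbits in a coset.

Owner: helper43.
-/

set_option autoImplicit false
set_option linter.style.haveILetI false
set_option linter.unusedSectionVars false

namespace Cfsg.Agent.Lib.FischerLarge43

open Cfsg.Agent.Lib.LargeFischer13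
open Cfsg.Agent.Lib.FischerLarge45 (Local Wof zc zc_comm zc_cases π_conj')
open Cfsg.Agent.Lib.FischerLarge45.Model (omega uSet sumBits sumBits_id)
open Cfsg.Agent.Lib.FischerLarge45.Codes (omega_xor omega_lt qn wtN)

attribute [local instance] Bridge.acg Bridge.fin Bridge.act

/-- conjugate to `z` in the ambient group -/
def Zc {G : Type*} [Group G] (z : G) (a : Cz z) : Prop := IsConj z (a : G)

theorem bb_cast_aux : ∀ a < 2, ∀ b < 2, ∀ c < 2, (((a + b + c) % 2 : Nat) : ZMod 2) =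
    (a : ZMod 2) + (b : ZMod 2) + (c : ZMod 2) := by decide

theorem qq_lt (v : Nat) : qq v < 2 := Nat.mod_lt _ (by norm_num)

theorem bb_cast (a b : Nat) : ((bb a b : Nat) : ZMod 2) =
    ((qq (a ^^^ b) : Nat) : ZMod 2) + ((qq a : Nat) : ZMod 2) + ((qq b : Nat) : ZMod 2) :=
  bb_cast_aux _ (qq_lt _) _ (qq_lt _) _ (qq_lt _)

theorem qq_eq {k : Nat} (hk : k < 4096) : qq k = if qn k then 1 else 0 := by
  have h := List.all_eq_true.1 forms_ok k (List.mem_range.2 hk)
  simp only [Bool.and_eq_true, beq_iff_eq] at h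
  exact h.1.2

theorem kap_lt (y u : Nat) : kap y u < 2 := by unfold kap; split <;> norm_num

theorem state_val : ∀ u < 64, ∀ b < 2, (u + 64 * b) &&& 63 = u ∧ (u + 64 * b) >>> 6 = b ∧ u + 64 * b < 128 := by
  decide +kernel

universe u

variable {G : Type u} [Group G] [Finite G] {z : G} {Q : Subgroup (Cz z)} [Q.Normal]
variable {L : Local z Q} (P : Base L)

variable (L) in
theorem sq_code (q : Q) {a : Nat} (ha : a < 4096) (hq : L.br.π q = L.S.E a) :
    (q : Cz z) * (q : Cz z) = zb ((qq a : Nat) : ZMod 2) := by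
  have key : L.br.D.q (L.br.π q) = ((qq a : Nat) : ZMod 2) := by
    rw [hq, L.S.q_E ha, qq_eq ha, ZMod.natCast_eq_natCast_iff', qn]
    rcases Nat.mod_two_eq_zero_or_one (wtN a) with h | h <;> simp [h]
  rw [← key]
  by_cases h : L.br.D.q (L.br.π q) = 0
  · rw [h, zb_zero]; exact congrArg Subtype.val ((L.br.π_q q).1 h)
  · rw [z2_ne _ h, zb_one]
    rcases L.data.es.sq_cases q.2 with e | e
    · exact absurd ((L.br.π_q q).2 (Subtype.ext e)) h
    · exact e

variable (L) in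
theorem conj_code (q w : Q) {a b : Nat} (ha : a < 4096) (hb : b < 4096) (hq : L.br.π q = L.S.E a)
    (hw : L.br.π w = L.S.E b) : (q : Cz z) * (w : Cz z) * (q : Cz z)⁻¹ = (w : Cz z) * zb ((bb a b : Nat) : ZMod 2) := by
  obtain ⟨δ, hδ⟩ : ∃ δ : ZMod 2, (q : Cz z) * (w : Cz z) * (q : Cz z)⁻¹ = (w : Cz z) * zb δ := by
    rcases L.data.es.conj q q.2 w w.2 with e | e
    · exact ⟨0, by rw [e, zb_zero, mul_one]⟩
    · exact ⟨1, by rw [e, zb_one]⟩
  have hprod : L.br.π (q * w) = L.S.E (a ^^^ b) := by rw [L.br.π_mul, hq, hw, L.S.E_xor]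
  have hsq := sq_code L (q * w) (Nat.xor_lt_two_pow (n := 12) ha hb) hprod
  have hq2 := sq_code L q ha hq
  have hw2 := sq_code L w hb hw
  have e : (q : Cz z) * (w : Cz z) = (w : Cz z) * zb δ * (q : Cz z) := mul_inv_eq_iff_eq_mul.1 hδ
  have e' : (w : Cz z) * (q : Cz z) = (q : Cz z) * (w : Cz z) * zb δ := by
    rw [e, mul_assoc ((w : Cz z) * zb δ), (zb_comm (q : Cz z) δ).eq, mul_assoc, ← mul_assoc (zb δ), ← zb_add L,
      CharTwo.add_self_eq_zero, zb_zero, one_mul]
  have e2 : (q : Cz z) * (w : Cz z) * ((q : Cz z) * (w : Cz z)) =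
      (q : Cz z) * (q : Cz z) * ((w : Cz z) * (w : Cz z)) * zb δ := by
    calc (q : Cz z) * (w : Cz z) * ((q : Cz z) * (w : Cz z)) =
          (q : Cz z) * ((w : Cz z) * (q : Cz z)) * (w : Cz z) := by group
      _ = (q : Cz z) * ((q : Cz z) * (w : Cz z) * zb δ) * (w : Cz z) := by rw [e']
      _ = (q : Cz z) * (q : Cz z) * ((w : Cz z) * (zb δ * (w : Cz z))) := by group
      _ = _ := by rw [← (zb_comm (w : Cz z) δ).eq]; group
  rw [show ((q * w : Q) : Cz z) = (q : Cz z) * w from rfl, e2, hq2, hw2, ← zb_add L, ← zb_add L] at hsq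
  have := zb_inj L hsq
  rw [hδ, bb_cast, ← this]
  congr 2
  have key : ∀ a b d : ZMod 2, d = a + b + d + a + b := by decide
  exact key _ _ _

/-- the commutator of a preimage of `v` with the chosen element over `y` -/
noncomputable def Base.cm (y v : Nat) : Cz z :=
  (pre L v : Cz z) * P.eY y * (pre L v : Cz z)⁻¹ * (P.eY y)⁻¹

open Classical in
/-- the central bit of that commutator -/
noncomputable def Base.kv (y v : Nat) : ZMod 2 := if P.cm y v = sU L (dd y v) then 0 else 1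

theorem Base.cm_spec {y : Nat} (hy : y < 16) {v : Nat} (hv : v < 4096) {q : Q} (hq : L.br.π q = L.S.E v) :
    (q : Cz z) * P.eY y * (q : Cz z)⁻¹ * (P.eY y)⁻¹ = sU L (dd y v) * zb (P.kv y v) := by
  have hsame : (q : Cz z) * P.eY y * (q : Cz z)⁻¹ = (pre L v : Cz z) * P.eY y * (pre L v : Cz z)⁻¹ := by
    rcases zc_cases L.br ((π_pre L v).trans hq.symm) with e | e <;> rw [e]
    rw [mul_inv_rev, mul_assoc (pre L v : Cz z) (zc z), ← (zc_comm (P.eY y)).eq]
    group
  rw [hsame]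
  show P.cm y v = _
  set p := pre L v
  let r : Q := ⟨P.eY y * (p : Cz z)⁻¹ * (P.eY y)⁻¹, Subgroup.Normal.conj_mem inferInstance _ (Q.inv_mem p.2) _⟩
  have hc : P.cm y v = ((p * r : Q) : Cz z) := by
    show _ = (p : Cz z) * (P.eY y * (p : Cz z)⁻¹ * (P.eY y)⁻¹)
    simp only [Base.cm, p]
    group
  obtain ⟨hd, hdlt⟩ := dd_spec hy hv
  have hπ : L.br.π (p * r) = L.S.E (uvec (dd y v)) := by
    rw [L.br.π_mul, π_pre, π_conj_code L (P.eY y) p⁻¹ hv ((L.br.π_inv p).trans (π_pre L v))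
      (f := bimg y) (P.ac_eY y hv) rfl, hd, L.S.E_xor, add_comm]
  let s : Q := ⟨sU L (dd y v), L.data.hUQ (sU_mem L hdlt)⟩
  rcases zc_cases L.br ((π_sU L (q := s) hdlt rfl).trans hπ.symm) with e | e
  · have h0 : P.cm y v = sU L (dd y v) := hc.trans e
    rw [Base.kv, if_pos h0, zb_zero, mul_one, h0]
  · have h0 : P.cm y v = sU L (dd y v) * zc z := hc.trans e
    have hne : P.cm y v ≠ sU L (dd y v) := fun h => L.data.es.ne (mul_eq_left.1 (h0.symm.trans h))
    rw [Base.kv, if_neg hne, zb_one, h0]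

theorem Base.kv_add {y : Nat} (hy : y < 16) {v w : Nat} (hv : v < 4096) (hw : w < 4096) :
    P.kv y (v ^^^ w) = P.kv y v + P.kv y w + ((bb v (uvec (dd y w)) : Nat) : ZMod 2) := by
  have hl : L.br.π (pre L v * pre L w) = L.S.E (v ^^^ w) := by rw [L.br.π_mul, π_pre, π_pre, L.S.E_xor]
  have h := P.cm_spec hy (Nat.xor_lt_two_pow (n := 12) hv hw) hl
  obtain ⟨-, h1⟩ := dd_spec hy hv
  obtain ⟨-, h2⟩ := dd_spec hy hw
  have hv' := P.cm_spec hy hv (π_pre L v)
  have hw' := P.cm_spec hy hw (π_pre L w)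
  have hcj : (pre L v : Cz z) * (sU L (dd y w) * zb (P.kv y w)) * (pre L v : Cz z)⁻¹ =
      sU L (dd y w) * zb (((bb v (uvec (dd y w)) : Nat) : ZMod 2) + P.kv y w) := by
    rw [show (pre L v : Cz z) * (sU L (dd y w) * zb (P.kv y w)) * (pre L v : Cz z)⁻¹ =
        (pre L v : Cz z) * sU L (dd y w) * (pre L v : Cz z)⁻¹ *
          ((pre L v : Cz z) * zb (P.kv y w) * (pre L v : Cz z)⁻¹) by rw [conj_mul],
      (zb_comm (pre L v : Cz z) (P.kv y w)).eq, mul_inv_cancel_right,
      conj_code L (pre L v) ⟨_, L.data.hUQ (sU_mem L h2)⟩ hv (uvec_spec h2).2.1 (π_pre L v)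
        (π_sU L h2 rfl), mul_assoc, ← zb_add L]
  rw [show ((pre L v * pre L w : Q) : Cz z) = (pre L v : Cz z) * (pre L w : Cz z) from rfl,
    show (pre L v : Cz z) * (pre L w : Cz z) * P.eY y * ((pre L v : Cz z) * (pre L w : Cz z))⁻¹ * (P.eY y)⁻¹ =
      (pre L v : Cz z) * ((pre L w : Cz z) * P.eY y * (pre L w : Cz z)⁻¹ * (P.eY y)⁻¹) * (pre L v : Cz z)⁻¹ *
        ((pre L v : Cz z) * P.eY y * (pre L v : Cz z)⁻¹ * (P.eY y)⁻¹) by group,
    hw', hv', hcj, dd_xor hy hv hw, sU_xor L h1 h2] at h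
  have hc := (commU L (sU_mem L h2) (sU_mem L h1)).eq
  set k1 := P.kv y v
  set k2 := ((bb v (uvec (dd y w)) : Nat) : ZMod 2) + P.kv y w with hk2
  clear_value k2 k1
  rw [show sU L (dd y w) * zb k2 * (sU L (dd y v) * zb k1) = sU L (dd y v) * sU L (dd y w) * zb (k2 + k1) by
    rw [zb_add L, mul_assoc, ← mul_assoc (zb k2), ← (zb_comm (sU L (dd y v)) k2).eq, ← mul_assoc, ← mul_assoc,
      hc, mul_assoc]] at h
  rw [← zb_inj L (mul_left_cancel h), hk2]
  ring

theorem Base.kv_omega {y : Nat} (hy : y < 16) {v : Nat} (hv : v < 4096) :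
    dd y (omega v) = uom (dd y v) ∧ P.kv y (omega v) = P.kv y v := by
  let p : Q := ⟨L.x * (pre L v : Cz z) * L.x⁻¹, Subgroup.Normal.conj_mem inferInstance _ (pre L v).2 L.x⟩
  have hp : L.br.π p = L.S.E (omega v) := by
    rw [← x_smul L hv, ← π_pre L v, L.br.π_conj L.x (pre L v) p rfl]
  have h := P.cm_spec hy (omega_lt hv) hp
  obtain ⟨-, h1⟩ := dd_spec hy hv
  obtain ⟨-, h2⟩ := dd_spec hy (omega_lt hv)
  obtain ⟨e3, h3⟩ := uom_spec h1
  have hx := congrArg (fun c => L.x * c * L.x⁻¹) (P.cm_spec hy hv (π_pre L v))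
  have hl : L.x * ((pre L v : Cz z) * P.eY y * (pre L v : Cz z)⁻¹ * (P.eY y)⁻¹) * L.x⁻¹ =
      (p : Cz z) * P.eY y * (p : Cz z)⁻¹ * (P.eY y)⁻¹ := by
    show _ = L.x * (pre L v : Cz z) * L.x⁻¹ * P.eY y * (L.x * (pre L v : Cz z) * L.x⁻¹)⁻¹ * (P.eY y)⁻¹
    calc _ = (L.x * (pre L v : Cz z) * L.x⁻¹) * (L.x * P.eY y * L.x⁻¹) * (L.x * (pre L v : Cz z) * L.x⁻¹)⁻¹ *
          (L.x * P.eY y * L.x⁻¹)⁻¹ := by group
      _ = _ := by rw [P.x_eY]
  have hr : L.x * (sU L (dd y v) * zb (P.kv y v)) * L.x⁻¹ = sU L (uom (dd y v)) * zb (P.kv y v) := by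
    rw [← conj_mul, x_sU L h1, (zb_comm L.x _).eq, mul_inv_cancel_right]
  change L.x * _ * L.x⁻¹ = L.x * _ * L.x⁻¹ at hx
  rw [hl, hr, h] at hx
  have hdd : dd y (omega v) = uom (dd y v) := by
    have e := congrArg (fun c => (QuotientGroup.mk c : (Cz z) ⧸ Q)) hx
    clear e
    let a : Q := ⟨sU L (dd y (omega v)) * zb (P.kv y (omega v)),
      Q.mul_mem (L.data.hUQ (sU_mem L h2)) (L.data.hUQ (zb_mem L _))⟩
    let b : Q := ⟨sU L (uom (dd y v)) * zb (P.kv y v),
      Q.mul_mem (L.data.hUQ (sU_mem L h3)) (L.data.hUQ (zb_mem L _))⟩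
    have eab : L.br.π a = L.br.π b := congrArg L.br.π (Subtype.ext hx : a = b)
    rw [show a = ⟨_, L.data.hUQ (sU_mem L h2)⟩ * ⟨_, L.data.hUQ (zb_mem L (P.kv y (omega v)))⟩ from rfl,
      show b = ⟨_, L.data.hUQ (sU_mem L h3)⟩ * ⟨_, L.data.hUQ (zb_mem L (P.kv y v))⟩ from rfl,
      L.br.π_mul, L.br.π_mul, π_sU L (q := ⟨_, L.data.hUQ (sU_mem L h2)⟩) h2 rfl,
      π_sU L (q := ⟨_, L.data.hUQ (sU_mem L h3)⟩) h3 rfl,
      π_zb L (P.kv y (omega v)) (q := ⟨_, L.data.hUQ (zb_mem L _)⟩) rfl,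
      π_zb L (P.kv y v) (q := ⟨_, L.data.hUQ (zb_mem L _)⟩) rfl, add_zero, add_zero] at eab
    exact uvec_inj h2 h3 (L.S.E_inj (uvec_spec h2).2.1 (uvec_spec h3).2.1 eab)
  refine ⟨hdd, ?_⟩
  rw [hdd] at hx
  exact zb_inj L (mul_left_cancel hx)

/-- the image of `dd y` is met by the orbit of the state zero -/
def InImg (y u : Nat) : Prop := (o0 y).testBit u = true ∨ (o0 y).testBit (u + 64) = true

theorem kap_rule {y : Nat} (hy : y ∈ List.range' 1 15) {u : Nat} (hu : u < 64) (h : InImg y u) :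
    kap y (uom u) = kap y u ∧ ∀ j < 12, InImg y (dd y (2 ^ j) ^^^ u) ∧
      (kap y (dd y (2 ^ j) ^^^ u) + kap y (dd y (2 ^ j)) + kap y u) % 2 = bb (2 ^ j) (uvec u) := by
  have h0 := List.all_eq_true.1 (List.all_eq_true.1 kap_polar y hy) u (List.mem_range.2 hu)
  simp only [Bool.or_eq_true, Bool.not_eq_true', Bool.or_eq_false_iff, Bool.and_eq_true, List.all_eq_true,
    List.mem_range, beq_iff_eq] at h0
  rcases h0 with ⟨a, b⟩ | ⟨c, d⟩
  · rcases h with h | h
    · rw [a] at h; exact absurd h (by simp)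
    · rw [b] at h; exact absurd h (by simp)
  · exact ⟨d, fun j hj => ⟨(c j hj).1, (c j hj).2⟩⟩

theorem inImg_zero {y : Nat} (hy : y ∈ List.range' 1 15) : InImg y 0 := by
  have := List.all_eq_true.1 orbits_zero y hy
  simp only [Bool.and_eq_true] at this
  exact Or.inl this.1

theorem Base.kv_eq {y : Nat} (hy : y ∈ List.range' 1 15) {v : Nat} (hv : v < 4096) :
    P.kv y v = ((kap y (dd y v) : Nat) : ZMod 2) := by
  have hy16 : y < 16 := by have := List.mem_range'_1.1 hy; omega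
  let δ : Nat → ZMod 2 := fun w => P.kv y w + ((kap y (dd y w) : Nat) : ZMod 2)
  have hd0 : dd y 0 = 0 := by
    have := dd_xor hy16 (a := 0) (b := 0) (by norm_num) (by norm_num)
    simpa using this
  have hbb0 : ∀ a, bb a 0 = 0 := fun a => by
    have h1 := qq_lt a
    have h2 : qq 0 = 0 := by decide +kernel
    simp only [bb, Nat.xor_zero, h2]
    omega
  have hpow : ∀ j < 12, (2 : Nat) ^ j < 4096 := fun j hj =>
    lt_of_lt_of_le (Nat.pow_lt_pow_right (by norm_num) hj) (by norm_num)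
  have h00 : P.kv y 0 = 0 := by
    have h := P.kv_add hy16 (v := 0) (w := 0) (by norm_num) (by norm_num)
    rw [Nat.xor_self, hd0, show uvec 0 = 0 by decide +kernel, hbb0] at h
    simpa [CharTwo.add_self_eq_zero] using h
  have hk0 : kap y 0 = 0 := by
    have hh : (List.range' 1 15).all (fun y => kap y 0 == 0) = true := by decide +kernel
    simpa using List.all_eq_true.1 hh y hy
  -- additivity along the basis
  have key : ∀ l : List Nat, (∀ j ∈ l, j < 12) → ∀ w < 4096,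
      InImg y (dd y (sumBits (fun j => 2 ^ j) w l)) ∧ sumBits (fun j => 2 ^ j) w l < 4096 ∧
        δ (sumBits (fun j => 2 ^ j) w l) = (l.map fun j => if w.testBit j then δ (2 ^ j) else 0).sum := by
    intro l hl w _
    induction l with
    | nil =>
      simp only [sumBits, List.map_nil, List.sum_nil]
      exact ⟨hd0.symm ▸ inImg_zero hy, by norm_num, by simp [δ, h00, hd0, hk0]⟩
    | cons j l ih =>
      obtain ⟨hin, hlt, hs⟩ := ih fun i hi => hl i (List.mem_cons_of_mem _ hi)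
      have hj := hl j (List.mem_cons_self ..)
      simp only [sumBits, List.map_cons, List.sum_cons]
      by_cases hb : w.testBit j = true
      · simp only [hb, ↓reduceIte]
        obtain ⟨-, hrule⟩ := kap_rule hy (dd_spec hy16 hlt).2 hin
        obtain ⟨hin', hk⟩ := hrule j hj
        rw [← dd_xor hy16 (hpow j hj) hlt] at hin' hk
        refine ⟨hin', Nat.xor_lt_two_pow (n := 12) (hpow j hj) hlt, ?_⟩
        rw [← hs]
        show P.kv y _ + _ = (P.kv y _ + _) + (P.kv y _ + _)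
        rw [P.kv_add hy16 (hpow j hj) hlt, ← hk,
          bb_cast_aux _ (kap_lt _ _) _ (kap_lt _ _) _ (kap_lt _ _)]
        have : ∀ a b c d e : ZMod 2, a + b + (c + d + e) + c = a + d + (b + e) := by decide
        exact this _ _ _ _ _
      · simp only [hb, Bool.false_eq_true, ↓reduceIte, Nat.zero_xor, zero_add]
        exact ⟨hin, hlt, hs⟩
  have hadd : ∀ a < 4096, InImg y (dd y a) ∧
      δ a = ((List.range 12).map fun j => if a.testBit j then δ (2 ^ j) else 0).sum := fun a ha => by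
    have h := key (List.range 12) (fun j hj => List.mem_range.1 hj) a ha
    rw [sumBits_id ha] at h
    exact ⟨h.1, h.2.2⟩
  have hlin : ∀ a < 4096, ∀ b < 4096, δ (a ^^^ b) = δ a + δ b := by
    intro a ha b hb
    rw [(hadd _ (Nat.xor_lt_two_pow (n := 12) ha hb)).2, (hadd a ha).2, (hadd b hb).2]
    generalize List.range 12 = l
    induction l with
    | nil => simp
    | cons j l ih =>
      rw [List.map_cons, List.map_cons, List.map_cons, List.sum_cons, List.sum_cons, List.sum_cons, ih,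
        Nat.testBit_xor]
      have hx : ∀ (p q : Bool) (d S T : ZMod 2), (if xor p q then d else 0) + (S + T) =
          (if p then d else 0) + S + ((if q then d else 0) + T) := by decide
      exact hx _ _ _ _ _
  have hinv : ∀ a < 4096, δ (omega a) = δ a := fun a ha => by
    obtain ⟨e1, e2⟩ := P.kv_omega hy16 ha
    show P.kv y _ + _ = P.kv y _ + _
    rw [e1, e2, (kap_rule hy (dd_spec hy16 ha).2 (hadd a ha).1).1]
  have hzero : δ v = 0 := by
    have h := List.all_eq_true.1 forms_ok v (List.mem_range.2 hv)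
    simp only [Bool.and_eq_true, beq_iff_eq] at h
    have h1 := omega_lt hv
    have e : δ (v ^^^ omega v ^^^ omega (omega v)) = δ v + δ v + δ v := by
      rw [hlin _ (Nat.xor_lt_two_pow (n := 12) hv h1) _ (omega_lt h1), hlin _ hv _ h1, hinv _ h1, hinv _ hv]
    rw [h.2, show δ 0 = 0 by simp [δ, h00, hd0, hk0]] at e
    rw [CharTwo.add_self_eq_zero, zero_add] at e
    exact e.symm
  exact CharTwo.add_eq_zero.1 hzero

/-- conjugation of a state by a vector -/
theorem Base.conj_el {y s : Nat} (hy : y ∈ List.range' 1 15) (hs : s < 128) {v : Nat} (hv : v < 4096) :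
    (pre L v : Cz z) * P.el (st y s) * (pre L v : Cz z)⁻¹ =
      P.el (st y (((s &&& 63) ^^^ dd y v) +
        64 * (((s >>> 6) + kap y (dd y v) + bb v (uvec (s &&& 63))) % 2))) := by
  have hy16 : y < 16 := by have := List.mem_range'_1.1 hy; omega
  obtain ⟨-, -, -, -, hb, hu⟩ := st_bits y hy16 s hs
  obtain ⟨-, hd⟩ := dd_spec hy16 hv
  set s' := ((s &&& 63) ^^^ dd y v) + 64 * (((s >>> 6) + kap y (dd y v) + bb v (uvec (s &&& 63))) % 2)
  obtain ⟨h1, h2, h3⟩ := state_val _ (Nat.xor_lt_two_pow (n := 6) hu hd)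
    ((((s >>> 6) + kap y (dd y v) + bb v (uvec (s &&& 63))) % 2)) (Nat.mod_lt _ (by norm_num))
  rw [P.el_st hy16 hs, P.el_st hy16 (show s' < 128 from h3), h1, h2,
    bb_cast_aux _ hb _ (kap_lt y (dd y v)) (bb v (uvec (s &&& 63))) (Nat.mod_lt _ (by norm_num)), sU_xor L hu hd]
  set q := (pre L v : Cz z)
  have c1 : q * sU L (s &&& 63) * q⁻¹ = sU L (s &&& 63) * zb ((bb v (uvec (s &&& 63)) : Nat) : ZMod 2) :=
    conj_code L (pre L v) ⟨_, L.data.hUQ (sU_mem L hu)⟩ hv (uvec_spec hu).2.1 (π_pre L v) (π_sU L hu rfl)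
  have c2 : q * P.eY y * q⁻¹ = sU L (dd y v) * zb ((kap y (dd y v) : Nat) : ZMod 2) * P.eY y := by
    rw [← P.kv_eq hy hv, ← P.cm_spec hy16 hv (π_pre L v), inv_mul_cancel_right]
  calc q * (sU L (s &&& 63) * P.eY y * zb ((s >>> 6 : Nat) : ZMod 2)) * q⁻¹
      = (q * sU L (s &&& 63) * q⁻¹) * (q * P.eY y * q⁻¹) * (q * zb ((s >>> 6 : Nat) : ZMod 2) * q⁻¹) := by group
    _ = sU L (s &&& 63) * zb ((bb v (uvec (s &&& 63)) : Nat) : ZMod 2) *
          (sU L (dd y v) * zb ((kap y (dd y v) : Nat) : ZMod 2) * P.eY y) * zb ((s >>> 6 : Nat) : ZMod 2) := by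
        rw [c1, c2, (zb_comm q _).eq, mul_inv_cancel_right]
    _ = _ := by
        set A := sU L (s &&& 63)
        set D := sU L (dd y v)
        set E := P.eY y
        set a := ((s >>> 6 : Nat) : ZMod 2)
        set k := ((kap y (dd y v) : Nat) : ZMod 2)
        set b := ((bb v (uvec (s &&& 63)) : Nat) : ZMod 2)
        rw [show a + k + b = b + (k + a) by ring, zb_add L, zb_add L]
        calc A * zb b * (D * zb k * E) * zb a = A * (zb b * D) * (zb k * E) * zb a := by group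
          _ = A * D * (zb b * (E * zb k)) * zb a := by rw [← (zb_comm D b).eq, ← (zb_comm E k).eq]; group
          _ = A * D * ((E * zb k) * zb b) * zb a := by rw [(zb_comm (E * zb k) b).eq]
          _ = A * D * E * (zb k * zb b * zb a) := by group
          _ = A * D * E * (zb b * (zb k * zb a)) := by rw [(zb_comm (zb k) b).eq]; group

theorem Base.x_el {y s : Nat} (hy : y < 16) (hs : s < 128) :
    L.x * P.el (st y s) * L.x⁻¹ = P.el (st y (uom (s &&& 63) + 64 * (s >>> 6))) := by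
  obtain ⟨-, -, -, -, hb, hu⟩ := st_bits y hy s hs
  obtain ⟨h1, h2, h3⟩ := state_val _ (uom_spec hu).2 _ hb
  rw [P.el_st hy hs, P.el_st hy h3, h1, h2, ← x_sU L hu]
  calc L.x * (sU L (s &&& 63) * P.eY y * zb ((s >>> 6 : Nat) : ZMod 2)) * L.x⁻¹
      = (L.x * sU L (s &&& 63) * L.x⁻¹) * (L.x * P.eY y * L.x⁻¹) *
          (L.x * zb ((s >>> 6 : Nat) : ZMod 2) * L.x⁻¹) := by group
    _ = _ := by rw [P.x_eY, (zb_comm L.x _).eq, mul_inv_cancel_right]

theorem zc_conj (c a : Cz z) : Zc z (c * a * c⁻¹) ↔ Zc z a := by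
  constructor
  · intro h
    exact IsConj.trans h (isConj_iff.2 ⟨(c : G)⁻¹, by simp [mul_assoc]⟩)
  · intro h
    exact IsConj.trans h (isConj_iff.2 ⟨(c : G), by simp⟩)

theorem Base.step_iff {y s t : Nat} (hy : y ∈ List.range' 1 15) (hs : s < 128) (ht : t ∈ steps y s) :
    t < 128 ∧ (Zc z (P.el (st y t)) ↔ Zc z (P.el (st y s))) := by
  have hy16 : y < 16 := by have := List.mem_range'_1.1 hy; omega
  obtain ⟨-, -, -, -, hb, hu⟩ := st_bits y hy16 s hs
  simp only [steps, List.mem_cons, List.mem_map, List.mem_range] at ht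
  rcases ht with rfl | ⟨j, hj, rfl⟩
  · exact ⟨(state_val _ (uom_spec hu).2 _ hb).2.2, by rw [← P.x_el hy16 hs, zc_conj]⟩
  · have hj' : (2 : Nat) ^ j < 4096 := lt_of_lt_of_le (Nat.pow_lt_pow_right (by norm_num) hj) (by norm_num)
    refine ⟨(state_val _ (Nat.xor_lt_two_pow (n := 6) hu (dd_spec hy16 hj').2) _ (Nat.mod_lt _ (by norm_num))).2.2, ?_⟩
    rw [← P.conj_el hy hs hj', zc_conj]

theorem testBit_maskOf (l : List Nat) (i : Nat) : (maskOf l).testBit i = true ↔ i ∈ l := by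
  induction l with
  | nil => simp [maskOf]
  | cons a l ih =>
    show ((1 <<< a) ||| maskOf l).testBit i = true ↔ _
    rw [Nat.testBit_or, Bool.or_eq_true, ih, List.mem_cons, Nat.one_shiftLeft, Nat.testBit_two_pow,
      decide_eq_true_eq, eq_comm]

theorem Base.closure_iff {y r : Nat} (hy : y ∈ List.range' 1 15) (hr : r < 128) {s : Nat}
    (hs : (closure5 y r).testBit s = true) :
    s < 128 ∧ (Zc z (P.el (st y s)) ↔ Zc z (P.el (st y r))) := by
  let good : Nat → Prop := fun m => ∀ s, m.testBit s = true →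
    s < 128 ∧ (Zc z (P.el (st y s)) ↔ Zc z (P.el (st y r)))
  have h0 : good (1 <<< r) := fun s hs => by
    rw [Nat.one_shiftLeft, Nat.testBit_two_pow, decide_eq_true_eq] at hs
    subst hs
    exact ⟨hr, Iff.rfl⟩
  have hsw : ∀ m, good m → good (sweep y m) := by
    intro m hm s hs
    rw [sweep, Nat.testBit_or, Bool.or_eq_true, testBit_maskOf, List.mem_flatMap] at hs
    rcases hs with hs | ⟨t, ht, hst⟩
    · exact hm s hs
    · obtain ⟨h1, h2⟩ := hm t (List.mem_filter.1 ht).2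
      obtain ⟨h3, h4⟩ := P.step_iff hy h1 hst
      exact ⟨h3, h4.trans h2⟩
  exact hsw _ (hsw _ (hsw _ (hsw _ (hsw _ h0)))) s hs

open Classical in
/-- the status of the three orbits in a coset -/
theorem Base.coset_status {y : Nat} (hy : y ∈ List.range' 1 15) :
    ∃ a b c : Bool, ∀ s < 128, (¬ Zc z (P.el (st y s))) ↔
      (((o0 y).testBit s && a) || ((o1 y).testBit s && b) || ((o2 y).testBit s && c)) = true := by
  have h := List.all_eq_true.1 orbit_ok y hy
  simp only [Bool.and_eq_true, beq_iff_eq] at h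
  obtain ⟨⟨⟨⟨⟨h0, h1⟩, h2⟩, -⟩, -⟩, -⟩ := h
  set r := orbRep.getD (y - 1) 0
  have hr : r < 128 := by
    have hh : (List.range' 1 15).all (fun y => decide (orbRep.getD (y - 1) 0 < 128)) = true := by decide +kernel
    exact of_decide_eq_true (List.all_eq_true.1 hh y hy : decide (orbRep.getD (y - 1) 0 < 128) = true)
  refine ⟨decide (¬ Zc z (P.el (st y 0))), decide (¬ Zc z (P.el (st y 64))),
    decide (¬ Zc z (P.el (st y r))), fun s hs => ?_⟩
  have e0 := fun h' : (o0 y).testBit s = true => (P.closure_iff hy (r := 0) (by norm_num) (h0.symm ▸ h')).2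
  have e1 := fun h' : (o1 y).testBit s = true => (P.closure_iff hy (r := 64) (by norm_num) (h1.symm ▸ h')).2
  have e2 := fun h' : (o2 y).testBit s = true => (P.closure_iff hy hr (h2.symm ▸ h')).2
  have hp := List.all_eq_true.1 (List.all_eq_true.1 states_ok y hy) s (List.mem_range.2 hs)
  rcases Bool.eq_false_or_eq_true ((o0 y).testBit s) with a0 | a0 <;>
    rcases Bool.eq_false_or_eq_true ((o1 y).testBit s) with a1 | a1 <;>
    rcases Bool.eq_false_or_eq_true ((o2 y).testBit s) with a2 | a2 <;>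
    simp [a0, a1, a2] at hp ⊢
  · rw [e0 a0]
  · rw [e1 a1]
  · rw [e2 a2]

end Cfsg.Agent.Lib.FischerLarge43
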