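import Cfsg.Agent.Lib.FischerLarge43.Classes

/-!
# The conjugates of `z` in `A`: 1771, leaving one orbit of 276

Every coset meets the complement of the class in a union of its three orbits, by the same amount;
the count has to divide the order of an automorphism group of `A`, which leaves only 16.  Then a
base can be chosen with the states zero of the four generators outside the class, and the others
form one orbit of the normaliser.

Owner: helper43.
-/

set_option autoImplicit false
set_option linter.style.haveILetI false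
set_option linter.unusedSectionVars false
set_option maxRecDepth 100000

namespace Cfsg.Agent.Lib.FischerLarge43

open Cfsg.Agent.Lib.LargeFischer13
open Cfsg.Agent.Lib.FischerLarge45 (Local Wof zc zc_comm IsOnlyMax)

attribute [local instance] Bridge.acg Bridge.fin Bridge.act

/-- the local part of a state -/
def loc (m : Nat) : Nat := (m &&& 63) + 64 * (m >>> 10)

theorem st_surj : (List.range 2048).all (fun m => st ((m >>> 6) &&& 15) (loc m) == m && decide (loc m < 128) &&
    (((m >>> 6) &&& 15 != 0) || m == (m &&& 63) + 1024 * (m >>> 10))) = true := by decide +kernel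

theorem loc_st : ∀ y < 16, ∀ s < 128, loc (st y s) = s := by decide +kernel

theorem perm_image : ∀ g < 11, (Finset.Icc 1 15).image (permY g) = Finset.Icc 1 15 := by decide +kernel

theorem kap_counts : ∀ a b c : Bool, ∀ k, k = (if a then 16 else 0) + (if b then 16 else 0) + (if c then 96 else 0) →
    (k = 0 ∨ k = 32 ∨ k = 96 ∨ k = 112 ∨ k = 128) ∨ (k = 16 ∧ a = !b ∧ c = false) := by
  intro a b c k hk
  cases a <;> cases b <;> cases c <;> simp at hk <;> subst hk <;> simp

universe u

variable {G : Type u} [Group G] [Finite G] {z : G} {Q : Subgroup (Cz z)} [Q.Normal]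
variable {L : Local z Q} (P : Base L)

variable (L) in
/-- the normaliser of `A` -/
def NA : Subgroup G := Subgroup.normalizer (AG L : Set G)

variable (L) in
theorem mem_NA {c : Cz z} (h : ∀ a ∈ Wof L.U L.B, c * a * c⁻¹ ∈ Wof L.U L.B) : (c : G) ∈ NA L := by
  have hle : (AG L).map (MulAut.conj (c : G)).toMonoidHom ≤ AG L := by
    rintro _ ⟨_, ⟨a, ha, rfl⟩, rfl⟩
    exact ⟨_, h a ha, rfl⟩
  have heq := Subgroup.eq_of_le_of_card_ge hle
    (Subgroup.card_map_of_injective (MulAut.conj (c : G)).injective).ge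
  refine Subgroup.mem_normalizer_iff.2 fun x => ⟨fun hx => ?_, fun hx => ?_⟩
  · exact heq.le ⟨x, hx, rfl⟩
  · obtain ⟨y, hy, e⟩ := heq.ge hx
    have e' : y = x := (MulAut.conj (c : G)).injective e
    exact e' ▸ hy

variable (L) in
theorem x_mem_NA : (L.x : G) ∈ NA L := mem_NA L fun _ ha => xW L ha

variable (L) in
theorem Q_mem_NA (q : Q) : ((q : Cz z) : G) ∈ NA L := by
  obtain ⟨S, hS, hA⟩ := exists_sylow L
  exact le_normalizer_of_onlyMax hA (hS.symm ▸ ⟨q, L.hBT (L.data.hQB q.2), rfl⟩)

theorem AG_elem : ∀ a ∈ AG L, a * a = 1 := by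
  rintro _ ⟨a, ha, rfl⟩
  rw [← map_mul, L.data.W_elem a ha, map_one]

/-- related by the normaliser -/
def Rel (L : Local z Q) (a b : Cz z) : Prop := ∃ g ∈ NA L, g * (a : G) * g⁻¹ = (b : G)

theorem Rel.refl (a : Cz z) : Rel L a a := ⟨1, one_mem _, by simp⟩

theorem Rel.trans {a b c : Cz z} : Rel L a b → Rel L b c → Rel L a c := by
  rintro ⟨g, hg, e⟩ ⟨g', hg', e'⟩
  exact ⟨g' * g, mul_mem hg' hg, by rw [← e', ← e]; group⟩

theorem Rel.symm {a b : Cz z} : Rel L a b → Rel L b a := by
  rintro ⟨g, hg, e⟩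
  exact ⟨g⁻¹, inv_mem hg, by rw [← e]; group⟩

theorem Rel.zc_iff {a b : Cz z} (h : Rel L a b) : Zc z a ↔ Zc z b := by
  obtain ⟨g, -, e⟩ := h
  exact ⟨fun h => h.trans (isConj_iff.2 ⟨g, e⟩), fun h => h.trans (isConj_iff.2 ⟨g⁻¹, by rw [← e]; group⟩)⟩

theorem Base.step_rel {y s t : Nat} (hy : y ∈ List.range' 1 15) (hs : s < 128) (ht : t ∈ steps y s) :
    t < 128 ∧ Rel L (P.el (st y s)) (P.el (st y t)) := by
  refine ⟨(P.step_iff hy hs ht).1, ?_⟩
  have hy16 : y < 16 := by have := List.mem_range'_1.1 hy; omega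
  simp only [steps, List.mem_cons, List.mem_map, List.mem_range] at ht
  rcases ht with rfl | ⟨j, hj, rfl⟩
  · exact ⟨_, x_mem_NA L, congrArg Subtype.val (P.x_el hy16 hs)⟩
  · exact ⟨_, Q_mem_NA L (pre L (2 ^ j)), congrArg Subtype.val (P.conj_el hy hs
      (lt_of_lt_of_le (Nat.pow_lt_pow_right (by norm_num) hj) (by norm_num)))⟩

theorem Base.closure_rel {y r : Nat} (hy : y ∈ List.range' 1 15) (hr : r < 128) {s : Nat}
    (hs : (closure5 y r).testBit s = true) : s < 128 ∧ Rel L (P.el (st y r)) (P.el (st y s)) := by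
  let good : Nat → Prop := fun m => ∀ s, m.testBit s = true → s < 128 ∧ Rel L (P.el (st y r)) (P.el (st y s))
  have h0 : good (1 <<< r) := fun s hs => by
    rw [Nat.one_shiftLeft, Nat.testBit_two_pow, decide_eq_true_eq] at hs
    subst hs
    exact ⟨hr, Rel.refl _⟩
  have hsw : ∀ m, good m → good (sweep y m) := by
    intro m hm s hs
    rw [sweep, Nat.testBit_or, Bool.or_eq_true, testBit_maskOf, List.mem_flatMap] at hs
    rcases hs with hs | ⟨t, ht, hst⟩
    · exact hm s hs
    · obtain ⟨h1, h2⟩ := hm t (List.mem_filter.1 ht).2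
      obtain ⟨h3, h4⟩ := P.step_rel hy h1 hst
      exact ⟨h3, h2.trans h4⟩
  exact hsw _ (hsw _ (hsw _ (hsw _ (hsw _ h0)))) s hs

open Classical in
/-- the local states of the coset of `y` outside the class -/
noncomputable def Base.NS (y : Nat) : Finset Nat :=
  (Finset.range 128).filter fun s => ¬ Zc z (P.el (st y s))

theorem Base.mem_NS {y s : Nat} : s ∈ P.NS y ↔ s < 128 ∧ ¬ Zc z (P.el (st y s)) := by
  simp [Base.NS]

theorem Base.card_NS {y : Nat} (hy : y ∈ List.range' 1 15) :
    ∃ a b c : Bool, (∀ s < 128, (¬ Zc z (P.el (st y s))) ↔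
      (((o0 y).testBit s && a) || ((o1 y).testBit s && b) || ((o2 y).testBit s && c)) = true) ∧
      (P.NS y).card = (if a then 16 else 0) + (if b then 16 else 0) + (if c then 96 else 0) := by
  obtain ⟨a, b, c, h⟩ := P.coset_status hy
  refine ⟨a, b, c, h, ?_⟩
  have hc := List.all_eq_true.1 (List.all_eq_true.1 (List.all_eq_true.1 (List.all_eq_true.1 count_ok y hy)
    a (by cases a <;> simp)) b (by cases b <;> simp)) c (by cases c <;> simp)
  rw [beq_iff_eq] at hc
  rw [← hc]
  have e : P.NS y = ((List.range 128).filter fun s =>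
      ((o0 y).testBit s && a) || ((o1 y).testBit s && b) || ((o2 y).testBit s && c)).toFinset := by
    ext s
    rw [P.mem_NS, List.mem_toFinset, List.mem_filter, List.mem_range]
    exact and_congr_right fun hs => h s hs
  rw [e, List.toFinset_card_of_nodup (List.nodup_range.filter _)]

theorem Base.coset_move {g y s : Nat} (hg : g < 11) (hy : y ∈ List.range' 1 15) (hs : s < 128) :
    ∃ c : Cz z, ∃ s' < 128, (c : G) ∈ NA L ∧ P.el (st (permY g y) s') = c * P.el (st y s) * c⁻¹ := by
  have hy' := List.mem_range'_1.1 hy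
  obtain ⟨c, hc⟩ := exists_stab L hg
  obtain ⟨h1, h2⟩ := P.stab_el hg hc
  obtain ⟨m', hm', e⟩ := P.el_surj (h1 _ (P.el_mem (m := st y s)))
  obtain ⟨hb1, hb2, -, hb4, -⟩ := st_bits y (by omega) s hs
  have hcoset := h2 _ hb4 m' hm' e (by rw [hb2]; omega)
  rw [hb2] at hcoset
  have h := List.all_eq_true.1 st_surj m' (List.mem_range.2 hm')
  simp only [Bool.and_eq_true, beq_iff_eq, decide_eq_true_eq] at h
  rw [hcoset] at h
  exact ⟨c, loc m', h.1.2, mem_NA L h1, by rw [h.1.1]; exact e⟩

theorem Base.card_NS_eq {y : Nat} (hy : y ∈ List.range' 1 15) : (P.NS y).card = (P.NS 1).card := by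
  classical
  have hle : ∀ g < 11, ∀ y ∈ List.range' 1 15, (P.NS y).card ≤ (P.NS (permY g y)).card := by
    intro g hg y hy
    obtain ⟨c, hc⟩ := exists_stab L hg
    have hex : ∀ s : P.NS y, ∃ s' : Nat, s' < 128 ∧ ¬ Zc z (P.el (st (permY g y) s')) ∧
        P.el (st (permY g y) s') = c * P.el (st y s.1) * c⁻¹ := by
      intro s
      obtain ⟨h1, h2⟩ := P.stab_el hg hc
      obtain ⟨m', hm', e⟩ := P.el_surj (h1 _ (P.el_mem (m := st y s.1)))
      obtain ⟨hb1, hb2, -, hb4, -⟩ := st_bits y (by have := List.mem_range'_1.1 hy; omega) s.1 (P.mem_NS.1 s.2).1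
      have hcoset := h2 _ hb4 m' hm' e (by rw [hb2]; have := List.mem_range'_1.1 hy; omega)
      rw [hb2] at hcoset
      have h := List.all_eq_true.1 st_surj m' (List.mem_range.2 hm')
      simp only [Bool.and_eq_true, beq_iff_eq, decide_eq_true_eq] at h
      rw [hcoset] at h
      exact ⟨loc m', h.1.2, by rw [h.1.1, e, zc_conj]; exact (P.mem_NS.1 s.2).2, by rw [h.1.1]; exact e⟩
    choose f hf hfN hfe using hex
    rw [← Nat.card_eq_finsetCard, ← Nat.card_eq_finsetCard]
    refine Nat.card_le_card_of_injective (fun s => ⟨f s, P.mem_NS.2 ⟨hf s, hfN s⟩⟩) fun s t e => ?_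
    have e' : f s = f t := congrArg Subtype.val e
    have e2 := hfe s
    rw [e', hfe t] at e2
    have hy16 : y < 16 := by have := List.mem_range'_1.1 hy; omega
    have := P.el_inj (st_bits y hy16 _ (P.mem_NS.1 t.2).1).2.2.2.1 (st_bits y hy16 _ (P.mem_NS.1 s.2).1).2.2.2.1
      (mul_left_cancel (mul_right_cancel e2))
    have := congrArg loc this
    rw [loc_st y hy16 _ (P.mem_NS.1 t.2).1, loc_st y hy16 _ (P.mem_NS.1 s.2).1] at this
    exact Subtype.ext this.symm
  have heq : ∀ g < 11, ∀ y ∈ List.range' 1 15, (P.NS (permY g y)).card = (P.NS y).card := by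
    intro g hg y hy
    have hmem : ∀ y, y ∈ Finset.Icc 1 15 ↔ y ∈ List.range' 1 15 := fun y => by
      rw [Finset.mem_Icc, List.mem_range'_1]; omega
    have hinj : Set.InjOn (permY g) (Finset.Icc 1 15 : Finset Nat) := by
      rw [← Finset.card_image_iff, perm_image g hg]
    have hsum : ∑ y ∈ Finset.Icc 1 15, (P.NS y).card = ∑ y ∈ Finset.Icc 1 15, (P.NS (permY g y)).card := by
      conv_lhs => rw [← perm_image g hg]
      exact Finset.sum_image hinj
    exact ((Finset.sum_eq_sum_iff_of_le fun y hy => hle g hg y ((hmem y).1 hy)).1 hsum y ((hmem y).2 hy)).symm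
  have key : ∀ n y, (reach n).testBit y = true → (P.NS y).card = (P.NS 1).card ∧ y ∈ List.range' 1 15 := by
    intro n
    induction n with
    | zero =>
      intro y hy
      rw [reach, show (2 : Nat) = 2 ^ 1 from rfl, Nat.testBit_two_pow, decide_eq_true_eq] at hy
      subst hy
      exact ⟨rfl, by simp⟩
    | succ n ih =>
      intro y hy
      rw [reach, testBit_maskOf, List.mem_flatMap] at hy
      obtain ⟨w, hw, hy⟩ := hy
      obtain ⟨h1, h2⟩ := ih w (List.mem_filter.1 hw).2
      simp only [List.mem_cons, List.mem_map, List.mem_range] at hy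
      rcases hy with rfl | ⟨g, hg, rfl⟩
      · exact ⟨h1, h2⟩
      · refine ⟨(heq g hg w h2).trans h1, ?_⟩
        have hi := perm_image g hg
        have hw' := List.mem_range'_1.1 h2
        have : permY g w ∈ Finset.Icc 1 15 :=
          hi ▸ Finset.mem_image_of_mem _ (Finset.mem_Icc.2 ⟨hw'.1, by omega⟩)
        rw [Finset.mem_Icc] at this
        exact List.mem_range'_1.2 ⟨this.1, by omega⟩
  refine (key 4 y ?_).1
  rw [reach_ok]
  have h := List.mem_range'_1.1 hy
  have hh : ∀ y < 16, 1 ≤ y → (65534 : Nat).testBit y = true := by decide +kernel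
  exact hh y (by omega) h.1

/-- the plane states outside the class -/
theorem Base.plane_iff (hF : Cfsg.IsOfLargeFischerTypeAt z Q) {m : Nat} (hm : m < 2048)
    (hy : (m >>> 6) &&& 15 = 0) : (m ≠ 0 ∧ ¬ Zc z (P.el m)) ↔ m ∈ uList := by
  have h := List.all_eq_true.1 st_surj m (List.mem_range.2 hm)
  simp only [Bool.and_eq_true, Bool.or_eq_true, beq_iff_eq, decide_eq_true_eq, bne_iff_ne] at h
  have hm' : m = (m &&& 63) + 1024 * (m >>> 10) := h.2.resolve_left (fun h => h hy)
  have hu : m &&& 63 < 64 := lt_of_le_of_lt Nat.and_le_right (by norm_num)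
  have hb : m >>> 10 < 2 := by rw [Nat.shiftRight_eq_div_pow]; omega
  have hel : P.el m = sU L (m &&& 63) * zb ((m >>> 10 : Nat) : ZMod 2) := by
    rw [Base.el, hy, show P.eY 0 = 1 by simp [Base.eY], mul_one]
  by_cases hu0 : m &&& 63 = 0
  · have h0 : m = 0 ∨ m = 1024 := by
      rw [hu0] at hm'
      rcases (by omega : m >>> 10 = 0 ∨ m >>> 10 = 1) with e | e <;> rw [e] at hm' <;> simp [hm']
    have hn : ∀ w ∈ uList, w ≠ 0 ∧ w ≠ 1024 := by decide +kernel
    refine iff_of_false (fun hh => ?_) fun hh => ?_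
    · rcases h0 with rfl | rfl
      · exact hh.1 rfl
      · exact hh.2 (by rw [P.el_z]; exact IsConj.refl z)
    · rcases h0 with rfl | rfl
      · exact (hn _ hh).1 rfl
      · exact (hn _ hh).2 rfl
  · have hne : m ≠ 0 := fun e => hu0 (by rw [e]; rfl)
    rw [hel, plane_class L hF hu hu0]
    have hv := List.all_eq_true.1 uvec_ok _ (List.mem_range.2 hu)
    simp only [Bool.and_eq_true, Bool.or_eq_true, beq_iff_eq, decide_eq_true_eq] at hv
    have hv0 : uvec (m &&& 63) ≠ 0 := fun e =>
      hu0 (uvec_inj hu (by norm_num) (e.trans (by decide +kernel)))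
    have hor := List.all_eq_true.1 isR_or _ (List.mem_range.2 (uvec_spec hu).2.1)
    have hcont : uList.contains m = isU (uvec (m &&& 63)) := by
      rcases (by omega : m >>> 10 = 0 ∨ m >>> 10 = 1) with e | e <;> rw [e] at hm'
      · rw [← hv.1.2, ← show m = m &&& 63 by omega]
      · rw [← hv.2, ← show m = (m &&& 63) + 1024 by omega]
    rw [← List.contains_iff_mem, hcont]
    rcases hv.1.1.2 with (e | e) | e
    · exact absurd e hv0
    · rw [e] at hor; simp [e, hne] at hor ⊢; simp [hor]
    · rw [e] at hor; simp [e, hne] at hor ⊢; simp [hor]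

open Classical in
/-- the states outside the class -/
noncomputable def Base.NZ : Finset Nat :=
  (Finset.range 2048).filter fun m => m ≠ 0 ∧ ¬ Zc z (P.el m)

theorem Base.mem_NZ {m : Nat} : m ∈ P.NZ ↔ m < 2048 ∧ m ≠ 0 ∧ ¬ Zc z (P.el m) := by simp [Base.NZ]

theorem Base.card_NZ (hF : Cfsg.IsOfLargeFischerTypeAt z Q) : P.NZ.card = 36 + 15 * (P.NS 1).card := by
  classical
  have hfib : ∀ y ∈ List.range' 1 15, (P.NZ.filter fun m => (m >>> 6) &&& 15 = y).card = (P.NS 1).card := by
    intro y hy
    have hy' := List.mem_range'_1.1 hy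
    rw [← P.card_NS_eq hy]
    have himg : P.NZ.filter (fun m => (m >>> 6) &&& 15 = y) = (P.NS y).image (st y) := by
      ext m
      simp only [Finset.mem_filter, P.mem_NZ, Finset.mem_image, P.mem_NS]
      constructor
      · rintro ⟨⟨hm, -, hn⟩, hmy⟩
        have h := List.all_eq_true.1 st_surj m (List.mem_range.2 hm)
        simp only [Bool.and_eq_true, beq_iff_eq, decide_eq_true_eq] at h
        rw [hmy] at h
        exact ⟨loc m, ⟨h.1.2, by rw [h.1.1]; exact hn⟩, h.1.1⟩
      · rintro ⟨s, ⟨hs, hn⟩, rfl⟩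
        obtain ⟨-, h2, -, h4, -⟩ := st_bits y (by omega) s hs
        exact ⟨⟨h4, fun e => by rw [e] at h2; simp at h2; omega, hn⟩, h2⟩
    rw [himg, Finset.card_image_of_injOn]
    intro s hs t ht e
    have := congrArg loc e
    rwa [loc_st y (by omega) s (P.mem_NS.1 hs).1, loc_st y (by omega) t (P.mem_NS.1 ht).1] at this
  have hplane : (P.NZ.filter fun m => (m >>> 6) &&& 15 = 0).card = 36 := by
    have e : P.NZ.filter (fun m => (m >>> 6) &&& 15 = 0) = uList.toFinset := by
      ext m
      simp only [Finset.mem_filter, P.mem_NZ, List.mem_toFinset]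
      constructor
      · rintro ⟨⟨hm, h⟩, hy⟩
        exact (P.plane_iff hF hm hy).1 h
      · intro h
        have h2 := List.all_eq_true.1 lists_ok.2.2 m h
        simp only [Bool.and_eq_true, beq_iff_eq, decide_eq_true_eq] at h2
        exact ⟨⟨h2.2, (P.plane_iff hF h2.2 h2.1).2 h⟩, h2.1⟩
    rw [e, List.toFinset_card_of_nodup lists_ok.2.1, uList_len]
  rw [Finset.card_eq_sum_card_fiberwise (f := fun m => (m >>> 6) &&& 15) (t := Finset.range 16)
    (fun m _ => Finset.mem_range.2 (lt_of_le_of_lt Nat.and_le_right (by norm_num))),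
    Finset.sum_range_succ', hplane,
    Finset.sum_congr rfl fun i hi => hfib (i + 1) (List.mem_range'_1.2 ⟨by omega, by
      have := Finset.mem_range.1 hi; omega⟩)]
  simp [add_comm]

/-- the class and the states outside it make up `A` -/
theorem Base.card_class :
    Nat.card {a : AG L // IsConj z a.1} + P.NZ.card + 1 = 2048 := by
  classical
  let F := (Finset.range 2048).filter fun m => Zc z (P.el m)
  have e : Nat.card {a : AG L // IsConj z a.1} = F.card := by
    rw [← Nat.card_eq_finsetCard]
    refine (Nat.card_congr (Equiv.ofBijective (fun m : F => (⟨⟨(P.el m.1 : G), _, P.el_mem, rfl⟩,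
      (Finset.mem_filter.1 m.2).2⟩ : {a : AG L // IsConj z a.1})) ⟨?_, ?_⟩)).symm
    · intro m n e
      exact Subtype.ext (P.el_inj (Finset.mem_range.1 (Finset.mem_filter.1 m.2).1)
        (Finset.mem_range.1 (Finset.mem_filter.1 n.2).1) (Subtype.ext (congrArg (fun a => a.1.1) e)))
    · rintro ⟨⟨a, ha⟩, hc⟩
      obtain ⟨m, hm, e⟩ := (mem_AG (P := P)).1 ha
      exact ⟨⟨m, Finset.mem_filter.2 ⟨Finset.mem_range.2 hm, by rw [Zc, e]; exact hc⟩⟩,
        Subtype.ext (Subtype.ext e)⟩
  have h0 : ¬ Zc z (P.el 0) := fun h => by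
    rw [Zc, P.el_zero, OneMemClass.coe_one, isConj_one_left] at h
    exact L.data.es.ne (Subtype.ext h)
  have hsplit := Finset.card_filter_add_card_filter_not (s := Finset.range 2048) (fun m => Zc z (P.el m))
  have hN : (Finset.range 2048).filter (fun m => ¬ Zc z (P.el m)) = insert 0 P.NZ := by
    ext m
    simp only [Finset.mem_filter, Finset.mem_range, Finset.mem_insert, P.mem_NZ]
    refine ⟨fun h => ?_, ?_⟩
    · by_cases h0 : m = 0
      · exact Or.inl h0
      · exact Or.inr ⟨h.1, h0, h.2⟩
    · rintro (rfl | h)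
      · exact ⟨by norm_num, h0⟩
      · exact ⟨h.1, h.2.2⟩
  rw [hN, Finset.card_insert_of_notMem (fun h => (P.mem_NZ.1 h).2.1 rfl), Finset.card_range] at hsplit
  rw [e]
  omega

/-- exactly one of the two small orbits of each coset lies outside the class -/
theorem Base.one_of_each (hF : Cfsg.IsOfLargeFischerTypeAt z Q) {y : Nat} (hy : y ∈ List.range' 1 15) :
    ∃ a : Bool, ∀ s < 128, (¬ Zc z (P.el (st y s))) ↔
      (if a then (o0 y).testBit s else (o1 y).testBit s) = true := by
  classical
  obtain ⟨S, -, hA⟩ := exists_sylow L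
  have hzA : z ∈ AG L := ⟨zc z, L.data.U_le_W L.data.hzU, rfl⟩
  have hcA : Nat.card (AG L) = 2 ^ 11 := by
    rw [AG, Subgroup.card_map_of_injective (Cz z).subtype_injective, L.data.card_W]
  obtain ⟨-, hdiv⟩ := card_class_mul hA hzA
  have hZ := P.card_class
  obtain ⟨a1, b1, c1, -, h1⟩ := P.card_NS (y := 1) (by simp)
  rw [P.card_NZ hF] at hZ
  obtain ⟨a, b, c, hab, hk⟩ := P.card_NS hy
  rw [P.card_NS_eq hy] at hk
  have hp : ∀ p : ℕ, p.Prime → (∀ i < 11 + 1, 1 ≤ i → ¬ p ∣ 2 ^ i - 1) → p ≠ 2 →
      ¬ p ∣ Nat.card {a : AG L // IsConj z a.1} := fun p hp hord h2 hd => by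
    haveI : Fact p.Prime := ⟨hp⟩
    exact not_prime_dvd hcA hord h2 _ (hdiv p hp hd)
  rcases kap_counts a b c _ hk with hbad | ⟨-, rfl, rfl⟩
  · exfalso
    rcases hbad with e | e | e | e | e <;> rw [e] at hZ
    · exact hp 2011 (by norm_num) (by decide) (by norm_num) (by
        rw [show Nat.card {a : AG L // IsConj z a.1} = 2011 by omega])
    · exact hp 1531 (by norm_num) (by decide) (by norm_num) (by
        rw [show Nat.card {a : AG L // IsConj z a.1} = 1531 by omega])
    · exact hp 571 (by norm_num) (by decide) (by norm_num) (by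
        rw [show Nat.card {a : AG L // IsConj z a.1} = 571 by omega])
    · exact hp 331 (by norm_num) (by decide) (by norm_num) (by
        rw [show Nat.card {a : AG L // IsConj z a.1} = 331 by omega])
    · exact hp 13 (by norm_num) (by decide) (by norm_num) (by
        rw [show Nat.card {a : AG L // IsConj z a.1} = 91 by omega]; norm_num)
  · refine ⟨!b, fun s hs => (hab s hs).trans ?_⟩
    cases b <;> simp

variable (L) in
/-- a base with the four generators outside the class -/
theorem exists_normal_base (hF : Cfsg.IsOfLargeFischerTypeAt z Q) :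
    ∃ P : Base L, ∃ cb < 2048, ∀ m < 2048, (m ≠ 0 ∧ ¬ Zc z (P.el m)) ↔ m ∈ ttList cb := by
  classical
  obtain ⟨P0⟩ := exists_base L
  have he : ∀ (P : Base L) (i : Fin 4) (b : Nat), b < 2 →
      P.el (st (2 ^ i.1) (64 * b)) = P.e i * zb ((b : Nat) : ZMod 2) := by
    intro P i b hb
    have h16 : 2 ^ i.1 < 16 := lt_of_lt_of_le (Nat.pow_lt_pow_right (by norm_num) i.2) (by norm_num)
    obtain ⟨h1, h2, -⟩ := state_val 0 (by norm_num) b hb
    simp only [zero_add] at h1 h2
    rw [P.el_st h16 (by omega), h1, h2, sU_zero, one_mul]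
    congr 1
    fin_cases i <;> simp [Base.eY, Nat.testBit_eq_decide_div_mod_eq]
  let P : Base L :=
    { e := fun i => if Zc z (P0.e i) then P0.e i * zc z else P0.e i
      mem := fun i => by
        split
        · exact mul_mem (P0.mem i) (L.data.U_le_W L.data.hzU)
        · exact P0.mem i
      fix := fun i => by
        split
        · rw [← conj_mul, P0.fix, (zc_comm L.x).eq, mul_inv_cancel_right]
        · exact P0.fix i
      img := fun i k hk => by
        split
        · rw [QuotientGroup.mk_mul, (QuotientGroup.eq_one_iff _).2 L.data.es.mem, mul_one]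
          exact P0.img i k hk
        · exact P0.img i k hk }
  have hnormal : ∀ i : Fin 4, ¬ Zc z (P.el (st (2 ^ i.1) 0)) := by
    intro i
    have e := he P i 0 (by norm_num)
    rw [Nat.mul_zero, Nat.cast_zero, zb_zero, mul_one] at e
    rw [e]
    show ¬ Zc z (if Zc z (P0.e i) then P0.e i * zc z else P0.e i)
    split
    · rename_i hz
      have hi : 2 ^ i.1 ∈ List.range' 1 15 := List.mem_range'_1.2
        ⟨Nat.one_le_two_pow, lt_of_lt_of_le (Nat.pow_lt_pow_right (by norm_num) i.2) (by norm_num)⟩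
      obtain ⟨a, ha⟩ := P0.one_of_each hF hi
      have e0 := he P0 i 0 (by norm_num)
      rw [Nat.mul_zero, Nat.cast_zero, zb_zero, mul_one] at e0
      have e1 := he P0 i 1 (by norm_num)
      rw [Nat.mul_one, Nat.cast_one, zb_one] at e1
      have h0 := ha 0 (by norm_num)
      have h64 := ha 64 (by norm_num)
      have hz0 := List.all_eq_true.1 orbits_zero _ hi
      simp only [Bool.and_eq_true] at hz0
      have hd := List.all_eq_true.1 (List.all_eq_true.1 states_ok _ hi) 0 (List.mem_range.2 (by norm_num))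
      simp only [hz0.1, Bool.true_and, Bool.and_eq_true, Bool.not_eq_true'] at hd
      rw [e0] at h0
      rw [e1] at h64
      cases a
      · rw [h64]; simpa using hz0.2
      · exact absurd hz (h0.2 (by simpa using hz0.1))
    · rename_i hz; exact hz
  let ys : List Nat := [3, 5, 6, 7, 9, 10, 11, 12, 13, 14, 15]
  let bits := (List.range 11).filter fun i => decide (Zc z (P.el (st (ys.getD i 0) 0)))
  refine ⟨P, maskOf bits, ?_, ?_⟩
  · refine Nat.lt_pow_two_of_testBit (n := 11) _ fun i hi => ?_
    rw [Bool.eq_false_iff, ne_eq, testBit_maskOf]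
    intro h
    have := List.mem_range.1 (List.mem_filter.1 h).1
    omega
  intro m hm
  by_cases hy0 : (m >>> 6) &&& 15 = 0
  · rw [P.plane_iff hF hm hy0, ttList, List.mem_append]
    refine ⟨Or.inl, fun h => h.resolve_right fun h' => ?_⟩
    obtain ⟨y, hy, hmem⟩ := List.mem_flatMap.1 h'
    have hl := List.all_eq_true.1 lists_ok.1 y hy
    simp only [List.all_eq_true, Bool.and_eq_true, decide_eq_true_eq, beq_iff_eq] at hl
    have := ((hl (if sgnOf (maskOf bits) y then 1 else 0) (by split <;> simp)).2 m hmem).1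
    have := List.mem_range'_1.1 hy
    omega
  · set y := (m >>> 6) &&& 15 with hydef
    have hy16 : y < 16 := lt_of_le_of_lt Nat.and_le_right (by norm_num)
    have hy : y ∈ List.range' 1 15 := List.mem_range'_1.2 ⟨Nat.pos_of_ne_zero hy0, by omega⟩
    obtain ⟨a, ha⟩ := P.one_of_each hF hy
    have hz0 := List.all_eq_true.1 orbits_zero _ hy
    simp only [Bool.and_eq_true] at hz0
    have hd := List.all_eq_true.1 (List.all_eq_true.1 states_ok _ hy) 0 (List.mem_range.2 (by norm_num))
    simp only [hz0.1, Bool.true_and, Bool.and_eq_true, Bool.not_eq_true'] at hd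
    have ha0 : a = !decide (Zc z (P.el (st y 0))) := by
      have h0 := ha 0 (by norm_num)
      cases a
      · simp only [Bool.false_eq_true, ↓reduceIte, hd.2, iff_false, not_not] at h0
        simp [h0]
      · simp only [↓reduceIte, hz0.1, iff_true] at h0
        simp [h0]
    have hsgn : sgnOf (maskOf bits) y = !a := by
      rw [ha0, Bool.not_not]
      have hcases : y = 1 ∨ y = 2 ∨ y = 4 ∨ y = 8 ∨ y ∈ ys := by
        have hh : ∀ y < 16, 1 ≤ y → y = 1 ∨ y = 2 ∨ y = 4 ∨ y = 8 ∨ y ∈ ys := by decide +kernel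
        exact hh y hy16 (Nat.pos_of_ne_zero hy0)
      have hnb : ∀ i : Fin 4, y = 2 ^ i.1 → sgnOf (maskOf bits) y = decide (Zc z (P.el (st y 0))) := by
        intro i hi
        rw [hi, decide_eq_false (hnormal i)]
        fin_cases i <;> rfl
      rcases hcases with e | e | e | e | e
      · exact hnb 0 e
      · exact hnb 1 e
      · exact hnb 2 e
      · exact hnb 3 e
      · obtain ⟨i, hi, hiy⟩ := List.getElem_of_mem e
        have hidx : [3, 5, 6, 7, 9, 10, 11, 12, 13, 14, 15].idxOf? y = some i := by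
          have hh : ∀ i < 11, [3, 5, 6, 7, 9, 10, 11, 12, 13, 14, 15].idxOf? (ys.getD i 0) = some i := by
            decide +kernel
          have := hh i hi
          rwa [List.getD_eq_getElem _ _ hi, hiy] at this
        rw [sgnOf, hidx]
        refine Bool.eq_iff_iff.2 ?_
        rw [testBit_maskOf, List.mem_filter, List.mem_range, List.getD_eq_getElem _ _ hi, hiy]
        exact ⟨fun h => h.2, fun h => ⟨hi, h⟩⟩
    have hsm := List.all_eq_true.1 st_surj m (List.mem_range.2 hm)
    simp only [Bool.and_eq_true, beq_iff_eq, decide_eq_true_eq] at hsm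
    have hm0 : m ≠ 0 := fun e => hy0 (by rw [hydef, e]; rfl)
    have hlhs : (m ≠ 0 ∧ ¬ Zc z (P.el m)) ↔ (if a then (o0 y).testBit (loc m) else (o1 y).testBit (loc m)) = true := by
      rw [← ha (loc m) hsm.1.2, hsm.1.1]
      exact ⟨fun h => h.2, fun h => ⟨hm0, h⟩⟩
    rw [hlhs, ttList, List.mem_append]
    have hlist : cosetList (maskOf bits) y = cosetOf y (if a then o0 y else o1 y) := by
      have h := List.all_eq_true.1 orbLists_ok y hy
      simp only [Bool.and_eq_true, beq_iff_eq] at h
      rw [cosetList, hsgn]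
      cases a
      · exact h.2
      · exact h.1
    have hmemc : m ∈ cosetList (maskOf bits) y ↔
        (if a then (o0 y).testBit (loc m) else (o1 y).testBit (loc m)) = true := by
      rw [hlist, cosetOf, List.mem_map]
      constructor
      · rintro ⟨s, hs, e⟩
        obtain ⟨h1, h2⟩ := List.mem_filter.1 hs
        have e' : s = loc m := by rw [← e]; exact (loc_st y hy16 s (List.mem_range.1 h1)).symm
        subst e'
        cases a <;> simpa using h2
      · intro h
        exact ⟨loc m, List.mem_filter.2 ⟨List.mem_range.2 hsm.1.2, by cases a <;> simpa using h⟩, hsm.1.1⟩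
    constructor
    · exact fun h => Or.inr (List.mem_flatMap.2 ⟨y, hy, hmemc.2 h⟩)
    · rintro (h | h)
      · have := List.all_eq_true.1 lists_ok.2.2 m h
        simp only [Bool.and_eq_true, beq_iff_eq] at this
        exact absurd this.1 hy0
      · obtain ⟨y', hy', hmem⟩ := List.mem_flatMap.1 h
        have hl := List.all_eq_true.1 lists_ok.1 y' hy'
        simp only [List.all_eq_true, Bool.and_eq_true, decide_eq_true_eq, beq_iff_eq] at hl
        have e := ((hl (if sgnOf (maskOf bits) y' then 1 else 0) (by split <;> simp)).2 m hmem).1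
        rw [← hydef] at e
        subst e
        exact hmemc.1 hmem

/-- the normaliser is transitive outside the class -/
theorem Base.transitive (hF : Cfsg.IsOfLargeFischerTypeAt z Q) {a b : Nat}
    (ha : a ∈ P.NZ) (hb : b ∈ P.NZ) : Rel L (P.el a) (P.el b) := by
  classical
  obtain ⟨a1, h1⟩ := P.one_of_each hF (y := 1) (by simp)
  set r : Nat := if a1 then 0 else 64
  have hr : r < 128 := by cases a1 <;> simp [r]
  -- inside a coset
  have hin : ∀ y ∈ List.range' 1 15, ∀ s < 128, ∀ t < 128, ¬ Zc z (P.el (st y s)) → ¬ Zc z (P.el (st y t)) →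
      Rel L (P.el (st y s)) (P.el (st y t)) := by
    intro y hy s hs t ht hns hnt
    obtain ⟨a, h⟩ := P.one_of_each hF hy
    have ho := List.all_eq_true.1 orbit_ok y hy
    simp only [Bool.and_eq_true, beq_iff_eq] at ho
    rw [h s hs] at hns
    rw [h t ht] at hnt
    cases a
    · exact ((P.closure_rel hy (r := 64) (by norm_num) (by simpa [ho.1.1.1.1.2] using hns)).2).symm.trans
        (P.closure_rel hy (r := 64) (by norm_num) (by simpa [ho.1.1.1.1.2] using hnt)).2
    · exact ((P.closure_rel hy (r := 0) (by norm_num) (by simpa [ho.1.1.1.1.1] using hns)).2).symm.trans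
        (P.closure_rel hy (r := 0) (by norm_num) (by simpa [ho.1.1.1.1.1] using hnt)).2
  have hr1 : ¬ Zc z (P.el (st 1 r)) := by
    rw [h1 r hr]
    have hz := List.all_eq_true.1 orbits_zero 1 (by simp)
    simp only [Bool.and_eq_true] at hz
    cases a1
    · simpa [r] using hz.2
    · simpa [r] using hz.1
  -- across cosets
  have hreach : ∀ n y, (reach n).testBit y = true → y ∈ List.range' 1 15 ∧
      ∀ s < 128, ¬ Zc z (P.el (st y s)) → Rel L (P.el (st 1 r)) (P.el (st y s)) := by
    intro n
    induction n with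
    | zero =>
      intro y hy
      rw [reach, show (2 : Nat) = 2 ^ 1 from rfl, Nat.testBit_two_pow, decide_eq_true_eq] at hy
      subst hy
      exact ⟨by simp, fun s hs hn => hin 1 (by simp) r hr s hs hr1 hn⟩
    | succ n ih =>
      intro y hy
      rw [reach, testBit_maskOf, List.mem_flatMap] at hy
      obtain ⟨w, hw, hy⟩ := hy
      obtain ⟨hw1, hw2⟩ := ih w (List.mem_filter.1 hw).2
      simp only [List.mem_cons, List.mem_map, List.mem_range] at hy
      rcases hy with rfl | ⟨g, hg, rfl⟩
      · exact ⟨hw1, hw2⟩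
      · have hw' := List.mem_range'_1.1 hw1
        have hmem : permY g w ∈ Finset.Icc 1 15 :=
          perm_image g hg ▸ Finset.mem_image_of_mem _ (Finset.mem_Icc.2 ⟨hw'.1, by omega⟩)
        rw [Finset.mem_Icc] at hmem
        have hpy : permY g w ∈ List.range' 1 15 := List.mem_range'_1.2 ⟨hmem.1, by omega⟩
        refine ⟨hpy, fun s hs hn => ?_⟩
        obtain ⟨aw, haw⟩ := P.one_of_each hF hw1
        set rw' : Nat := if aw then 0 else 64
        have hrw : rw' < 128 := by cases aw <;> simp [rw']
        have hnw : ¬ Zc z (P.el (st w rw')) := by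
          rw [haw rw' hrw]
          have hz := List.all_eq_true.1 orbits_zero w hw1
          simp only [Bool.and_eq_true] at hz
          cases aw
          · simpa [rw'] using hz.2
          · simpa [rw'] using hz.1
        obtain ⟨c, s', hs', hc, e⟩ := P.coset_move hg hw1 hrw
        have hrel : Rel L (P.el (st w rw')) (P.el (st (permY g w) s')) :=
          ⟨_, hc, (congrArg Subtype.val e).symm⟩
        exact ((hw2 rw' hrw hnw).trans hrel).trans
          (hin _ hpy s' hs' s hs (fun h => hnw (hrel.zc_iff.2 h)) hn)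
  have hall : ∀ m ∈ P.NZ, (m >>> 6) &&& 15 ≠ 0 → Rel L (P.el (st 1 r)) (P.el m) := by
    intro m hm hy
    obtain ⟨hm2, -, hn⟩ := P.mem_NZ.1 hm
    have h := List.all_eq_true.1 st_surj m (List.mem_range.2 hm2)
    simp only [Bool.and_eq_true, beq_iff_eq, decide_eq_true_eq] at h
    have hh : ∀ y < 16, y ≠ 0 → (reach 4).testBit y = true := by rw [reach_ok]; decide +kernel
    rw [← h.1.1] at hn ⊢
    exact (hreach 4 _ (hh _ (lt_of_le_of_lt Nat.and_le_right (by norm_num)) hy)).2 _ h.1.2 hn
  -- out of the plane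
  have hout : ∀ m ∈ P.NZ, Rel L (P.el (st 1 r)) (P.el m) := by
    intro m hm
    by_cases hy : (m >>> 6) &&& 15 = 0
    swap
    · exact hall m hm hy
    obtain ⟨hm2, hm0, hn⟩ := P.mem_NZ.1 hm
    by_contra hno
    let UG : Subgroup G := L.U.map (Cz z).subtype
    let K : Subgroup G :=
      { carrier := {t | ∀ g ∈ NA L, g * t * g⁻¹ ∈ UG}
        one_mem' := fun g _ => by simp
        mul_mem' := fun {s t} hs ht g hg => by
          rw [show g * (s * t) * g⁻¹ = (g * s * g⁻¹) * (g * t * g⁻¹) by group]
          exact mul_mem (hs g hg) (ht g hg)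
        inv_mem' := fun {t} ht g hg => by
          rw [show g * t⁻¹ * g⁻¹ = (g * t * g⁻¹)⁻¹ by group]
          exact inv_mem (ht g hg) }
    have hA : ∀ g ∈ NA L, ∃ m' < 2048, ((P.el m' : Cz z) : G) = g * (P.el m : G) * g⁻¹ := fun g hg =>
      (mem_AG (P := P)).1 ((Subgroup.mem_normalizer_iff.1 hg _).1 ⟨_, P.el_mem, rfl⟩)
    have hK : (P.el m : G) ∈ K := by
      intro g hg
      obtain ⟨m', hm', e⟩ := hA g hg
      have hrel : Rel L (P.el m) (P.el m') := ⟨g, hg, e.symm⟩
      have hy' : (m' >>> 6) &&& 15 = 0 := by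
        by_contra hy'
        refine hno ((hall m' (P.mem_NZ.2 ⟨hm', fun e0 => hy' (by rw [e0]; rfl),
          fun h => hn (hrel.zc_iff.2 h)⟩) hy').trans hrel.symm)
      rw [← e]
      refine ⟨P.el m', ?_, rfl⟩
      rw [Base.el, hy', show P.eY 0 = 1 by simp [Base.eY], mul_one]
      exact L.U.mul_mem (sU_mem L (lt_of_le_of_lt Nat.and_le_right (by norm_num))) (zb_mem L _)
    have hmU : P.el m ∈ L.U := by
      rw [Base.el, hy, show P.eY 0 = 1 by simp [Base.eY], mul_one]
      exact L.U.mul_mem (sU_mem L (lt_of_le_of_lt Nat.and_le_right (by norm_num))) (zb_mem L _)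
    obtain ⟨q, hq, hqe⟩ := L.data.es.exists_conj_ne (L.data.hUQ hmU)
      (fun e => hm0 (P.el_eq_one hm2 e)) (fun e => hn (by rw [e]; exact IsConj.refl z))
    have hzK : z ∈ K := by
      have h2 : ((P.el m * zc z : Cz z) : G) ∈ K := by
        intro g hg
        rw [← hqe]
        have h3 := hK (g * (q : G)) (mul_mem hg (Q_mem_NA L ⟨q, hq⟩))
        convert h3 using 1
        show g * ((q : G) * (P.el m : G) * (q : G)⁻¹) * g⁻¹ = _
        group
      have := mul_mem (inv_mem hK) h2
      rwa [Subgroup.coe_mul, inv_mul_cancel_left] at this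
    obtain ⟨S, -, hAS⟩ := exists_sylow L
    set r' : Nat := if a1 then 64 else 0
    have hr' : r' < 128 := by cases a1 <;> simp [r']
    have hz1 : Zc z (P.el (st 1 r')) := by
      by_contra hcon
      rw [h1 r' hr'] at hcon
      have hd := List.all_eq_true.1 (List.all_eq_true.1 states_ok 1 (by simp)) r' (List.mem_range.2 hr')
      have hz := List.all_eq_true.1 orbits_zero 1 (by simp)
      simp only [Bool.and_eq_true, Bool.not_eq_true'] at hz hd
      cases a1
      · simp only [r', Bool.false_eq_true, ↓reduceIte] at hcon hd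
        rw [hz.1, hcon] at hd
        simp at hd
      · simp only [r', ↓reduceIte] at hcon hd
        rw [hz.2, hcon] at hd
        simp at hd
    obtain ⟨g, hg⟩ := isConj_iff.1 hz1
    obtain ⟨g', hg', hge⟩ := fusion hAS (a := z) ⟨zc z, L.data.U_le_W L.data.hzU, rfl⟩ (g := g)
      (hg.symm ▸ ⟨_, P.el_mem, rfl⟩)
    obtain ⟨u, hu, hue⟩ := hzK g' hg'
    rw [hge, hg] at hue
    have hue' : u = P.el (st 1 r') := Subtype.ext hue
    have hmk : (QuotientGroup.mk (P.eY 1) : (Cz z) ⧸ Q) = QuotientGroup.mk (P.eY 0) := by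
      obtain ⟨-, h2, -⟩ := st_bits 1 (by norm_num) r' hr'
      have := P.mk_el (st 1 r')
      rw [h2, (QuotientGroup.eq_one_iff _).2 (hue' ▸ L.data.hUQ hu)] at this
      rw [← this, show P.eY 0 = 1 by simp [Base.eY], QuotientGroup.mk_one]
    exact absurd (P.eY_mk_inj (by norm_num) (by norm_num) hmk) (by norm_num)
  exact (hout a ha).symm.trans (hout b hb)

end Cfsg.Agent.Lib.FischerLarge43
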