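import Cfsg.Agent.Lib.FischerLarge43.Count
import Cfsg.Agent.Lib.FischerLarge43.Points

/-!
# Large Fischer type: `N(A)/A` is the Mathieu group on 24 points

The 276 elements of `A` outside the class of `z` are the pairs of 24 points; the normaliser acts
faithfully modulo `A`, keeps the code, and is at least as large as the group of the code.

Owner: helper43.
-/

set_option autoImplicit false
set_option linter.style.haveILetI false
set_option linter.unusedSectionVars false
set_option maxRecDepth 100000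

namespace Cfsg.Agent.Lib.FischerLarge43

open Cfsg.Agent.Lib.LargeFischer13
open Cfsg.Agent.Lib.FischerLarge45 (Local Wof zc IsOnlyMax)
open Cfsg.Agent.Lib.FischerLarge45.Model (ap eq_of_basis ap_xor ap_lt)
open Cfsg.Agent.Lib.Golay (ptEquiv indexHom indexHom_apply card_M24)

attribute [local instance] Bridge.acg Bridge.fin Bridge.act

/-- a normaliser acting on 24 points, the pairs being the elements outside the class of `z` -/
structure Pts {G : Type*} [Group G] (z : G) (A : Subgroup G) where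
  φ : ↥(Subgroup.normalizer (A : Set G)) →* Equiv.Perm Cfsg.GolayPt
  range_eq : φ.range = Cfsg.M24
  ker_eq : φ.ker = A.subgroupOf (Subgroup.normalizer (A : Set G))
  tt : Cfsg.GolayPt → Cfsg.GolayPt → G
  mem : ∀ p q, p ≠ q → tt p q ∈ A ∧ tt p q ≠ 1 ∧ ¬ IsConj z (tt p q)
  surj : ∀ a ∈ A, a ≠ 1 → ¬ IsConj z a → ∃ p q, p ≠ q ∧ tt p q = a
  symm : ∀ p q, tt p q = tt q p
  equiv : ∀ (m : ↥(Subgroup.normalizer (A : Set G))) (p q : Cfsg.GolayPt),
    (m : G) * tt p q * (m : G)⁻¹ = tt (φ m p) (φ m q)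
  inj : ∀ p q r s, p ≠ q → r ≠ s → tt p q = tt r s → (p = r ∧ q = s) ∨ (p = s ∧ q = r)

theorem perm_ext {σ τ : Equiv.Perm (Fin 24)} (h : ∀ i k, pvF (σ i) (σ k) = pvF (τ i) (τ k)) : σ = τ := by
  refine Equiv.ext fun i => ?_
  obtain ⟨k, hk⟩ := exists_avoid {i} (by simp)
  obtain ⟨l, hl⟩ := exists_avoid {i, k} (lt_of_le_of_lt Finset.card_le_two (by norm_num))
  simp only [Finset.mem_insert, Finset.mem_singleton, not_or] at hk hl
  have hik : i ≠ k := Ne.symm hk
  have hil : i ≠ l := Ne.symm hl.1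
  rcases pvF_inj (σ.injective.ne hik) (τ.injective.ne hik) (h i k) with ⟨h1, -⟩ | ⟨h1, -⟩
  · exact h1
  rcases pvF_inj (σ.injective.ne hil) (τ.injective.ne hil) (h i l) with ⟨h2, -⟩ | ⟨h2, -⟩
  · exact h2
  · exact absurd (τ.injective (h1.symm.trans h2)) (Ne.symm hl.2)

theorem id_mem_mono27 : ((List.range 12).map fun j => 2 ^ j) ∈ mono27 := by decide +kernel

theorem mono27_keys : ∀ g < 3, stabKeys.getD (8 + g) 0 = monoKeys.getD g 0 := by decide +kernel

theorem ap_id (k : Nat) (a : Nat) (hk : k < 4096) (h : ∀ j < 12, ap a (2 ^ j) = 2 ^ j) : ap a k = k :=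
  eq_of_basis (ap a) id (fun x _ y _ => ap_xor a x y) (fun _ _ _ _ => rfl) h hk

universe u

variable {G : Type u} [Group G] [Finite G] {z : G} {Q : Subgroup (Cz z)} [Q.Normal]
variable {L : Local z Q} (P : Base L)

theorem Base.conj_fun {g : G} (hg : g ∈ NA L) : ∃ f : Nat → Nat,
    ∀ j, f j < 2048 ∧ ((P.el (f j) : Cz z) : G) = g * (P.el j : G) * g⁻¹ := by
  have h : ∀ j, ∃ m < 2048, ((P.el m : Cz z) : G) = g * (P.el j : G) * g⁻¹ := fun j =>
    (mem_AG (P := P)).1 ((Subgroup.mem_normalizer_iff.1 hg _).1 ⟨_, P.el_mem, rfl⟩)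
  choose f hf using h
  exact ⟨f, hf⟩

theorem Base.auto {cb : Nat} (hP : ∀ m < 2048, (m ≠ 0 ∧ ¬ Zc z (P.el m)) ↔ m ∈ ttList cb) {g : G}
    {f : Nat → Nat} (hf : ∀ j, f j < 2048 ∧ ((P.el (f j) : Cz z) : G) = g * (P.el j : G) * g⁻¹) :
    Auto cb f := by
  have hadd : ∀ a < 2048, ∀ b < 2048, f (a ^^^ b) = f a ^^^ f b := fun a ha b hb => by
    refine P.el_inj (hf _).1 (Nat.xor_lt_two_pow (n := 11) (hf a).1 (hf b).1) (Subtype.ext ?_)
    rw [(hf _).2, P.el_xor ha hb, P.el_xor (hf a).1 (hf b).1, Subgroup.coe_mul, Subgroup.coe_mul, (hf a).2,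
      (hf b).2]
    group
  have hinj : ∀ a < 2048, ∀ b < 2048, f a = f b → a = b := fun a ha b hb e => by
    refine P.el_inj ha hb (Subtype.ext ?_)
    have h := (hf a).2
    rw [e, (hf b).2] at h
    exact (mul_left_cancel (mul_right_cancel h)).symm
  refine ⟨fun a _ => (hf a).1, hadd, hinj, fun a ha => ?_⟩
  have hrel : Zc z (P.el (f a)) ↔ Zc z (P.el a) := by
    unfold Zc
    rw [(hf a).2]
    exact ⟨fun h => h.trans (isConj_iff.2 ⟨g⁻¹, by group⟩), fun h => h.trans (isConj_iff.2 ⟨g, rfl⟩)⟩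
  have h0 : f a = 0 ↔ a = 0 := by
    have e0 : f 0 = 0 := by
      have := hadd 0 (by norm_num) 0 (by norm_num)
      simpa using this
    exact ⟨fun e => hinj a ha 0 (by norm_num) (e.trans e0.symm), fun e => e ▸ e0⟩
  rw [← hP _ (hf a).1, ← hP _ ha, hrel, ne_eq, h0]

variable (L) in
theorem card_AG : Nat.card (AG L) = 2 ^ 11 := by
  rw [AG, Subgroup.card_map_of_injective (Cz z).subtype_injective, L.data.card_W]

variable (L) in
theorem ac_pow (w : (Cz z) ⧸ Q) {a : Nat} (h : ∀ k < 4096, L.S.ac w k = ap a k) (n : Nat) :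
    ∀ k < 4096, L.S.ac (w ^ n) k = Nat.repeat (ap a) n k := by
  induction n with
  | zero => intro k hk; rw [pow_zero, L.S.ac_one hk]; rfl
  | succ n ih =>
    intro k hk
    rw [pow_succ', L.S.ac_mul, h _ (L.S.ac_lt _ _), ih k hk]
    rfl

variable (L) in
/-- the part of the centraliser of `z` in the normaliser is large -/
theorem large_stab (hF : Cfsg.IsOfLargeFischerTypeAt z Q) :
    2 ^ 21 * 135 ∣ Nat.card ↥(NA L ⊓ Cz z : Subgroup G) := by
  classical
  haveI : Fact (Nat.Prime 2) := ⟨Nat.prime_two⟩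
  obtain ⟨P⟩ := exists_base L
  set K := NA L ⊓ Cz z
  have hKle : K ≤ Cz z := inf_le_right
  have hQ13 : Nat.card Q = 2 ^ 13 := L.data.cardQ
  have h2 : 2 ^ 21 ∣ Nat.card K := by
    obtain ⟨S, hS, hA⟩ := exists_sylow L
    have hcard : Nat.card (L.T : Subgroup (Cz z)) = 2 ^ 21 := by
      rw [L.T.card_eq_multiplicity, Subgroup.card_eq_card_quotient_mul_card_subgroup Q, L.br.D.cardW, hQ13,
        show (19595520 : ℕ) * 2 ^ 13 = 2 ^ 21 * 76545 by norm_num,
        Nat.factorization_mul (by norm_num) (by norm_num), Finsupp.add_apply,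
        Nat.Prime.factorization_pow (by norm_num),
        Nat.factorization_eq_zero_of_not_dvd (by norm_num : ¬ (2 ∣ 76545))]
      norm_num
    rw [← hcard, ← Subgroup.card_map_of_injective (Cz z).subtype_injective, ← hS]
    refine Subgroup.card_dvd_of_le (le_inf (le_normalizer_of_onlyMax hA) ?_)
    rw [hS]
    exact Subgroup.map_subtype_le _
  choose c hc using fun g : Fin 11 => exists_stab L g.2
  have hcK : ∀ g : Fin 11, (c g : G) ∈ K := fun g => ⟨mem_NA L (P.stab_el g.2 (hc g)).1, (c g).2⟩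
  set Wb := (K.comap (Cz z).subtype).map (QuotientGroup.mk' Q)
  have hW : Nat.card Wb ∣ Nat.card K := by
    refine (Subgroup.card_map_dvd _ _).trans (dvd_of_eq ?_)
    rw [← Subgroup.card_map_of_injective (Cz z).subtype_injective, Subgroup.map_comap_eq_self
      (by rw [Subgroup.range_subtype]; exact hKle)]
  let w : Fin 11 → (Cz z) ⧸ Q := fun g => QuotientGroup.mk (c g)
  have hwW : ∀ g, w g ∈ Wb := fun g => ⟨c g, hcK g, rfl⟩
  have hwac : ∀ g : Fin 11, ∀ k < 4096, L.S.ac (w g) k = ap (stabKeys.getD g.1 0) k := hc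
  -- the 27
  let lst : (Cz z) ⧸ Q → List Nat := fun v => (List.range 12).map fun j => L.S.ac v (2 ^ j)
  have hpow : ∀ j ∈ List.range 12, (2 : Nat) ^ j < 4096 := fun j hj =>
    lt_of_lt_of_le (Nat.pow_lt_pow_right (by norm_num) (List.mem_range.1 hj)) (by norm_num)
  let H0 : Submonoid ((Cz z) ⧸ Q) :=
    { carrier := {v | ∀ u, lst u ∈ mono27 → lst (v * u) ∈ mono27}
      one_mem' := fun u hu => by rwa [one_mul]
      mul_mem' := fun {a b} ha hb u hu => by rw [mul_assoc]; exact ha _ (hb u hu) }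
  set C27 := Subgroup.closure ({w 8, w 9, w 10} : Set ((Cz z) ⧸ Q))
  have hclo : ∀ v ∈ C27, lst v ∈ mono27 := by
    intro v hv
    have hle : C27.toSubmonoid ≤ H0 := by
      rw [Subgroup.closure_toSubmonoid_of_finite, Submonoid.closure_le]
      intro v hv u hu
      obtain ⟨g, hg, rfl⟩ : ∃ g, g < 3 ∧ v = w ⟨(8 + g) % 11, Nat.mod_lt _ (by norm_num)⟩ := by
        rcases hv with rfl | rfl | rfl
        exacts [⟨0, by norm_num, rfl⟩, ⟨1, by norm_num, rfl⟩, ⟨2, by norm_num, rfl⟩]
      have h := List.all_eq_true.1 (List.all_eq_true.1 mono27_closed _ hu) (monoKeys.getD g 0) (by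
        have : g = 0 ∨ g = 1 ∨ g = 2 := by omega
        rcases this with rfl | rfl | rfl <;> simp [monoKeys])
      rw [List.contains_iff_mem] at h
      refine (congrArg (fun l => l ∈ mono27) ?_).mpr h
      show ((List.range 12).map fun j => L.S.ac (_ * u) (2 ^ j)) = ((List.range 12).map _).map _
      rw [List.map_map]
      refine List.map_congr_left fun j hj => ?_
      rw [L.S.ac_mul, hwac _ _ (L.S.ac_lt _ _)]
      show ap (stabKeys.getD ((8 + g) % 11) 0) _ = _
      rw [show (8 + g) % 11 = 8 + g by omega, mono27_keys g hg]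
      rfl
    have h1 : lst 1 ∈ mono27 := by
      have e : lst 1 = (List.range 12).map fun j => 2 ^ j :=
        List.map_congr_left fun j hj => L.S.ac_one (hpow j hj)
      rw [e]
      exact id_mem_mono27
    have := hle hv 1 h1
    rwa [mul_one] at this
  have h27 : Nat.card C27 = 27 := by
    have hreal : ∀ t ∈ mono27, ∃ v ∈ C27, lst v = t := by
      intro t ht
      simp only [mono27, List.mem_flatMap, List.mem_map, List.mem_range] at ht
      obtain ⟨a, -, b, -, e, -, rfl⟩ := ht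
      have m8 : w 8 ∈ C27 := Subgroup.subset_closure (by simp)
      have m9 : w 9 ∈ C27 := Subgroup.subset_closure (by simp)
      have m10 : w 10 ∈ C27 := Subgroup.subset_closure (by simp)
      refine ⟨w 8 ^ a * (w 9 ^ b * w 10 ^ e), mul_mem (pow_mem m8 a) (mul_mem (pow_mem m9 b) (pow_mem m10 e)),
        List.map_congr_left fun j hj => ?_⟩
      have hk := hpow j hj
      rw [L.S.ac_mul, L.S.ac_mul, ac_pow L (w 10) (hwac 10) e _ hk]
      have h2 : Nat.repeat (ap (stabKeys.getD ((10 : Fin 11).1) 0)) e (2 ^ j) < 4096 := by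
        rw [← ac_pow L (w 10) (hwac 10) e _ hk]; exact L.S.ac_lt _ _
      rw [ac_pow L (w 9) (hwac 9) b _ h2]
      have h3 : Nat.repeat (ap (stabKeys.getD ((9 : Fin 11).1) 0)) b
          (Nat.repeat (ap (stabKeys.getD ((10 : Fin 11).1) 0)) e (2 ^ j)) < 4096 := by
        rw [← ac_pow L (w 9) (hwac 9) b _ h2]; exact L.S.ac_lt _ _
      rw [ac_pow L (w 8) (hwac 8) a _ h3]
      rfl
    rw [← mono27_ok.1, ← List.toFinset_card_of_nodup mono27_ok.2, ← Nat.card_eq_finsetCard]
    refine Nat.card_congr (Equiv.ofBijective (fun v => ⟨lst v.1, List.mem_toFinset.2 (hclo v.1 v.2)⟩) ⟨?_, ?_⟩)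
    · intro a b e
      have e' : lst a.1 = lst b.1 := congrArg Subtype.val e
      refine Subtype.ext (L.S.eq_of_ac fun k hk => ?_)
      refine eq_of_basis _ _ (fun x _ y _ => L.S.ac_xor _ x y) (fun x _ y _ => L.S.ac_xor _ x y) (fun j hj => ?_) hk
      exact List.map_inj_left.1 e' j (List.mem_range.2 hj)
    · rintro ⟨t, ht⟩
      obtain ⟨v, hv, e⟩ := hreal t (List.mem_toFinset.1 ht)
      exact ⟨⟨v, hv⟩, Subtype.ext e⟩
  have hC27 : 27 ∣ Nat.card Wb := by
    rw [← h27]
    refine Subgroup.card_dvd_of_le ((Subgroup.closure_le _).2 ?_)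
    intro v hv
    rcases hv with rfl | rfl | rfl <;> exact hwW _
  -- the five
  let v5 : (Cz z) ⧸ Q := w 10 * (w 7 * w 4)
  have hv5 : ∀ k < 4096, L.S.ac v5 k = wapp fiveWord k := fun k hk => by
    show L.S.ac (w 10 * (w 7 * w 4)) k = wapp fiveWord k
    rw [L.S.ac_mul, L.S.ac_mul, hwac 4 k hk, hwac 7 _ (ap_lt _ _), hwac 10 _ (ap_lt _ _)]
    rfl
  have h5 : orderOf v5 = 5 := by
    haveI : Fact (Nat.Prime 5) := ⟨by norm_num⟩
    refine orderOf_eq_prime ?_ ?_
    · refine L.S.eq_of_ac fun k hk => ?_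
      rw [L.S.ac_one hk]
      have hp : ∀ j < 12, L.S.ac (v5 ^ 5) (2 ^ j) = 2 ^ j := fun j hj => by
        have h := List.all_eq_true.1 five_ok j (List.mem_range.2 hj)
        rw [beq_iff_eq] at h
        have hk := hpow j (List.mem_range.2 hj)
        have happ : ∀ l l' (v : Nat), wapp (l ++ l') v = wapp l (wapp l' v) := by
          intro l l' v
          induction l with
          | nil => rfl
          | cons a l ih => simp only [List.cons_append, wapp, ih]
        have hlt : ∀ v < 4096, wapp fiveWord v < 4096 := fun v hv => by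
          rw [← hv5 v hv]; exact L.S.ac_lt _ _
        simp only [happ] at h
        rw [show v5 ^ 5 = v5 * (v5 * (v5 * (v5 * v5))) by simp only [pow_succ, pow_zero, one_mul, mul_assoc]]
        simp only [L.S.ac_mul]
        rw [hv5 _ hk, hv5 _ (hlt _ hk), hv5 _ (hlt _ (hlt _ hk)), hv5 _ (hlt _ (hlt _ (hlt _ hk))),
          hv5 _ (hlt _ (hlt _ (hlt _ (hlt _ hk))))]
        exact h
      exact eq_of_basis _ id (fun x _ y _ => L.S.ac_xor _ x y) (fun _ _ _ _ => rfl) hp hk
    · intro e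
      have : (List.range 12).all (fun j => wapp fiveWord (2 ^ j) == 2 ^ j) = true :=
        List.all_eq_true.2 fun j hj => by
          rw [beq_iff_eq, ← hv5 _ (hpow j hj), e, L.S.ac_one (hpow j hj)]
      rw [five_ne] at this
      exact absurd this (by simp)
  have hW5 : 5 ∣ Nat.card Wb := by
    rw [← h5, ← Nat.card_zpowers]
    exact Subgroup.card_dvd_of_le (Subgroup.zpowers_le.2 (mul_mem (hwW _) (mul_mem (hwW _) (hwW _))))
  have h135 : 135 ∣ Nat.card K :=
    ((show Nat.Coprime 27 5 by norm_num).mul_dvd_of_dvd_of_dvd hC27 hW5).trans hW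
  exact (show Nat.Coprime (2 ^ 21) 135 by norm_num).mul_dvd_of_dvd_of_dvd h2 h135

variable (L) in
/-- The structure of the normaliser of `A`, in the coordinates of a normal base. -/
theorem exists_pts_el (hF : Cfsg.IsOfLargeFischerTypeAt z Q) :
    ∃ (P : Base L) (Pt : Pts z (AG L)), (∀ m < 2048, (m ≠ 0 ∧ ¬ Zc z (P.el m)) ↔ m ∈ ttList cb0) ∧
      ∀ p q, Pt.tt p q = (P.el (pvF (ptEquiv.symm p) (ptEquiv.symm q)) : G) := by
  classical
  obtain ⟨P, cb, hcb, hP⟩ := exists_normal_base L hF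
  have hNZ : P.NZ = (ttList cb).toFinset := by
    ext m
    rw [P.mem_NZ, List.mem_toFinset]
    exact ⟨fun h => (hP m h.1).1 h.2, fun h => ⟨(ttList_lt h).1, (hP m (ttList_lt h).1).2 h⟩⟩
  have hcb0 : cb = cb0 := by
    refine eq_cb0 hcb fun a ha b hb => ?_
    obtain ⟨g, hg, e⟩ := P.transitive hF (hNZ ▸ List.mem_toFinset.2 ha) (hNZ ▸ List.mem_toFinset.2 hb)
    obtain ⟨f, hf⟩ := P.conj_fun hg
    exact ⟨f, P.auto hP hf, P.el_inj (hf a).1 (ttList_lt hb).1 (Subtype.ext ((hf a).2.trans e))⟩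
  subst hcb0
  obtain ⟨S, -, hA⟩ := exists_sylow L
  have hzA : z ∈ AG L := ⟨zc z, L.data.U_le_W L.data.hzU, rfl⟩
  choose f hf using fun g : NA L => P.conj_fun g.2
  have hauto : ∀ g, Auto cb0 (f g) := fun g => P.auto hP (hf g)
  choose σ hσ using fun g => (hauto g).exists_perm
  have hdef : ∀ (g : NA L) (i k : Fin 24),
      (g : G) * (P.el (pvF i k) : G) * (g : G)⁻¹ = (P.el (pvF (σ g i) (σ g k)) : G) := fun g i k => by
    rw [← (hf g _).2, hσ]
  have huniq : ∀ (g : NA L) (τ : Equiv.Perm (Fin 24)),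
      (∀ i k, (g : G) * (P.el (pvF i k) : G) * (g : G)⁻¹ = (P.el (pvF (τ i) (τ k)) : G)) → σ g = τ := by
    intro g τ h
    refine perm_ext fun i k => P.el_inj (pvF_lt _ _) (pvF_lt _ _) (Subtype.ext ?_)
    rw [← hdef, h]
  let φ : NA L →* Equiv.Perm Cfsg.GolayPt := MonoidHom.mk' (fun g => indexHom (σ g)) fun g g' => by
    rw [← map_mul]
    refine congrArg indexHom (huniq _ _ fun i k => ?_)
    rw [Equiv.Perm.mul_apply, Equiv.Perm.mul_apply, ← hdef, ← hdef, Subgroup.coe_mul]
    group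
  have hker : φ.ker = (AG L).subgroupOf (NA L) := by
    ext g
    rw [MonoidHom.mem_ker, Subgroup.mem_subgroupOf]
    constructor
    · intro h
      have h1 : σ g = 1 := indexHom.injective (by rw [map_one]; exact h)
      have hid : ∀ a < 2048, f g a = a := fun a ha => (hauto g).eq_id (fun i k => by rw [hσ, h1]; rfl) ha
      have hcomm : ∀ a ∈ AG L, (g : G) * a = a * (g : G) := by
        intro a ha
        obtain ⟨m, hm, rfl⟩ := (mem_AG (P := P)).1 ha
        have := (hf g m).2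
        rw [hid m hm] at this
        exact (mul_inv_eq_iff_eq_mul.1 this.symm)
      let c : Cz z := ⟨g, Subgroup.mem_centralizer_singleton_iff.2 (hcomm z hzA)⟩
      exact ⟨c, centralizer_W L (c := c) fun a ha => Subtype.ext (hcomm a ⟨a, ha, rfl⟩), rfl⟩
    · intro h
      have : σ g = 1 := huniq g 1 fun i k => by
        obtain ⟨a, ha, e⟩ := h
        rw [← e]
        have hc := congrArg Subtype.val (commW L ha (P.el_mem (m := pvF i k))).eq
        rw [Subgroup.coe_mul, Subgroup.coe_mul] at hc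
        show (a : G) * _ * (a : G)⁻¹ = _
        rw [hc, mul_inv_cancel_right]
        rfl
      show indexHom (σ g) = 1
      rw [this, map_one]
  have hle : φ.range ≤ Cfsg.M24 := by
    rintro _ ⟨g, rfl⟩
    exact perm_mem_M24 (hauto g) (hσ g)
  have hrange : φ.range = Cfsg.M24 := by
    refine Subgroup.eq_of_le_of_card_ge hle ?_
    have h1 := Subgroup.card_eq_card_quotient_mul_card_subgroup φ.ker
    rw [Nat.card_congr (QuotientGroup.quotientKerEquivRange φ).toEquiv, hker,
      Nat.card_congr (Subgroup.subgroupOfEquivOfLe (H := AG L) (K := NA L) Subgroup.le_normalizer).toEquiv, card_AG L] at h1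
    obtain ⟨h2, -⟩ := card_class_mul hA hzA
    have hc : Nat.card {a : AG L // IsConj z a.1} = 1771 := by
      have h := P.card_class
      rw [hNZ, List.toFinset_card_of_nodup (ttList_nodup _), ttList_len] at h
      omega
    rw [hc] at h2
    obtain ⟨t, ht⟩ := large_stab L hF
    rw [show Subgroup.normalizer (AG L : Set G) = NA L from rfl] at h2
    rw [ht, h1] at h2
    have hpos : 1 ≤ Nat.card φ.range := Nat.card_pos
    rw [card_M24]
    generalize Nat.card φ.range = R at h2 hpos ⊢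
    norm_num at h2 ⊢
    rcases Nat.eq_zero_or_pos t with e | e
    · subst e; omega
    · omega
  let ix : Cfsg.GolayPt → Fin 24 := fun p => ptEquiv.symm p
  refine ⟨P, ⟨φ, hrange, hker, fun p q => (P.el (pvF (ix p) (ix q)) : G), fun p q hpq => ?_, fun a ha ha1 hac => ?_,
    fun p q => by rw [pvF_comm], fun m p q => ?_, fun p q r s hpq hrs e => ?_⟩, hP, fun p q => rfl⟩
  · have hmem := pvF_mem (ptEquiv.symm.injective.ne hpq)
    have h := (hP _ (pvF_lt _ _)).2 hmem
    refine ⟨⟨_, P.el_mem, rfl⟩, fun e => h.1 (P.el_eq_one (pvF_lt _ _) (Subtype.ext e)), h.2⟩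
  · obtain ⟨m, hm, rfl⟩ := (mem_AG (P := P)).1 ha
    have hm0 : m ≠ 0 := fun e => ha1 (by rw [e, P.el_zero]; rfl)
    obtain ⟨i, k, hik, e⟩ := pvF_surj ((hP m hm).1 ⟨hm0, hac⟩)
    refine ⟨ptEquiv i, ptEquiv k, ptEquiv.injective.ne hik, ?_⟩
    simp only [ix, Equiv.symm_apply_apply, e]
  · refine (hdef m (ix p) (ix q)).trans ?_
    show _ = (P.el (pvF (ix (indexHom (σ m) p)) (ix (indexHom (σ m) q))) : G)
    simp only [ix, indexHom_apply, Equiv.symm_apply_apply]
  · rcases pvF_inj (ptEquiv.symm.injective.ne hpq) (ptEquiv.symm.injective.ne hrs)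
      (P.el_inj (pvF_lt _ _) (pvF_lt _ _) (Subtype.ext e)) with ⟨h1, h2⟩ | ⟨h1, h2⟩
    · exact Or.inl ⟨ptEquiv.symm.injective h1, ptEquiv.symm.injective h2⟩
    · exact Or.inr ⟨ptEquiv.symm.injective h1, ptEquiv.symm.injective h2⟩

variable (L) in
/-- The structure of the normaliser of `A`. -/
theorem exists_pts (hF : Cfsg.IsOfLargeFischerTypeAt z Q) : Nonempty (Pts z (AG L)) := by
  obtain ⟨-, Pt, -, -⟩ := exists_pts_el L hF
  exact ⟨Pt⟩

end Cfsg.Agent.Lib.FischerLarge43
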