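import Cfsg.Agent.Lib.FischerLarge43.Final

/-!
# The centraliser of an involution outside the class is the stabiliser of a pair

Owner: helper43.
-/

set_option autoImplicit false
set_option linter.style.haveILetI false

namespace Cfsg.Agent.Lib.FischerLarge43

open scoped Pointwise

universe u

variable {G : Type u} [Group G] [Finite G] {z t : G} {A : Subgroup G}

theorem pair_stabiliser (hel : Cfsg.IsElementaryAbelian 2 A) (P : Pts z A) (htA : t ∈ A) (ht2 : orderOf t = 2)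
    (ht : ¬ IsConj z t) :
    ∃ _ : (A.subgroupOf (Subgroup.normalizer (A : Set G) ⊓ Subgroup.centralizer ({t} : Set G))).Normal,
      Nonempty (↥(Subgroup.normalizer (A : Set G) ⊓ Subgroup.centralizer ({t} : Set G)) ⧸
          A.subgroupOf (Subgroup.normalizer (A : Set G) ⊓ Subgroup.centralizer ({t} : Set G)) ≃*
        ↥(Cfsg.M24 ⊓ MulAction.stabilizer (Equiv.Perm Cfsg.GolayPt) ({none, some 0} : Set Cfsg.GolayPt))) := by
  have ht1 : t ≠ 1 := fun e => by simp [e] at ht2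
  obtain ⟨p, q, hpq, rfl⟩ := P.surj t htA ht1 ht
  set N := Subgroup.normalizer (A : Set G)
  set K := N ⊓ Subgroup.centralizer ({P.tt p q} : Set G)
  haveI := Golay.multiply_pretransitive
  haveI : MulAction.IsMultiplyPretransitive Cfsg.M24 Cfsg.GolayPt 2 :=
    MulAction.isMultiplyPretransitive_of_le (n := 5) (by norm_num) (by simp [Cfsg.GolayPt])
  have hne : (none : Cfsg.GolayPt) ≠ some 0 := by simp
  obtain ⟨⟨σ, hσ⟩, h1, h2⟩ := MulAction.is_two_pretransitive_iff.1 this hne hpq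
  have hpair : σ • ({none, some 0} : Set Cfsg.GolayPt) = {p, q} := by
    rw [Set.smul_set_insert, Set.smul_set_singleton]
    exact congrArg₂ (fun a b => ({a, b} : Set Cfsg.GolayPt)) h1 h2
  let ψ : K →* Equiv.Perm Cfsg.GolayPt :=
    (MulAut.conj σ⁻¹).toMonoidHom.comp (P.φ.comp (Subgroup.inclusion (inf_le_left : K ≤ N)))
  have hψ : ∀ m : K, ψ m = σ⁻¹ * P.φ ⟨m.1, (Subgroup.mem_inf.1 m.2).1⟩ * σ := fun m => by
    show σ⁻¹ * P.φ ⟨m.1, (Subgroup.mem_inf.1 m.2).1⟩ * σ⁻¹⁻¹ = _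
    rw [inv_inv]
  have hker : ψ.ker = A.subgroupOf K := by
    ext m
    rw [MonoidHom.mem_ker, Subgroup.mem_subgroupOf, hψ]
    have e : P.φ ⟨m.1, (Subgroup.mem_inf.1 m.2).1⟩ = 1 ↔ m.1 ∈ A := by
      rw [← MonoidHom.mem_ker, P.ker_eq, Subgroup.mem_subgroupOf]
    rw [← e]
    constructor
    · intro h
      have := congrArg (fun x => σ * x * σ⁻¹) h
      simpa [mul_assoc] using this
    · intro h
      rw [h, mul_one, inv_mul_cancel]
  have hrange : ψ.range = Cfsg.M24 ⊓ MulAction.stabilizer (Equiv.Perm Cfsg.GolayPt)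
      ({none, some 0} : Set Cfsg.GolayPt) := by
    refine le_antisymm ?_ ?_
    · rintro _ ⟨m, rfl⟩
      rw [Subgroup.mem_inf, hψ]
      have hm : P.φ ⟨m.1, (Subgroup.mem_inf.1 m.2).1⟩ ∈ Cfsg.M24 := P.range_eq ▸ ⟨_, rfl⟩
      refine ⟨mul_mem (mul_mem (inv_mem hσ) hm) hσ, MulAction.mem_stabilizer_iff.2 ?_⟩
      rw [mul_smul, mul_smul, hpair, (P.centralizer_iff hpq ⟨m.1, (Subgroup.mem_inf.1 m.2).1⟩).1 (Subgroup.mem_inf.1 m.2).2, inv_smul_eq_iff, hpair]
    · intro τ hτ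
      obtain ⟨hτ1, hτ2⟩ := Subgroup.mem_inf.1 hτ
      rw [MulAction.mem_stabilizer_iff] at hτ2
      have : σ * τ * σ⁻¹ ∈ P.φ.range := P.range_eq.symm ▸ mul_mem (mul_mem hσ hτ1) (inv_mem hσ)
      obtain ⟨m, hm⟩ := this
      have hs : P.φ m • ({p, q} : Set Cfsg.GolayPt) = {p, q} := by
        rw [hm, mul_smul, mul_smul, ← hpair, inv_smul_smul, hτ2]
      refine ⟨⟨m.1, Subgroup.mem_inf.2 ⟨m.2, (P.centralizer_iff hpq m).2 hs⟩⟩, ?_⟩
      rw [hψ]
      show σ⁻¹ * P.φ m * σ = τ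
      rw [hm]
      group
  haveI hN : (A.subgroupOf K).Normal := hker ▸ inferInstance
  exact ⟨hN, ⟨((QuotientGroup.quotientMulEquivOfEq hker.symm).trans
    (QuotientGroup.quotientKerEquivRange ψ)).trans (MulEquiv.subgroupCongr hrange)⟩⟩

end Cfsg.Agent.Lib.FischerLarge43
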